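import Mathlib
import Cfsg.Agent.BaumannBlock.Structure
import Cfsg.Agent.BaumannBlock.CentModule.SL2Facts
import Cfsg.Agent.BaumannBlock.CentModule.Assemble
import Cfsg.Agent.Eq.Def_BaumannBlocks

/-!
Coordinates on the module `U = [Ω₁Z(O_p(G)), E]` of a block.
-/

set_option autoImplicit false

open scoped MatrixGroups commutatorElement

namespace CfsgLib.BaumannBlock.Subnormal

open Cfsg

variable {G : Type*} [Group G] {p : ℕ}

/-- The module of a block. -/
def blockMod (p : ℕ) (E : Subgroup G) : Subgroup G := ⁅omegaOneCenter p (pCore p G), E⁆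

/-- `E` is a block for some Sylow subgroup, in a group of characteristic `p`. -/
def IsBlock (p : ℕ) (E : Subgroup G) : Prop :=
  Subgroup.centralizer (pCore p G : Set G) ≤ pCore p G ∧ ∃ T : Sylow p G, IsBaumannBlock p (T : Subgroup G) E

/-- The elementary facts about a block and its module. -/
structure Facts (p : ℕ) (E : Subgroup G) : Prop where
  res : pResidualOf p E = E
  O_le : pCore p G ≤ Subgroup.normalizer (E : Set G)
  le_V : blockMod p E ≤ omegaOneCenter p (pCore p G)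
  le_W : blockMod p E ≤ omegaOneCenter p (pCoreOf p E)
  W_comm : ⁅omegaOneCenter p (pCoreOf p E), E⁆ = blockMod p E
  idem : ⁅blockMod p E, E⁆ = blockMod p E
  ne_bot : blockMod p E ≠ ⊥
  normU : E ≤ Subgroup.normalizer (blockMod p E : Set G)
  irr : ∀ U₁ : Subgroup G, E ≤ Subgroup.normalizer (U₁ : Set G) → U₁ ≤ blockMod p E →
    U₁ ≤ Subgroup.centralizer (E : Set G) ∨ U₁ = blockMod p E

theorem blockMod_comm (E : Subgroup G) [Finite G] [Fact p.Prime] (h : IsBlock p E) :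
    ∀ a ∈ blockMod p E, ∀ b ∈ blockMod p E, a * b = b * a := by
  obtain ⟨hG, T, hE⟩ := h
  exact fun a ha b hb =>
    omegaOneCenter_comm _ ((block_commutator_eq hG T hE).2.1 ha) ((block_commutator_eq hG T hE).2.1 hb)

theorem IsBlock.facts [Finite G] [Fact p.Prime] {E : Subgroup G} (h : IsBlock p E) : Facts p E := by
  obtain ⟨hG, T, hE⟩ := h
  obtain ⟨heq, hUW, hUU, hne, hUZ, hON⟩ := block_commutator_eq hG T hE
  obtain ⟨hEW, hirr, -⟩ := block_module hE
  have hVE : E ≤ Subgroup.normalizer (omegaOneCenter p (pCore p G) : Set G) := fun e _ =>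
    CentModule.normalizer_le_normalizer_omegaOneCenter _ (by
      rw [Subgroup.normalizer_eq_top_iff.2 (CfsgLib.Constrained.instNormalPCore p)]; exact Subgroup.mem_top e)
  have hUV : blockMod p E ≤ omegaOneCenter p (pCore p G) := by
    rw [blockMod, Subgroup.commutator_le]
    intro v hv e he
    rw [commutatorElement_def, show v * e * v⁻¹ * e⁻¹ = v * (e * v⁻¹ * e⁻¹) by group]
    exact mul_mem hv ((Subgroup.mem_normalizer_iff.1 (hVE he) _).1 (inv_mem hv))
  have hnU : E ≤ Subgroup.normalizer (blockMod p E : Set G) := fun e he => by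
    rw [Subgroup.mem_normalizer_iff_map_conj_eq, blockMod, Subgroup.map_commutator,
      Subgroup.mem_normalizer_iff_map_conj_eq.1 (hVE he),
      Subgroup.mem_normalizer_iff_map_conj_eq.1 (Subgroup.le_normalizer he)]
  refine ⟨hE.1, hON, hUV, hUW, heq, hUU, hne, hnU, fun U₁ hn hle => ?_⟩
  set W := omegaOneCenter p (pCoreOf p E) with hW
  set Z₀ := W ⊓ Subgroup.centralizer (E : Set G) with hZ₀
  have hZn : E ≤ Subgroup.normalizer (Z₀ : Set G) := fun e he => by
    rw [Subgroup.mem_normalizer_iff_map_conj_eq, Subgroup.map_inf _ _ _ (MulAut.conj e).injective,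
      Subgroup.mem_normalizer_iff_map_conj_eq.1 (hEW he),
      Subgroup.mem_normalizer_iff_map_conj_eq.1
        (CentModule.normalizer_le_normalizer_centralizer E (Subgroup.le_normalizer he))]
  have hsup : E ≤ Subgroup.normalizer ((U₁ ⊔ Z₀ : Subgroup G) : Set G) := fun e he => by
    rw [Subgroup.mem_normalizer_iff_map_conj_eq, Subgroup.map_sup,
      Subgroup.mem_normalizer_iff_map_conj_eq.1 (hn he), Subgroup.mem_normalizer_iff_map_conj_eq.1 (hZn he)]
  rcases hirr (U₁ ⊔ Z₀) hsup le_sup_right (sup_le (hle.trans hUW) inf_le_left) with h | h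
  · exact Or.inl ((le_sup_left.trans h).trans inf_le_right)
  refine Or.inr (le_antisymm hle ?_)
  show ⁅omegaOneCenter p (pCore p G), E⁆ ≤ U₁
  rw [← heq, Subgroup.commutator_le]
  intro w hw e he
  have hUN : U₁ ≤ Subgroup.normalizer (Z₀ : Set G) := fun u hu => by
    have key : ∀ z ∈ Z₀, u * z * u⁻¹ = z := fun z hz => by
      rw [omegaOneCenter_comm _ (hUW (hle hu)) hz.1, mul_inv_cancel_right]
    rw [Subgroup.mem_normalizer_iff]
    refine fun z => ⟨fun hz => by rwa [key z hz], fun hz => ?_⟩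
    have h1 := key _ hz
    rw [mul_inv_eq_iff_eq_mul] at h1
    rwa [mul_left_cancel (h1.trans (inv_mul_cancel_right _ _))] at hz
  rw [← h, ← SetLike.mem_coe, Subgroup.coe_mul_of_left_le_normalizer_right U₁ Z₀ hUN] at hw
  obtain ⟨u, hu, z, hz, rfl⟩ := hw
  have h1 : ⁅z, e⁆ = 1 :=
    commutatorElement_eq_one_iff_mul_comm.2 (Subgroup.mem_centralizer_iff.1 hz.2 e he).symm
  rw [show ⁅u * z, e⁆ = u * ⁅z, e⁆ * u⁻¹ * ⁅u, e⁆ by simp only [commutatorElement_def]; group,
    h1, mul_one, mul_inv_cancel, one_mul, commutatorElement_def,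
    show u * e * u⁻¹ * e⁻¹ = u * (e * u⁻¹ * e⁻¹) by group]
  exact mul_mem hu ((Subgroup.mem_normalizer_iff.1 (hn he) _).1 (inv_mem hu))

theorem pCoreOf_le_centralizer [Finite G] [Fact p.Prime] {E : Subgroup G} (h : IsBlock p E) :
    pCoreOf p E ≤ Subgroup.centralizer (blockMod p E : Set G) :=
  Subgroup.le_centralizer_iff.1 (h.facts.le_W.trans (omegaOneCenter_le_centralizer _))

theorem ker_iff [Finite G] {E : Subgroup G} {R : Type*} [Group R] (S : Subgroup R) (ρ : E →* R)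
    (hρ : ρ.range = S) (iso : Nonempty (↥E ⧸ pCore p ↥E ≃* S))
    (hQ : ∀ e : E, (e : G) ∈ pCoreOf p E → ρ e = 1) :
    ∀ e : E, ρ e = 1 ↔ (e : G) ∈ pCoreOf p E := by
  obtain ⟨iso⟩ := iso
  refine fun e => ⟨fun he => ?_, hQ e⟩
  have hle : pCore p E ≤ ρ.ker := fun x hx => hQ x ⟨x, hx, rfl⟩
  have hi : ρ.ker.index = (pCore p E).index := by
    rw [Subgroup.index_ker, hρ, Subgroup.index_eq_card, Nat.card_congr iso.toEquiv]
  have h1 := Subgroup.relIndex_mul_index hle
  rw [hi] at h1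
  have h2 : (pCore p E).relIndex ρ.ker = 1 :=
    Nat.eq_of_mul_eq_mul_right (Nat.pos_of_ne_zero Subgroup.index_ne_zero_of_finite) (by rw [one_mul]; exact h1)
  exact ⟨e, Subgroup.relIndex_eq_one.1 h2 he, rfl⟩

/-- Coordinates of a linear block on its module. -/
structure LinCoords (p : ℕ) (E : Subgroup G) (F : Type) [Field F] where
  ρ : E →* SL(2, F)
  ψ : blockMod p E →* Multiplicative (Fin 2 → F)
  range_eq : ρ.range = commutator SL(2, F)
  surj : Function.Surjective ψ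
  ker : ∀ u, ψ u = 1 ↔ (u : G) ∈ Subgroup.centralizer (E : Set G)
  ρ_ker : ∀ e : E, ρ e = 1 ↔ (e : G) ∈ pCoreOf p E
  compat : ∀ (e : E) (u u' : blockMod p E), (u' : G) = e * u * (e : G)⁻¹ →
    (ψ u').toAdd = (ρ e).1.mulVec (ψ u).toAdd
  card_eq : ∃ n, Nat.card F = p ^ n

/-- Coordinates of a symmetric block on its module. -/
structure AltCoords (p : ℕ) (E : Subgroup G) (m : ℕ) where
  ρ : E →* Equiv.Perm (Fin (2 * m + 1))
  ψ : blockMod p E →* Multiplicative (Fin (2 * m + 1) → ZMod 2)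
  range_eq : ρ.range = alternatingGroup (Fin (2 * m + 1))
  even : ∀ u, ∑ i, (ψ u).toAdd i = 0
  surj : ∀ v : Fin (2 * m + 1) → ZMod 2, ∑ i, v i = 0 → ∃ u, (ψ u).toAdd = v
  ker : ∀ u, ψ u = 1 ↔ (u : G) ∈ Subgroup.centralizer (E : Set G)
  ρ_ker : ∀ e : E, ρ e = 1 ↔ (e : G) ∈ pCoreOf p E
  compat : ∀ (e : E) (u u' : blockMod p E), (u' : G) = e * u * (e : G)⁻¹ →
    ∀ i, (ψ u').toAdd i = (ψ u).toAdd ((ρ e)⁻¹ i)
  p_eq : p = 2
  m_pos : 1 ≤ m

theorem mulVec_ext {F : Type*} [Field F] {g h : SL(2, F)} (H : ∀ x, g.1.mulVec x = h.1.mulVec x) : g = h :=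
  Subtype.ext (Matrix.mulVec_injective (funext H))

theorem perm_ext {m : ℕ} (hm : 1 ≤ m) {σ : Equiv.Perm (Fin (2 * m + 1))}
    (h : ∀ v : Fin (2 * m + 1) → ZMod 2, ∑ i, v i = 0 → ∀ i, v (σ⁻¹ i) = v i) : σ = 1 := by
  refine inv_eq_one.1 (Equiv.ext fun i => ?_)
  by_contra hi
  rw [Equiv.Perm.one_apply] at hi
  obtain ⟨k, hk⟩ : ∃ k, k ∉ ({i, σ⁻¹ i} : Finset (Fin (2 * m + 1))) := by
    by_contra hall
    push Not at hall
    have h2 := Finset.card_le_card (s := Finset.univ) fun x _ => hall x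
    rw [Finset.card_univ, Fintype.card_fin] at h2
    have h3 := Finset.card_le_two (a := i) (b := σ⁻¹ i)
    omega
  simp only [Finset.mem_insert, Finset.mem_singleton, not_or] at hk
  have := h (Pi.single i 1 + Pi.single k 1) (by
    simp only [Pi.add_apply, Finset.sum_add_distrib, Finset.sum_pi_single', Finset.mem_univ, if_true]
    rfl) i
  rw [Pi.add_apply, Pi.add_apply, Pi.single_eq_of_ne hi, Pi.single_eq_of_ne (Ne.symm hk.2), Pi.single_eq_same,
    Pi.single_eq_of_ne (Ne.symm hk.1), add_zero, add_zero] at this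
  exact zero_ne_one this

theorem exists_coords [Finite G] [Fact p.Prime] {E : Subgroup G} (h : IsBlock p E) :
    (∃ (F : Type) (_ : Field F) (_ : Finite F), Nonempty (LinCoords p E F)) ∨
      ∃ m, Nonempty (AltCoords p E m) := by
  have hf := h.facts
  obtain ⟨hG, T, hE⟩ := h
  obtain ⟨heq, hUW, -, -, hUZ, -⟩ := block_commutator_eq hG T hE
  set W := omegaOneCenter p (pCoreOf p E) with hW
  set Z₀ := W ⊓ Subgroup.centralizer (E : Set G) with hZ₀
  set ι := Subgroup.inclusion hUW with hι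
  have hQW : ∀ q ∈ pCoreOf p E, ∀ w ∈ W, q * w * q⁻¹ = w := fun q hq w hw => by
    rw [Subgroup.mem_centralizer_iff.1 (omegaOneCenter_le_centralizer _ hw) q hq, mul_inv_cancel_right]
  have hdec : ∀ w : W, ∃ u : blockMod p E, ∃ z : W, (z : G) ∈ Z₀ ∧ w = ι u * z := by
    intro w
    have hw : (w : G) ∈ blockMod p E ⊔ Z₀ := hUZ.symm ▸ w.2
    have hn : blockMod p E ≤ Subgroup.normalizer (Z₀ : Set G) := fun u hu => by
      rw [Subgroup.mem_normalizer_iff]
      refine fun z => ⟨fun hz => ?_, fun hz => ?_⟩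
      · rwa [omegaOneCenter_comm _ (hUW hu) hz.1, mul_inv_cancel_right]
      · have h1 := omegaOneCenter_comm _ (hUW hu) hz.1
        have h2 : u * z = u * (u * z * u⁻¹) := by rw [h1, inv_mul_cancel_right]
        rwa [← mul_left_cancel h2] at hz
    rw [← SetLike.mem_coe, Subgroup.coe_mul_of_left_le_normalizer_right _ _ hn] at hw
    obtain ⟨u, hu, z, hz, e⟩ := hw
    exact ⟨⟨u, hu⟩, ⟨z, hz.1⟩, hz, Subtype.ext e.symm⟩
  obtain ⟨-, -, -, hZT, hcases⟩ := id hE
  rcases hcases with ⟨F, hF, hFt, n, hn, hiso, hmod, -⟩ | ⟨hp, m, hiso, hmod, -⟩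
  · left
    obtain ⟨-, -, ρ, ψ, hρ, hψ, hker, hcomp⟩ := hmod
    have hcomp' : ∀ (e : E) (u u' : W), (u' : G) = e * u * (e : G)⁻¹ →
        (ψ u').toAdd = (ρ e).1.mulVec (ψ u).toAdd := fun e u u' he => by
      obtain ⟨w, hw, hw'⟩ := hcomp e u
      rw [show u' = w from Subtype.ext (he.trans hw.symm), hw']
    have hQρ : ∀ e : E, (e : G) ∈ pCoreOf p E → ρ e = 1 := fun e he => mulVec_ext fun x => by
      obtain ⟨w, hw⟩ := hψ (Multiplicative.ofAdd x)
      rw [show x = (ψ w).toAdd by rw [hw]; rfl, ← hcomp' e w w (hQW _ he w w.2).symm,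
        Matrix.SpecialLinearGroup.coe_one, Matrix.one_mulVec]
    refine ⟨F, hF, Finite.of_fintype F, ⟨{
      ρ := ρ, ψ := ψ.comp ι, range_eq := hρ, surj := fun x => ?_, ker := fun u => ?_,
      ρ_ker := ker_iff _ ρ hρ hiso hQρ, compat := fun e u u' he => hcomp' e (ι u) (ι u') he,
      card_eq := ⟨n, by rw [Nat.card_eq_fintype_card, hn]⟩ }⟩⟩
    · obtain ⟨w, rfl⟩ := hψ x
      obtain ⟨u, z, hz, rfl⟩ := hdec w
      exact ⟨u, by rw [map_mul, (hker z).2 hz, mul_one]; rfl⟩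
    · exact (hker (ι u)).trans ⟨fun h => h.2, fun h => ⟨(ι u).2, h⟩⟩
  · right
    obtain ⟨-, -, ρ, ψ, hρ, hev, hψ, hker, hcomp⟩ := hmod
    have hcomp' : ∀ (e : E) (u u' : W), (u' : G) = e * u * (e : G)⁻¹ →
        ∀ i, (ψ u').toAdd i = (ψ u).toAdd ((ρ e)⁻¹ i) := fun e u u' he i => by
      obtain ⟨w, hw, hw'⟩ := hcomp e u
      rw [show u' = w from Subtype.ext (he.trans hw.symm), hw' i]
    have hm : 1 ≤ m := by
      by_contra hm
      obtain ⟨iso⟩ := hiso
      have hs : Subsingleton (Equiv.Perm (Fin (2 * m + 1))) := by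
        haveI : Subsingleton (Fin (2 * m + 1)) := Fin.subsingleton_iff_le_one.2 (by omega)
        infer_instance
      have hq : ∀ e : E, (e : G) ∈ pCoreOf p E := fun e => by
        refine ⟨e, (QuotientGroup.eq_one_iff e).1 (iso.injective ?_), rfl⟩
        exact Subtype.ext (Subsingleton.elim _ _)
      refine hf.ne_bot (le_bot_iff.1 (hf.idem.symm.le.trans (Subgroup.commutator_le.2 fun u hu e he => ?_)))
      exact Subgroup.mem_bot.2 (commutatorElement_eq_one_iff_mul_comm.2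
        (Subgroup.mem_centralizer_iff.1 (omegaOneCenter_le_centralizer _ (hUW hu)) e (hq ⟨e, he⟩)).symm)
    have hQρ : ∀ e : E, (e : G) ∈ pCoreOf p E → ρ e = 1 := fun e he => perm_ext hm fun v hv i => by
      obtain ⟨w, rfl⟩ := hψ v hv
      exact (hcomp' e w w (hQW _ he w w.2).symm i).symm
    refine ⟨m, ⟨{
      ρ := ρ, ψ := ψ.comp ι, range_eq := hρ, even := fun u => hev (ι u), surj := fun v hv => ?_,
      ker := fun u => ?_, ρ_ker := ker_iff _ ρ hρ hiso hQρ,
      compat := fun e u u' he => hcomp' e (ι u) (ι u') he, p_eq := hp, m_pos := hm }⟩⟩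
    · obtain ⟨w, rfl⟩ := hψ v hv
      obtain ⟨u, z, hz, rfl⟩ := hdec w
      exact ⟨u, by rw [map_mul, (hker z).2 hz, mul_one]; rfl⟩
    · exact (hker (ι u)).trans ⟨fun h => h.2, fun h => ⟨(ι u).2, h⟩⟩

theorem LinCoords.mem_Q_of_centralizes [Finite G] [Fact p.Prime] {E : Subgroup G} {F : Type} [Field F]
    (D : LinCoords p E F) {e : E} (he : (e : G) ∈ Subgroup.centralizer (blockMod p E : Set G)) :
    (e : G) ∈ pCoreOf p E := (D.ρ_ker e).1 <| mulVec_ext fun x => by
  obtain ⟨u, hu⟩ := D.surj (Multiplicative.ofAdd x)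
  have h : (u : G) = e * u * (e : G)⁻¹ := by
    rw [← Subgroup.mem_centralizer_iff.1 he u u.2, mul_inv_cancel_right]
  rw [show x = (D.ψ u).toAdd by rw [hu]; rfl, ← D.compat e u u h, Matrix.SpecialLinearGroup.coe_one,
    Matrix.one_mulVec]

theorem AltCoords.mem_Q_of_centralizes [Finite G] [Fact p.Prime] {E : Subgroup G} {m : ℕ}
    (D : AltCoords p E m) {e : E} (he : (e : G) ∈ Subgroup.centralizer (blockMod p E : Set G)) :
    (e : G) ∈ pCoreOf p E := (D.ρ_ker e).1 <| perm_ext D.m_pos fun v hv i => by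
  obtain ⟨u, rfl⟩ := D.surj v hv
  have h : (u : G) = e * u * (e : G)⁻¹ := by
    rw [← Subgroup.mem_centralizer_iff.1 he u u.2, mul_inv_cancel_right]
  exact (D.compat e u u h i).symm

/-- The kernel of a block on its module is `O_p(E)`. -/
theorem mem_pCoreOf_of_centralizes [Finite G] [Fact p.Prime] {E : Subgroup G} (h : IsBlock p E) {e : G}
    (he : e ∈ E) (hc : e ∈ Subgroup.centralizer (blockMod p E : Set G)) : e ∈ pCoreOf p E := by
  rcases exists_coords h with ⟨F, _, _, ⟨D⟩⟩ | ⟨m, ⟨D⟩⟩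
  · exact D.mem_Q_of_centralizes (e := ⟨e, he⟩) hc
  · exact D.mem_Q_of_centralizes (e := ⟨e, he⟩) hc

end CfsgLib.BaumannBlock.Subnormal
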