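import Mathlib
import Cfsg.Agent.BaumannBlock.Subnormal.Coords
import Cfsg.Agent.Classical.Linear.Simple

/-!
Blocks are perfect or small; the central involution for odd primes; the symmetric modules do not meet the
centralizer of the block.
-/

set_option autoImplicit false

open scoped MatrixGroups commutatorElement

namespace CfsgLib.BaumannBlock.Subnormal

open Cfsg CentModule

variable {G : Type*} [Group G] {p : ℕ} [Finite G] [Fact p.Prime] {E : Subgroup G}

theorem mem_Q_conj_eq (hb : IsBlock p E) {q u : G} (hq : q ∈ pCoreOf p E) (hu : u ∈ blockMod p E) :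
    q * u * q⁻¹ = u := by
  rw [← Subgroup.mem_centralizer_iff.1 (pCoreOf_le_centralizer hb hq) u hu, mul_inv_cancel_right]

/-- A normal subgroup of `E` covering `E / O_p(E)` is `E`. -/
theorem eq_of_cover (hb : IsBlock p E) {K : Subgroup G} (hKE : K ≤ E) (hn : E ≤ Subgroup.normalizer (K : Set G))
    (h : ∀ e ∈ E, ∃ k ∈ K, k⁻¹ * e ∈ pCoreOf p E) : K = E := by
  refine le_antisymm hKE ?_
  conv_lhs => rw [← hb.facts.res]
  rw [mem_pResidualOf_iff_closure, Subgroup.closure_le]
  rintro x ⟨hx, hcop⟩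
  obtain ⟨k, hk, hkx⟩ := h x hx
  refine mem_of_coprime_of_mem_sup (isPGroup_pCoreOf E) ((pCoreOf_le E).trans hn) ?_ hcop
  have := mul_mem (Subgroup.mem_sup_left (T := pCoreOf p E) hk) (Subgroup.mem_sup_right (S := K) hkx)
  rwa [mul_inv_cancel_left] at this

theorem commutator_le_self (E : Subgroup G) : ⁅E, E⁆ ≤ E :=
  Subgroup.commutator_le.2 fun a ha b hb => by
    rw [commutatorElement_def]; exact mul_mem (mul_mem (mul_mem ha hb) (inv_mem ha)) (inv_mem hb)

theorem le_normalizer_commutator (E : Subgroup G) : E ≤ Subgroup.normalizer ((⁅E, E⁆ : Subgroup G) : Set G) :=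
  fun e he => by
    rw [Subgroup.mem_normalizer_iff_map_conj_eq, Subgroup.map_commutator,
      Subgroup.mem_normalizer_iff_map_conj_eq.1 (Subgroup.le_normalizer he)]

/-- The image of a subgroup of `E`. -/
def img {R : Type*} [Group R] (ρ : E →* R) (K : Subgroup G) : Subgroup R := (K.subgroupOf E).map ρ

/-- What is needed of a small block. -/
structure Small (p : ℕ) (E : Subgroup G) : Prop where
  inf_bot : ∀ u ∈ blockMod p E, u ∈ Subgroup.centralizer (E : Set G) → u = 1
  card_eq : Nat.card (blockMod p E) = p ^ 2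
  kind : (p = 2 ∧ ∀ e ∈ E, e ^ 3 ∈ pCoreOf p E) ∨
    (p = 3 ∧ (∃ a ∈ E, ∃ b ∈ E, ∀ u ∈ blockMod p E, ⁅a, b⁆ * u * ⁅a, b⁆⁻¹ = u⁻¹) ∧
      E ≤ Subgroup.closure ({e | e ∈ E ∧ ∀ u ∈ blockMod p E, e * e * u * (e * e)⁻¹ = u⁻¹} ∪ (pCoreOf p E : Set G)))
  same : ∀ g ∈ Subgroup.normalizer (blockMod p E : Set G),
    ((p = 2 ∧ g ^ 3 ∈ Subgroup.centralizer (blockMod p E : Set G)) ∨
      (p = 3 ∧ ∀ u ∈ blockMod p E, g * g * u * (g * g)⁻¹ = u⁻¹)) →
    ∃ e ∈ E, ∀ u ∈ blockMod p E, g * u * g⁻¹ = e * u * e⁻¹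

/-! ### Transfer to the prime field -/

/-- Coordinates transported along an isomorphism of fields. -/
noncomputable def LinCoords.transfer {F K : Type} [Field F] [Field K] (D : LinCoords p E F) (e : F ≃+* K) :
    LinCoords p E K where
  ρ := (Matrix.SpecialLinearGroup.map e.toRingHom).comp D.ρ
  ψ := (AddMonoidHom.toMultiplicative ((e.toRingHom.toAddMonoidHom).compLeft (Fin 2))).comp D.ψ
  range_eq := by
    have hs : Function.Surjective (Matrix.SpecialLinearGroup.map (n := Fin 2) e.toRingHom) := fun s =>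
      ⟨Matrix.SpecialLinearGroup.map e.symm.toRingHom s, Subtype.ext (Matrix.ext fun i j => e.apply_symm_apply _)⟩
    rw [MonoidHom.range_comp, D.range_eq, commutator_def, Subgroup.map_commutator,
      Subgroup.map_top_of_surjective _ hs, ← commutator_def]
  surj := fun x => by
    obtain ⟨u, hu⟩ := D.surj (Multiplicative.ofAdd (fun i => e.symm (x.toAdd i)))
    refine ⟨u, Multiplicative.toAdd.injective (funext fun i => ?_)⟩
    simp [hu]
  ker := fun u => by
    rw [← D.ker]
    constructor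
    · intro h
      refine Multiplicative.toAdd.injective (funext fun i => e.injective ?_)
      have := congrFun (congrArg Multiplicative.toAdd h) i
      simpa using this
    · intro h
      simp [h]
  ρ_ker := fun x => by
    rw [← D.ρ_ker]
    constructor
    · intro h
      apply Subtype.ext
      ext i j
      apply e.injective
      have := congrFun (congrFun (congrArg Subtype.val h) i) j
      change e ((D.ρ x).1 i j) = (1 : Matrix (Fin 2) (Fin 2) K) i j at this
      rw [this, Matrix.SpecialLinearGroup.coe_one]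
      simp [Matrix.one_apply, apply_ite e]
    · intro h
      simp [h]
  compat := fun g u u' hg => by
    funext i
    have := congrArg e (congrFun (D.compat g u u' hg) i)
    show e ((D.ψ u').toAdd i) = ((D.ρ g).1.map e).mulVec (fun j => e ((D.ψ u).toAdd j)) i
    rw [this]
    exact RingHom.map_mulVec e.toRingHom _ _ i
  card_eq := by
    obtain ⟨n, hn⟩ := D.card_eq
    exact ⟨n, by rw [← hn]; exact Nat.card_congr e.symm.toEquiv⟩

theorem field_cases {F : Type} [Field F] [Finite F] (D : LinCoords p E F) :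
    CharP F p ∧ ((∃ t : F, t ≠ 0 ∧ t * t ≠ 1) ∧ 4 ≤ Nat.card F ∨
      (p = 2 ∨ p = 3) ∧ Nat.card F = p) := by
  haveI := Fintype.ofFinite F
  obtain ⟨n, hn⟩ := D.card_eq
  have hp := Fact.out (p := p.Prime)
  have hn0 : n ≠ 0 := fun h => by
    rw [h, pow_zero, Nat.card_eq_fintype_card] at hn
    exact Fintype.one_lt_card.ne' hn
  have hchar : CharP F p := by
    refine (CharP.charP_iff_prime_eq_zero (R := F) hp).2 ?_
    have h0 : ((Fintype.card F : ℕ) : F) = 0 := FiniteField.cast_card_eq_zero F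
    rw [← Nat.card_eq_fintype_card, hn, Nat.cast_pow] at h0
    exact (pow_eq_zero_iff hn0).1 h0
  refine ⟨hchar, ?_⟩
  classical
  by_cases h4 : 4 ≤ Nat.card F
  · refine Or.inl ⟨?_, h4⟩
    by_contra hbig
    have h : ∀ x : F, x ∈ ({0, 1, -1} : Finset F) := fun x => by
      rcases cases_of_small hbig x with h | h | h <;> simp [h]
    have h2 := Finset.card_le_card (s := Finset.univ) fun x _ => h x
    have h3 := Finset.card_le_three (a := (0 : F)) (b := 1) (c := -1)
    rw [Finset.card_univ, ← Nat.card_eq_fintype_card] at h2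
    omega
  · refine Or.inr ?_
    have h2 := hp.two_le
    have hle : p ≤ Nat.card F := hn ▸ Nat.le_self_pow hn0 p
    have hn1 : n = 1 := by
      by_contra hne
      have : p ^ 2 ≤ p ^ n := Nat.pow_le_pow_right (by omega) (by omega)
      rw [← hn] at this
      nlinarith
    rw [hn1, pow_one] at hn
    exact ⟨by omega, hn⟩

theorem neg_one_mem_commutator {F : Type} [Field F] [Finite F] (D : LinCoords p E F) (hp : p ≠ 2) :
    (-1 : SL(2, F)) ∈ commutator SL(2, F) := by
  obtain ⟨hchar, ⟨⟨t, ht0, ht⟩, -⟩ | ⟨h, -⟩⟩ := field_cases D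
  · rw [CfsgLib.Classical.Linear.commutator_sl_fin_eq_top 2 fun _ => ⟨t, ht0, by rwa [pow_two]⟩]
    exact Subgroup.mem_top _
  · obtain rfl : p = 3 := h.resolve_left hp
    exact neg_one_mem

/-- For odd `p` an element of a block inverts the module, which meets the centralizer of the block trivially. -/
theorem exists_inverting (hb : IsBlock p E) (hp : p ≠ 2) :
    (∃ t ∈ E, ∀ u ∈ blockMod p E, t * u * t⁻¹ = u⁻¹) ∧
      (∀ u ∈ blockMod p E, u ∈ Subgroup.centralizer (E : Set G) → u = 1) := by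
  have hf := hb.facts
  rcases exists_coords hb with ⟨F, _, _, ⟨D⟩⟩ | ⟨m, ⟨D⟩⟩
  swap
  · exact absurd D.p_eq hp
  obtain ⟨t, ht⟩ : (-1 : SL(2, F)) ∈ D.ρ.range := D.range_eq ▸ neg_one_mem_commutator D hp
  have hinv : ∀ u ∈ blockMod p E, (t : G) * u * (t : G)⁻¹ = u⁻¹ := by
    have hz : ∀ u ∈ blockMod p E, u * ((t : G) * u * (t : G)⁻¹) ∈ Subgroup.centralizer (E : Set G) := by
      intro u hu
      have hu' : (t : G) * u * (t : G)⁻¹ ∈ blockMod p E := (Subgroup.mem_normalizer_iff.1 (hf.normU t.2) u).1 hu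
      refine (D.ker (⟨u, hu⟩ * ⟨_, hu'⟩)).1 (Multiplicative.toAdd.injective ?_)
      rw [map_mul, toAdd_mul, D.compat t ⟨u, hu⟩ ⟨_, hu'⟩ rfl, ht, neg_mulVec, add_neg_cancel, toAdd_one]
    have hc : ∀ e ∈ E, ∀ u ∈ blockMod p E,
        (t : G) * (e * u * e⁻¹) * (t : G)⁻¹ = e * ((t : G) * u * (t : G)⁻¹) * e⁻¹ := by
      intro e he u hu
      have hq : ((⁅(⟨e, he⟩ : E)⁻¹, t⁆ : E) : G) ∈ pCoreOf p E := (D.ρ_ker _).1 (by
        rw [map_commutatorElement, ht, commutatorElement_eq_one_iff_mul_comm, mul_neg_one, neg_one_mul])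
      have hu' : (t : G) * u * (t : G)⁻¹ ∈ blockMod p E := (Subgroup.mem_normalizer_iff.1 (hf.normU t.2) u).1 hu
      have h := mem_Q_conj_eq hb hq hu'
      simp only [commutatorElement_def, Subgroup.coe_mul, Subgroup.coe_inv] at h
      calc (t : G) * (e * u * e⁻¹) * (t : G)⁻¹
          = e * ((e⁻¹ * (t : G) * e⁻¹⁻¹ * (t : G)⁻¹) * ((t : G) * u * (t : G)⁻¹) *
              (e⁻¹ * (t : G) * e⁻¹⁻¹ * (t : G)⁻¹)⁻¹) * e⁻¹ := by group
        _ = e * ((t : G) * u * (t : G)⁻¹) * e⁻¹ := by rw [h]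
    intro u hu
    suffices h : blockMod p E ≤ Subgroup.closure {x | x ∈ blockMod p E ∧ (t : G) * x * (t : G)⁻¹ = x⁻¹} by
      have hle : Subgroup.closure {x | x ∈ blockMod p E ∧ (t : G) * x * (t : G)⁻¹ = x⁻¹} ≤
          blockMod p E := (Subgroup.closure_le _).2 fun x hx => hx.1
      have := h hu
      induction this using Subgroup.closure_induction with
      | mem x hx => exact hx.2
      | one => simp
      | mul a b ha hb' iha ihb =>
        calc (t : G) * (a * b) * (t : G)⁻¹ = ((t : G) * a * (t : G)⁻¹) * ((t : G) * b * (t : G)⁻¹) := by group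
          _ = a⁻¹ * b⁻¹ := by rw [iha (hle ha), ihb (hle hb')]
          _ = (a * b)⁻¹ := by rw [blockMod_comm E hb a (hle ha) b (hle hb'), mul_inv_rev]
      | inv a ha iha =>
        calc (t : G) * a⁻¹ * (t : G)⁻¹ = ((t : G) * a * (t : G)⁻¹)⁻¹ := by group
          _ = a⁻¹⁻¹ := by rw [iha (hle ha)]
    conv_lhs => rw [← hf.idem]
    rw [Subgroup.commutator_le]
    intro w hw e he
    have hw' : e * w⁻¹ * e⁻¹ ∈ blockMod p E := (Subgroup.mem_normalizer_iff.1 (hf.normU he) _).1 (inv_mem hw)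
    have hmem : ⁅w, e⁆ ∈ blockMod p E := by
      rw [commutatorElement_def, show w * e * w⁻¹ * e⁻¹ = w * (e * w⁻¹ * e⁻¹) by group]
      exact mul_mem hw hw'
    refine Subgroup.subset_closure ⟨hmem, ?_⟩
    set z := w * ((t : G) * w * (t : G)⁻¹) with hzdef
    have hze : e * z⁻¹ * e⁻¹ = z⁻¹ := by
      rw [Subgroup.mem_centralizer_iff.1 (inv_mem (hz w hw)) e he, mul_inv_cancel_right]
    have htw : (t : G) * w * (t : G)⁻¹ ∈ blockMod p E := (Subgroup.mem_normalizer_iff.1 (hf.normU t.2) w).1 hw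
    rw [eq_comm, inv_eq_iff_mul_eq_one]
    calc ⁅w, e⁆ * ((t : G) * ⁅w, e⁆ * (t : G)⁻¹)
        = w * (e * w⁻¹ * e⁻¹) * (((t : G) * w * (t : G)⁻¹) * ((t : G) * (e * w⁻¹ * e⁻¹) * (t : G)⁻¹)) := by
          rw [commutatorElement_def]; group
      _ = w * (e * w⁻¹ * e⁻¹) * (((t : G) * w * (t : G)⁻¹) * (e * ((t : G) * w⁻¹ * (t : G)⁻¹) * e⁻¹)) := by
          rw [hc e he _ (inv_mem hw)]
      _ = w * ((e * w⁻¹ * e⁻¹) * ((t : G) * w * (t : G)⁻¹)) * (e * ((t : G) * w⁻¹ * (t : G)⁻¹) * e⁻¹) := by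
          group
      _ = z * (e * z⁻¹ * e⁻¹) := by
          have hz2 : z⁻¹ = w⁻¹ * ((t : G) * w⁻¹ * (t : G)⁻¹) := by
            rw [hzdef, blockMod_comm E hb _ hw _ htw]; group
          rw [blockMod_comm E hb _ hw' _ htw, hz2, hzdef]
          group
      _ = 1 := by rw [hze, mul_inv_cancel]
  refine ⟨⟨t, t.2, hinv⟩, fun u hu hc => ?_⟩
  have h1 := hinv u hu
  rw [Subgroup.mem_centralizer_iff.1 hc t t.2, mul_inv_cancel_right] at h1
  have h2 : u ^ 2 = 1 := by rw [pow_two, ← eq_inv_iff_mul_eq_one]; exact h1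
  have h3 : u ^ p = 1 := omegaOneCenter_pow _ (hf.le_W hu)
  exact orderOf_eq_one_iff.1 (Nat.eq_one_of_dvd_coprimes
    ((Nat.coprime_primes Nat.prime_two Fact.out).2 (Ne.symm hp))
    (orderOf_dvd_of_pow_eq_one h2) (orderOf_dvd_of_pow_eq_one h3))

/-! ### The symmetric module -/

theorem AltCoords.inf_bot {m : ℕ} (D : AltCoords p E m) (hb : IsBlock p E) :
    ∀ u ∈ blockMod p E, u ∈ Subgroup.centralizer (E : Set G) → u = 1 := by
  have hf := hb.facts
  obtain rfl := D.p_eq
  classical
  letI : CommGroup (blockMod 2 E) :=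
    { (inferInstance : Group (blockMod 2 E)) with
      mul_comm := fun a b => Subtype.ext (blockMod_comm E hb _ a.2 _ b.2) }
  have hsq : ∀ u : blockMod 2 E, u * u = 1 := fun u => Subtype.ext (by
    have := omegaOneCenter_pow (p := 2) _ (hf.le_W u.2)
    rwa [pow_two] at this)
  -- conjugation by `E` on the module
  let act : E →* MulAut (blockMod 2 E) := MonoidHom.mk' (fun e =>
    { toFun := fun u => ⟨e * u * (e : G)⁻¹, (Subgroup.mem_normalizer_iff.1 (hf.normU e.2) _).1 u.2⟩
      invFun := fun u => ⟨(e : G)⁻¹ * u * e, by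
        simpa using (Subgroup.mem_normalizer_iff.1 (hf.normU (inv_mem e.2)) _).1 u.2⟩
      left_inv := fun u => Subtype.ext (by simp [mul_assoc])
      right_inv := fun u => Subtype.ext (by simp [mul_assoc])
      map_mul' := fun u v => Subtype.ext (by simp [mul_assoc]) })
    (fun e f => MulEquiv.ext fun u => Subtype.ext (by simp [mul_assoc]))
  have hψ : ∀ e u i, (D.ψ (act e u)).toAdd i = (D.ψ u).toAdd ((D.ρ e)⁻¹ i) := fun e u i => D.compat e u _ rfl i
  let d : Fin (2 * m + 1) → Fin (2 * m + 1) → ZMod 2 := fun j i => 1 + (Pi.single j 1 : _ → ZMod 2) i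
  have hsum : ∀ j, ∑ i, d j i = 0 := fun j => by
    simp only [d, Finset.sum_add_distrib, Finset.sum_const, Finset.card_univ, Fintype.card_fin, nsmul_one,
      Finset.sum_pi_single', Finset.mem_univ, if_true]
    push_cast
    rw [show (2 : ZMod 2) = 0 from rfl, zero_mul, zero_add]
    first | rfl | decide
  obtain ⟨x, hx⟩ := D.surj (d 0) (hsum 0)
  have hxj : ∀ e, (D.ψ (act e x)).toAdd = d (D.ρ e 0) := fun e => by
    funext i
    rw [hψ, hx]
    simp only [d, Pi.single_apply]
    congr 1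
    exact if_congr (by rw [Equiv.Perm.inv_eq_iff_eq, eq_comm]) rfl rfl
  -- the stabilizer fixes the lift
  let H : Subgroup E := { carrier := {e | D.ρ e 0 = 0}
                          one_mem' := by simp
                          mul_mem' := fun {a b} ha hb => by
                            show D.ρ (a * b) 0 = 0
                            rw [map_mul, Equiv.Perm.mul_apply, show D.ρ b 0 = 0 from hb, show D.ρ a 0 = 0 from ha]
                          inv_mem' := fun {a} ha => by
                            show D.ρ a⁻¹ 0 = 0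
                            rw [map_inv, Equiv.Perm.inv_eq_iff_eq]; exact ha.symm }
  have hδc : ∀ e ∈ H, ∀ f : E, act f (act e x * x) = act e x * x := fun e he f => by
    have hz : D.ψ (act e x * x) = 1 := Multiplicative.toAdd.injective (by
      rw [map_mul, toAdd_mul, hxj, show D.ρ e 0 = 0 from he, hx, toAdd_one]
      funext i
      show d 0 i + d 0 i = 0
      exact CharTwo.add_self_eq_zero _)
    refine Subtype.ext ?_
    show (f : G) * _ * (f : G)⁻¹ = _
    rw [Subgroup.mem_centralizer_iff.1 ((D.ker _).1 hz) f f.2, mul_inv_cancel_right]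
  let δ : H →* blockMod 2 E := MonoidHom.mk' (fun e => act e x * x) (fun e f => by
    show act ((e : E) * f) x * x = act e x * x * (act f x * x)
    have h1 : act (f : E) x = act f x * x * x := by rw [mul_assoc, hsq, mul_one]
    conv_lhs => rw [map_mul, MulAut.mul_apply, h1, map_mul, hδc _ f.2]
    rw [mul_comm (act e x * x) (act f x * x), ← mul_assoc])
  have hδQ : ∀ e : H, D.ρ e = 1 → δ e = 1 := fun e he => by
    show act (e : E) x * x = 1
    have : act (e : E) x = x := Subtype.ext (mem_Q_conj_eq hb ((D.ρ_ker _).1 he) x.2)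
    rw [this, hsq]
  have hfix : ∀ e ∈ H, act e x = x := by
    intro e he
    suffices h : δ ⟨e, he⟩ = 1 by
      have h' : act e x * x = 1 := h
      exact mul_right_cancel (h'.trans (hsq x).symm)
    let ι : Equiv.Perm {i : Fin (2 * m + 1) // i ≠ 0} →* Equiv.Perm (Fin (2 * m + 1)) := Equiv.Perm.ofSubtype
    have hι0 : ∀ τ, ι τ 0 = 0 := fun τ => Equiv.Perm.ofSubtype_apply_of_not_mem τ (by simp)
    have hgen : alternatingGroup {i : Fin (2 * m + 1) // i ≠ 0} ≤ ((δ.ker).map ((D.ρ).comp H.subtype)).comap ι := by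
      rw [← Equiv.Perm.closure_three_cycles_eq_alternating, Subgroup.closure_le]
      intro τ hτ
      have hσ3 : ι τ ^ 3 = 1 := by
        rw [← map_pow, ← hτ.orderOf, pow_orderOf_eq_one, map_one]
      have hσA : ι τ ∈ D.ρ.range := by
        rw [D.range_eq, Equiv.Perm.mem_alternatingGroup, Equiv.Perm.sign_ofSubtype]
        exact Equiv.Perm.mem_alternatingGroup.1 hτ.mem_alternatingGroup
      obtain ⟨f, hf'⟩ := hσA
      have hfH : f ∈ H := by show D.ρ f 0 = 0; rw [hf', hι0]
      refine ⟨⟨f, hfH⟩, ?_, hf'⟩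
      show δ ⟨f, hfH⟩ = 1
      have h3 : δ ⟨f, hfH⟩ ^ 3 = 1 := by
        rw [← map_pow]
        exact hδQ _ (by rw [Subgroup.coe_pow, map_pow, hf', hσ3])
      rwa [pow_succ, pow_two, hsq, one_mul] at h3
    have he : D.ρ e 0 = 0 := he
    have hpe : ∀ i, D.ρ e i ≠ 0 ↔ i ≠ 0 := fun i => by
      constructor
      · intro h hi; exact h (hi ▸ he)
      · intro h hi; exact h ((D.ρ e).injective (hi.trans he.symm))
    set τ := (D.ρ e).subtypePerm (p := fun i => i ≠ 0) hpe with hτ
    have hιτ : ι τ = D.ρ e := Equiv.Perm.ofSubtype_subtypePerm _ fun i hi => by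
      intro h
      exact hi (by rw [h]; exact he)
    have hτA : τ ∈ alternatingGroup {i : Fin (2 * m + 1) // i ≠ 0} := by
      rw [Equiv.Perm.mem_alternatingGroup, ← Equiv.Perm.sign_ofSubtype (p := fun i => i ≠ 0),
        show Equiv.Perm.ofSubtype τ = D.ρ e from hιτ, ← Equiv.Perm.mem_alternatingGroup, ← D.range_eq]
      exact ⟨e, rfl⟩
    obtain ⟨f, hfδ, hf'⟩ := hgen hτA
    rw [hιτ] at hf'
    change D.ρ (f : E) = D.ρ e at hf'
    have : δ (⟨e, he⟩ * f⁻¹) = 1 := hδQ _ (by
      rw [Subgroup.coe_mul, Subgroup.coe_inv, map_mul, map_inv, hf', mul_inv_cancel])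
    rwa [map_mul, map_inv, show δ f = 1 from hfδ, inv_one, mul_one] at this
  -- transitivity
  have htrans : ∀ j, ∃ e, D.ρ e 0 = j := by
    intro j
    by_cases hj : j = 0
    · exact ⟨1, by rw [map_one, hj]; rfl⟩
    obtain ⟨k, hk⟩ : ∃ k, k ∉ ({0, j} : Finset (Fin (2 * m + 1))) := by
      by_contra hall
      push Not at hall
      have h2 := Finset.card_le_card (s := Finset.univ) fun x _ => hall x
      rw [Finset.card_univ, Fintype.card_fin] at h2
      have h3 := Finset.card_le_two (a := (0 : Fin (2 * m + 1))) (b := j)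
      have := D.m_pos
      omega
    simp only [Finset.mem_insert, Finset.mem_singleton, not_or] at hk
    obtain ⟨e, he⟩ : Equiv.swap 0 j * Equiv.swap j k ∈ D.ρ.range := by
      rw [D.range_eq, Equiv.Perm.mem_alternatingGroup, map_mul, Equiv.Perm.sign_swap (Ne.symm hj),
        Equiv.Perm.sign_swap (Ne.symm hk.2)]
      decide
    exact ⟨e, by rw [he, Equiv.Perm.mul_apply, Equiv.swap_apply_of_ne_of_ne (Ne.symm hj) (Ne.symm hk.1),
      Equiv.swap_apply_left]⟩
  choose el hel using htrans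
  let xs : Fin (2 * m + 1) → blockMod 2 E := fun j => act (el j) x
  have hxs : ∀ e, act e x = xs (D.ρ e 0) := fun e => by
    have h : (el (D.ρ e 0))⁻¹ * e ∈ H := by
      show D.ρ ((el (D.ρ e 0))⁻¹ * e) 0 = 0
      rw [map_mul, map_inv, Equiv.Perm.mul_apply, Equiv.Perm.inv_eq_iff_eq, hel]
    have := congrArg (act (el (D.ρ e 0))) (hfix _ h)
    rwa [← MulAut.mul_apply, ← map_mul, mul_inv_cancel_left] at this
  have htwo : ∀ a : ZMod 2, a = 0 ∨ a = 1 := Fin.forall_fin_two.2 ⟨Or.inl rfl, Or.inr rfl⟩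
  let σ : (Fin (2 * m + 1) → ZMod 2) → blockMod 2 E := fun v => ∏ j, if v j = 1 then xs j else 1
  have hσadd : ∀ v w, σ (v + w) = σ v * σ w := fun v w => by
    simp only [σ, ← Finset.prod_mul_distrib]
    refine Finset.prod_congr rfl fun j _ => ?_
    rcases htwo (v j) with h | h <;>
      rcases htwo (w j) with h' | h' <;>
      simp [h, h', hsq, show (1 + 1 : ZMod 2) = 0 from rfl]
  have hσs : ∀ j, σ (Pi.single j 1) = xs j := fun j => by
    simp only [σ]
    rw [Finset.prod_eq_single j (fun i _ hi => by simp [Pi.single_eq_of_ne hi]) (by simp)]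
    simp
  -- the subgroup of the elements split by the lift
  let S : Subgroup (blockMod 2 E) :=
    { carrier := {u | σ (D.ψ u).toAdd = u}
      one_mem' := by show σ _ = _; rw [map_one, toAdd_one]; simp [σ]
      mul_mem' := fun {a b} ha hb' => by
        show σ _ = _
        rw [map_mul, toAdd_mul, hσadd, show σ (D.ψ a).toAdd = a from ha, show σ (D.ψ b).toAdd = b from hb']
      inv_mem' := fun {a} ha => by
        show σ _ = _
        rw [show a⁻¹ = a from inv_eq_of_mul_eq_one_left (hsq a)]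
        exact ha }
  have hgenS : ∀ e f : E, act e x * act f x ∈ S := fun e f => by
    show σ _ = _
    rw [map_mul, toAdd_mul, hxj, hxj, show d (D.ρ e 0) + d (D.ρ f 0) =
      Pi.single (D.ρ e 0) 1 + Pi.single (D.ρ f 0) 1 from funext fun i => by
        simp only [Pi.add_apply, d]
        rw [add_add_add_comm, show (1 + 1 : ZMod 2) = 0 from rfl, zero_add],
      hσadd, hσs, hσs, ← hxs, ← hxs]
  let P : Subgroup G := Subgroup.closure {y | ∃ e f : E, ((act e x * act f x : blockMod 2 E) : G) = y}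
  have hPU : P ≤ blockMod 2 E := (Subgroup.closure_le _).2 fun y ⟨e, f, h⟩ => h ▸ (act e x * act f x).2
  have hPn : E ≤ Subgroup.normalizer (P : Set G) := by
    have key : ∀ g ∈ E, P ≤ P.comap (MulAut.conj g).toMonoidHom := fun g hg =>
      (Subgroup.closure_le _).2 fun y ⟨e, f, h⟩ => Subgroup.subset_closure ⟨⟨g, hg⟩ * e, ⟨g, hg⟩ * f, by
        rw [map_mul, map_mul, MulAut.mul_apply, MulAut.mul_apply, ← map_mul, ← h]
        rfl⟩
    intro g hg
    rw [Subgroup.mem_normalizer_iff]
    exact fun y => ⟨fun hy => key g hg hy, fun hy => by simpa [mul_assoc] using key g⁻¹ (inv_mem hg) hy⟩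
  have hPS : ∀ y (hy : y ∈ P), (⟨y, hPU hy⟩ : blockMod 2 E) ∈ S := fun y hy => by
    have hle : P ≤ S.map (blockMod 2 E).subtype := (Subgroup.closure_le _).2 fun y ⟨e, f, h⟩ =>
      ⟨_, hgenS e f, h⟩
    obtain ⟨u, hu, rfl⟩ := hle hy
    exact hu
  intro u hu hc
  rcases hf.irr P hPn hPU with h | h
  · exfalso
    obtain ⟨e, he⟩ : ∃ e, D.ρ e 0 ≠ 0 := by
      refine ⟨el ⟨1, by have := D.m_pos; omega⟩, ?_⟩
      rw [hel]
      intro h
      have := congrArg Fin.val h
      simp at this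
    have h1 : D.ψ (act e x * act 1 x) = 1 :=
      (D.ker _).2 (h (Subgroup.subset_closure ⟨e, 1, rfl⟩))
    have h2 := congrFun (congrArg Multiplicative.toAdd h1) 0
    rw [map_mul, toAdd_mul, toAdd_one, Pi.add_apply, hxj, hxj] at h2
    simp [d, Ne.symm he] at h2
    rw [show (1 + 1 : ZMod 2) = 0 from rfl, add_zero] at h2
    exact one_ne_zero h2
  · have hS : (⟨u, hu⟩ : blockMod 2 E) ∈ S := hPS u (h.symm ▸ hu)
    have hz : D.ψ ⟨u, hu⟩ = 1 := (D.ker _).2 hc
    change σ (D.ψ ⟨u, hu⟩).toAdd = ⟨u, hu⟩ at hS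
    rw [hz, toAdd_one] at hS
    simpa [σ] using (congrArg Subtype.val hS).symm

end CfsgLib.BaumannBlock.Subnormal
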