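import Mathlib
import Cfsg.Agent.BaumannBlock.Subnormal.Kind

/-!
Every block is perfect or small, and its proper normal subgroups are abelian modulo `O_p(E)`.
-/

set_option autoImplicit false

open scoped MatrixGroups commutatorElement

namespace CfsgLib.BaumannBlock.Subnormal

open Cfsg CentModule

variable {G : Type*} [Group G] {p : ℕ} [Finite G] [Fact p.Prime] {E : Subgroup G}

/-- Proper normal subgroups are abelian, and trivial for `p = 2`, modulo `O_p(E)`. -/
def NormalProper (p : ℕ) (E : Subgroup G) : Prop :=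
  ∀ M : Subgroup G, M ≤ E → E ≤ Subgroup.normalizer (M : Set G) → M ≠ E →
    (∀ a ∈ M, ∀ b ∈ M, ⁅a, b⁆ ∈ pCoreOf p E) ∧ (p = 2 → M ≤ pCoreOf p E)

/-- What is needed of a perfect block. -/
structure PerfectBlock (p : ℕ) (E : Subgroup G) : Prop where
  perfect : ⁅E, E⁆ = E
  card_gt : 9 < Nat.card (blockMod p E)
  central : ∀ M : Subgroup G, M ≤ E → E ≤ Subgroup.normalizer (M : Set G) → M ≠ E →
    ∀ m ∈ M, ∀ e ∈ E, ⁅m, e⁆ ∈ pCoreOf p E

theorem normalProper_of_central (h : ∀ M : Subgroup G, M ≤ E → E ≤ Subgroup.normalizer (M : Set G) → M ≠ E →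
    ∀ m ∈ M, ∀ e ∈ E, ⁅m, e⁆ ∈ pCoreOf p E)
    (h2 : p = 2 → ∀ m ∈ E, (∀ e ∈ E, ⁅m, e⁆ ∈ pCoreOf p E) → m ∈ pCoreOf p E) : NormalProper p E :=
  fun M hM hn hne => ⟨fun a ha b hb => h M hM hn hne a ha b (hM hb), fun hp m hm => h2 hp m (hM hm) (h M hM hn hne m hm)⟩

/-- Conjugation by an element normalizing the module. -/
theorem card_blockMod_le {M : Type*} [AddCommGroup M] (ψ : blockMod p E →* Multiplicative M) (S : Set M)
    (hS : ∀ v ∈ S, ∃ u, (ψ u).toAdd = v) : Nat.card S ≤ Nat.card (blockMod p E) := by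
  choose f hf using fun v : S => hS v v.2
  exact Nat.card_le_card_of_injective f fun a b h => Subtype.ext (by rw [← hf a, ← hf b, h])

/-- The action of the normalizer of the module on its nontrivial elements. -/
def permHom (E : Subgroup G) :
    Subgroup.normalizer (blockMod p E : Set G) →* Equiv.Perm {x : blockMod p E // x ≠ 1} :=
  MonoidHom.mk' (fun g =>
    { toFun := fun x => ⟨⟨g * x.1 * (g : G)⁻¹, (Subgroup.mem_normalizer_iff.1 g.2 _).1 x.1.2⟩, fun h => x.2 (by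
        have h' : (g : G) * x.1 * (g : G)⁻¹ = 1 := congrArg Subtype.val h
        rw [conj_eq_one_iff] at h'
        exact Subtype.ext h')⟩
      invFun := fun x => ⟨⟨(g : G)⁻¹ * x.1 * g, by
          simpa using (Subgroup.mem_normalizer_iff.1 (inv_mem g.2) _).1 x.1.2⟩, fun h => x.2 (by
        have h' : (g : G)⁻¹ * x.1 * (g : G)⁻¹⁻¹ = 1 := by rw [inv_inv]; exact congrArg Subtype.val h
        rw [conj_eq_one_iff] at h'
        exact Subtype.ext h')⟩
      left_inv := fun x => Subtype.ext (Subtype.ext (by simp [mul_assoc]))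
      right_inv := fun x => Subtype.ext (Subtype.ext (by simp [mul_assoc])) })
    (fun g h => Equiv.ext fun x => Subtype.ext (Subtype.ext (by simp [mul_assoc])))

theorem permHom_eq_iff (g h : Subgroup.normalizer (blockMod p E : Set G)) :
    permHom E g = permHom E h ↔ ∀ u ∈ blockMod p E, (g : G) * u * (g : G)⁻¹ = h * u * (h : G)⁻¹ := by
  constructor
  · intro e u hu
    by_cases h1 : u = 1
    · simp [h1]
    exact congrArg (fun x => (x.1 : G)) (DFunLike.congr_fun e ⟨⟨u, hu⟩, fun hh => h1 (congrArg Subtype.val hh)⟩)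
  · exact fun e => Equiv.ext fun x => Subtype.ext (Subtype.ext (e x.1 x.1.2))

/-- A block with quotient of order three is small. -/
theorem small_two (hb : IsBlock p E) (hp : p = 2) {M : Type*} [AddCommGroup M]
    (ψ : blockMod p E →* Multiplicative M)
    (hker : ∀ u, ψ u = 1 ↔ (u : G) ∈ Subgroup.centralizer (E : Set G))
    (hcard : Nat.card ψ.range = 4) (hcube : ∀ e ∈ E, e ^ 3 ∈ pCoreOf p E)
    (hgen : ∀ a ∈ E, a ∉ pCoreOf p E → ∀ b ∈ E, ∃ k : ℕ, (a ^ k)⁻¹ * b ∈ pCoreOf p E) : Small p E := by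
  subst hp
  have hf := hb.facts
  obtain ⟨a, ha, haQ⟩ : ∃ a ∈ E, a ∉ pCoreOf 2 E := by
    by_contra! h
    refine hf.ne_bot (le_bot_iff.1 (hf.idem.symm.le.trans (Subgroup.commutator_le.2 fun u hu e he => ?_)))
    exact Subgroup.mem_bot.2 (commutatorElement_eq_one_iff_mul_comm.2
      (Subgroup.mem_centralizer_iff.1 (pCoreOf_le_centralizer hb (h e he)) u hu))
  have hU : ∀ g ∈ E, ∀ u ∈ blockMod 2 E, g * u * g⁻¹ ∈ blockMod 2 E := fun g hg u hu =>
    (Subgroup.mem_normalizer_iff.1 (hf.normU hg) u).1 hu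
  have hact : ∀ b ∈ E, ∃ k : ℕ, ∀ u ∈ blockMod 2 E, b * u * b⁻¹ = a ^ k * u * (a ^ k)⁻¹ := fun b hb' => by
    obtain ⟨k, hk⟩ := hgen a ha haQ b hb'
    refine ⟨k, fun u hu => ?_⟩
    calc b * u * b⁻¹ = a ^ k * (((a ^ k)⁻¹ * b) * u * ((a ^ k)⁻¹ * b)⁻¹) * (a ^ k)⁻¹ := by group
      _ = _ := by rw [mem_Q_conj_eq hb hk hu]
  -- the fixed elements of `a` are central
  have hfix : ∀ u ∈ blockMod 2 E, a * u * a⁻¹ = u → u ∈ Subgroup.centralizer (E : Set G) := by
    intro u hu hau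
    refine Subgroup.mem_centralizer_iff.2 fun b hb' => ?_
    obtain ⟨k, hk⟩ := hact b hb'
    have h1 : a ^ k * u * (a ^ k)⁻¹ = u := by
      clear hk
      induction k with
      | zero => simp
      | succ k ih => rw [pow_succ', show a * a ^ k * u * (a * a ^ k)⁻¹ = a * (a ^ k * u * (a ^ k)⁻¹) * a⁻¹ by group, ih, hau]
    have h2 := (hk u hu).trans h1
    rw [mul_inv_eq_iff_eq_mul] at h2
    exact h2
  -- the norm
  let N : G → G := fun u => u * (a * u * a⁻¹) * (a * (a * u * a⁻¹) * a⁻¹)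
  have hNU : ∀ u ∈ blockMod 2 E, N u ∈ blockMod 2 E := fun u hu =>
    mul_mem (mul_mem hu (hU a ha u hu)) (hU a ha _ (hU a ha u hu))
  have hNZ : ∀ u ∈ blockMod 2 E, N u ∈ Subgroup.centralizer (E : Set G) := by
    intro u hu
    refine hfix _ (hNU u hu) ?_
    have h3 := mem_Q_conj_eq hb (hcube a ha) hu
    calc a * N u * a⁻¹ = (a * u * a⁻¹) * (a * (a * u * a⁻¹) * a⁻¹) * (a ^ 3 * u * (a ^ 3)⁻¹) := by
          simp only [N, pow_succ, pow_zero, one_mul]; group
      _ = N u := by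
          rw [h3, blockMod_comm E hb _ (mul_mem (hU a ha u hu) (hU a ha _ (hU a ha u hu))) u hu, ← mul_assoc]
  have hNmul : ∀ u ∈ blockMod 2 E, ∀ v ∈ blockMod 2 E, N (u * v) = N u * N v := by
    intro u hu v hv
    letI : CommGroup (blockMod 2 E) :=
      { (inferInstance : Group (blockMod 2 E)) with
        mul_comm := fun x y => Subtype.ext (blockMod_comm E hb _ x.2 _ y.2) }
    let c : blockMod 2 E → blockMod 2 E := fun x => ⟨a * x * a⁻¹, hU a ha x x.2⟩
    have hc : ∀ x y, c (x * y) = c x * c y := fun x y => Subtype.ext (by simp [c, mul_assoc])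
    have : (⟨u, hu⟩ * ⟨v, hv⟩ : blockMod 2 E) * c (⟨u, hu⟩ * ⟨v, hv⟩) * c (c (⟨u, hu⟩ * ⟨v, hv⟩)) =
        (⟨u, hu⟩ * c ⟨u, hu⟩ * c (c ⟨u, hu⟩)) * (⟨v, hv⟩ * c ⟨v, hv⟩ * c (c ⟨v, hv⟩)) := by
      rw [hc, hc, mul_mul_mul_comm (⟨u, hu⟩ : blockMod 2 E), mul_mul_mul_comm ((⟨u, hu⟩ : blockMod 2 E) * c ⟨u, hu⟩)]
    exact congrArg Subtype.val this
  have hNe : ∀ u ∈ blockMod 2 E, ∀ b ∈ E, N (b * u * b⁻¹) = b * N u * b⁻¹ := by
    intro u hu b hb'
    obtain ⟨k, hk⟩ := hact b hb'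
    rw [hk u hu, hk _ (hNU u hu)]
    simp only [N]
    have hc : Commute a (a ^ k) := Commute.self_pow a k
    calc a ^ k * u * (a ^ k)⁻¹ * (a * (a ^ k * u * (a ^ k)⁻¹) * a⁻¹) *
          (a * (a * (a ^ k * u * (a ^ k)⁻¹) * a⁻¹) * a⁻¹)
        = a ^ k * (u * (((a ^ k)⁻¹ * a * a ^ k) * u * ((a ^ k)⁻¹ * a * a ^ k)⁻¹) *
            ((((a ^ k)⁻¹ * a * a ^ k) * ((((a ^ k)⁻¹ * a * a ^ k) * u * ((a ^ k)⁻¹ * a * a ^ k)⁻¹)) *
              ((a ^ k)⁻¹ * a * a ^ k)⁻¹))) * (a ^ k)⁻¹ := by group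
      _ = _ := by rw [show (a ^ k)⁻¹ * a * a ^ k = a by rw [mul_assoc, hc.eq, inv_mul_cancel_left]]
  have hinf : ∀ u ∈ blockMod 2 E, u ∈ Subgroup.centralizer (E : Set G) → u = 1 := by
    intro z hz hzc
    have hN1 : ∀ u ∈ blockMod 2 E, N u = 1 := by
      intro u hu
      have hle : ⁅blockMod 2 E, E⁆ ≤ Subgroup.closure {x | x ∈ blockMod 2 E ∧ N x = 1} :=
        Subgroup.commutator_le.2 fun w hw b hb' => by
          have hm : ⁅w, b⁆ ∈ blockMod 2 E := hf.idem ▸ Subgroup.commutator_mem_commutator hw hb'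
          refine Subgroup.subset_closure ⟨hm, ?_⟩
          have hNi : N (w⁻¹) = (N w)⁻¹ := by
            have := hNmul w hw w⁻¹ (inv_mem hw)
            rw [mul_inv_cancel] at this
            exact eq_inv_of_mul_eq_one_right (this.symm.trans (by simp [N]))
          rw [commutatorElement_def, show w * b * w⁻¹ * b⁻¹ = w * (b * w⁻¹ * b⁻¹) by group,
            hNmul w hw _ (hU b hb' _ (inv_mem hw)), hNe _ (inv_mem hw) b hb', hNi,
            Subgroup.mem_centralizer_iff.1 (inv_mem (hNZ w hw)) b hb', mul_inv_cancel_right, mul_inv_cancel]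
      have hsub : Subgroup.closure {x | x ∈ blockMod 2 E ∧ N x = 1} ≤ blockMod 2 E :=
        (Subgroup.closure_le _).2 fun x hx => hx.1
      have := (hf.idem.symm.le.trans hle) hu
      induction this using Subgroup.closure_induction with
      | mem x hx => exact hx.2
      | one => simp [N]
      | mul x y hx hy ihx ihy => rw [hNmul x (hsub hx) y (hsub hy), ihx (hsub hx), ihy (hsub hy), one_mul]
      | inv x hx ihx =>
        have := hNmul x (hsub hx) x⁻¹ (inv_mem (hsub hx))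
        rw [mul_inv_cancel, ihx (hsub hx), one_mul] at this
        exact this.symm.trans (by simp [N])
    have h1 : a * z * a⁻¹ = z := by rw [Subgroup.mem_centralizer_iff.1 hzc a ha, mul_inv_cancel_right]
    have h2 := hN1 z hz
    simp only [N] at h2
    rw [h1, h1] at h2
    have h3 : z * z = 1 := by rw [← pow_two]; exact omegaOneCenter_pow _ (hf.le_W hz)
    rwa [h3, one_mul] at h2
  have hc4 : Nat.card (blockMod 2 E) = 4 := by
    rw [← hcard]
    refine Nat.card_congr (MonoidHom.ofInjective (f := ψ) ?_).toEquiv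
    exact (injective_iff_map_eq_one ψ).2 fun u hu => Subtype.ext (hinf u u.2 ((hker u).1 hu))
  refine ⟨hinf, by rw [hc4]; norm_num, Or.inl ⟨rfl, hcube⟩, fun g hg hgg => ?_⟩
  obtain ⟨-, hg3⟩ := hgg.resolve_right fun h => by omega
  classical
  letI : Fintype {x : blockMod 2 E // x ≠ 1} := Fintype.ofFinite _
  have hS : Fintype.card {x : blockMod 2 E // x ≠ 1} = 3 := by
    letI := Fintype.ofFinite (blockMod 2 E)
    rw [Fintype.card_subtype_compl, Fintype.card_subtype_eq, ← Nat.card_eq_fintype_card, hc4]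
  let eS := Equiv.permCongr (Fintype.equivFinOfCardEq hS)
  let P : Subgroup.normalizer (blockMod 2 E : Set G) → Equiv.Perm (Fin 3) := fun x => eS (permHom E x)
  have hPmul : ∀ x y, P (x * y) = P x * P y := fun x y => by
    show eS _ = eS _ * eS _
    rw [map_mul]
    exact Equiv.ext fun i => by simp [eS, Equiv.permCongr_apply]
  have hP1 : ∀ x : Subgroup.normalizer (blockMod 2 E : Set G), (∀ u ∈ blockMod 2 E, (x : G) * u * (x : G)⁻¹ = u) → P x = 1 := fun x hx => by
    have : permHom E x = permHom E 1 := (permHom_eq_iff x 1).2 fun u hu => by simpa using hx u hu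
    show eS _ = 1
    rw [this, map_one]
    exact Equiv.ext fun i => by simp [eS, Equiv.permCongr_apply]
  have key : ∀ s r : Equiv.Perm (Fin 3), (∀ i, s i ≠ i) → r * r * r = 1 → r = 1 ∨ r = s ∨ r = s * s := by decide
  set a' : Subgroup.normalizer (blockMod 2 E : Set G) := ⟨a, hf.normU ha⟩ with ha'
  have hafree : ∀ i, P a' i ≠ i := by
    intro i hi
    set x := (Fintype.equivFinOfCardEq hS).symm i with hx
    have h1 : permHom E a' x = x := (Fintype.equivFinOfCardEq hS).injective (by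
      rw [hx, Equiv.apply_symm_apply]
      simpa [P, eS, Equiv.permCongr_apply] using hi)
    exact x.2 (Subtype.ext (hinf _ x.1.2 (hfix _ x.1.2 (congrArg (fun y => (y.1 : G)) h1))))
  have hg3' : P ⟨g, hg⟩ * P ⟨g, hg⟩ * P ⟨g, hg⟩ = 1 := by
    rw [← hPmul, ← hPmul]
    refine hP1 _ fun u hu => ?_
    show g * g * g * u * (g * g * g)⁻¹ = u
    rw [← pow_two, ← pow_succ, ← Subgroup.mem_centralizer_iff.1 hg3 u hu, mul_inv_cancel_right]
  have hback : ∀ x, P ⟨g, hg⟩ = P x → ∀ u ∈ blockMod 2 E, g * u * g⁻¹ = (x : G) * u * (x : G)⁻¹ := fun x h =>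
    (permHom_eq_iff _ _).1 (eS.injective h)
  rcases key _ _ hafree hg3' with h | h | h
  · exact ⟨1, one_mem _, fun u hu => hback 1 (h.trans (hP1 1 fun w _ => by simp).symm) u hu⟩
  · exact ⟨a, ha, hback a' h⟩
  · exact ⟨a * a, mul_mem ha ha, hback (a' * a') (h.trans (hPmul a' a').symm)⟩

theorem sl23_facts :
    (∀ a b : SL(2, ZMod 3), ⁅a, b⁆ ^ 4 = 1) ∧
    (∀ a b : SL(2, ZMod 3), a ^ 4 = 1 → b ^ 4 = 1 → (a * b) ^ 4 = 1) ∧
    (∀ a b : SL(2, ZMod 3), a ^ 4 = 1 → b ^ 4 = 1 → a * b ≠ b * a → ∀ c : SL(2, ZMod 3), c ^ 4 = 1 →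
      c ∈ [1, a, b, a * b, a * a, b * a, a * a * a, b * b * b]) ∧
    (∀ M : Matrix (Fin 2) (Fin 2) (ZMod 3), M * M = -1 → M.det = 1) ∧
    (∀ s : SL(2, ZMod 3), s ^ 4 = 1 →
      s ∈ [1, -1, weylSL, -weylSL, quatJ, -quatJ, weylSL * quatJ, -(weylSL * quatJ)]) := by
  refine ⟨?_, ?_, ?_, ?_, ?_⟩ <;> decide +kernel

theorem sl22_facts :
    (∀ a b : SL(2, ZMod 2), ⁅a, b⁆ ^ 3 = 1) ∧
    (∀ a b : SL(2, ZMod 2), a ^ 3 = 1 → b ^ 3 = 1 → (a * b) ^ 3 = 1) ∧
    (∀ a b : SL(2, ZMod 2), a ^ 3 = 1 → a ≠ 1 → b ^ 3 = 1 → ∃ k : Fin 3, a ^ (k : ℕ) = b) ∧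
    (∀ a : SL(2, ZMod 2), a ^ 3 = 1 → (a⁻¹) ^ 3 = 1) := by
  refine ⟨?_, ?_, ?_, ?_⟩ <;> decide +kernel

theorem alt3_facts :
    ∀ a b : Equiv.Perm (Fin 3), a ∈ alternatingGroup (Fin 3) → b ∈ alternatingGroup (Fin 3) →
      a ^ 3 = 1 ∧ (a ≠ 1 → ∃ k : Fin 3, a ^ (k : ℕ) = b) := by
  have h1 : ∀ a : Equiv.Perm (Fin 3), Equiv.Perm.sign a = 1 → a ^ 3 = 1 := by decide +kernel
  have h2 : ∀ a b : Equiv.Perm (Fin 3), Equiv.Perm.sign a = 1 → Equiv.Perm.sign b = 1 →
      a = 1 ∨ b = 1 ∨ b = a ∨ b = a ^ 2 := by decide +kernel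
  intro a b ha hb
  refine ⟨h1 a (Equiv.Perm.mem_alternatingGroup.1 ha), fun hne => ?_⟩
  rcases h2 a b (Equiv.Perm.mem_alternatingGroup.1 ha) (Equiv.Perm.mem_alternatingGroup.1 hb) with h | h | h | h
  · exact absurd h hne
  · exact ⟨0, by simp [h]⟩
  · exact ⟨1, by simp [h]⟩
  · exact ⟨2, by simp [h]⟩

theorem commutator_le_pow {R : Type*} [Group R] [Finite R] {n : ℕ} (hn : 0 < n)
    (hc : ∀ a b : R, ⁅a, b⁆ ^ n = 1) (hm : ∀ a b : R, a ^ n = 1 → b ^ n = 1 → (a * b) ^ n = 1) :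
    ∀ g ∈ commutator R, g ^ n = 1 := by
  let S : Subgroup R :=
    { carrier := {g | g ^ n = 1}
      one_mem' := one_pow n
      mul_mem' := fun {a b} ha hb => hm a b ha hb
      inv_mem' := fun {a} ha => by show a⁻¹ ^ n = 1; rw [inv_pow, show a ^ n = 1 from ha, inv_one] }
  intro g hg
  exact (show commutator R ≤ S from Subgroup.commutator_le.2 fun a _ b _ => hc a b) hg

/-- A normal subgroup of `E` whose image is everything is `E`. -/
theorem eq_of_img_eq (hb : IsBlock p E) {R : Type*} [Group R] (ρ : E →* R)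
    (hker : ∀ e : E, ρ e = 1 ↔ (e : G) ∈ pCoreOf p E) {M : Subgroup G} (hM : M ≤ E)
    (hn : E ≤ Subgroup.normalizer (M : Set G)) (h : ∀ e : E, ∃ x : E, (x : G) ∈ M ∧ ρ x = ρ e) : M = E :=
  eq_of_cover hb hM hn fun e he => by
    obtain ⟨x, hx, hxe⟩ := h ⟨e, he⟩
    exact ⟨x, hx, (hker (x⁻¹ * ⟨e, he⟩)).1 (by rw [map_mul, map_inv, hxe, inv_mul_cancel])⟩

theorem LinCoords.perfect {F : Type} [Field F] [Finite F] (D : LinCoords p E F) (hb : IsBlock p E)
    (hbig : ∃ t : F, t ≠ 0 ∧ t * t ≠ 1) (h4 : 4 ≤ Nat.card F) : PerfectBlock p E ∧ NormalProper p E := by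
  haveI := Fintype.ofFinite F
  have hchar := (field_cases D).1
  have hperf : commutator SL(2, F) = ⊤ :=
    CfsgLib.Classical.Linear.commutator_sl_fin_eq_top 2 fun _ => by
      obtain ⟨t, h0, h1⟩ := hbig; exact ⟨t, h0, by rwa [pow_two]⟩
  have hsurj : ∀ s : SL(2, F), ∃ e, D.ρ e = s := fun s => by
    have : s ∈ D.ρ.range := by rw [D.range_eq, hperf]; exact Subgroup.mem_top s
    exact this
  have hcentral : ∀ M : Subgroup G, M ≤ E → E ≤ Subgroup.normalizer (M : Set G) → M ≠ E →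
      ∀ m ∈ M, ∀ e ∈ E, ⁅m, e⁆ ∈ pCoreOf p E := by
    intro M hM hn hne m hm e he
    haveI hK : (img D.ρ M).Normal := by
      refine ⟨fun x hx g => ?_⟩
      obtain ⟨y, hy, rfl⟩ := hx
      obtain ⟨f, rfl⟩ := hsurj g
      exact ⟨f * y * f⁻¹, (Subgroup.mem_normalizer_iff.1 (hn f.2) _).1 hy, by simp⟩
    rcases CfsgLib.Classical.Linear.normal_le_center_or_eq_top hperf (img D.ρ M) with h | h
    · refine (D.ρ_ker ⁅(⟨m, hM hm⟩ : E), ⟨e, he⟩⁆).1 ?_
      rw [map_commutatorElement, commutatorElement_eq_one_iff_mul_comm]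
      exact (Subgroup.mem_center_iff.1 (h ⟨⟨m, hM hm⟩, hm, rfl⟩) _).symm
    · refine absurd (eq_of_img_eq hb D.ρ D.ρ_ker hM hn fun f => ?_) hne
      have : D.ρ f ∈ img D.ρ M := h ▸ Subgroup.mem_top _
      obtain ⟨x, hx, hxe⟩ := this
      exact ⟨x, hx, hxe⟩
  refine ⟨⟨?_, ?_, hcentral⟩, normalProper_of_central hcentral ?_⟩
  · refine eq_of_img_eq hb D.ρ D.ρ_ker (commutator_le_self E) (le_normalizer_commutator E) fun f => ?_
    have h : D.ρ f ∈ (commutator E).map D.ρ := by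
      rw [commutator_def, Subgroup.map_commutator, Subgroup.map_top_of_surjective _ hsurj, ← commutator_def,
        hperf]
      exact Subgroup.mem_top _
    obtain ⟨x, hx, hxe⟩ := h
    refine ⟨x, ?_, hxe⟩
    have := Subgroup.mem_map_of_mem E.subtype hx
    rw [commutator_def, Subgroup.map_commutator, ← MonoidHom.range_eq_map, Subgroup.range_subtype] at this
    exact this
  · have h := card_blockMod_le D.ψ Set.univ fun v _ => by
      obtain ⟨u, hu⟩ := D.surj (Multiplicative.ofAdd v)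
      exact ⟨u, by rw [hu]; rfl⟩
    rw [Nat.card_univ, Nat.card_fun, Nat.card_fin] at h
    nlinarith
  · rintro rfl m hm hmc
    haveI := hchar
    refine (D.ρ_ker ⟨m, hm⟩).1 ?_
    have hcen : D.ρ ⟨m, hm⟩ ∈ Subgroup.center SL(2, F) := by
      refine Subgroup.mem_center_iff.2 fun g => ?_
      obtain ⟨f, rfl⟩ := hsurj g
      have := (D.ρ_ker ⁅(⟨m, hm⟩ : E), f⁆).2 (hmc f f.2)
      rw [map_commutatorElement, commutatorElement_eq_one_iff_mul_comm] at this
      exact this.symm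
    obtain ⟨r, hr, hr'⟩ := Matrix.SpecialLinearGroup.mem_center_iff.1 hcen
    rw [Fintype.card_fin, pow_two] at hr
    have hr1 : r = 1 := by
      have : (r - 1) ^ 2 = 0 := by rw [CharTwo.sub_eq_add, CharTwo.add_sq, pow_two, hr, one_pow, CharTwo.add_self_eq_zero]
      exact sub_eq_zero.1 ((pow_eq_zero_iff (by norm_num)).1 this)
    refine Subtype.ext ?_
    rw [← hr', hr1, map_one, Matrix.SpecialLinearGroup.coe_one]

theorem AltCoords.perfect {m : ℕ} (D : AltCoords p E m) (hb : IsBlock p E) (hm : 2 ≤ m) :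
    PerfectBlock p E ∧ NormalProper p E := by
  haveI hsimple : IsSimpleGroup (alternatingGroup (Fin (2 * m + 1))) :=
    alternatingGroup.isSimpleGroup (by rw [Nat.card_fin]; omega)
  let ρ' : E →* alternatingGroup (Fin (2 * m + 1)) :=
    D.ρ.codRestrict _ fun e => by rw [← D.range_eq]; exact ⟨e, rfl⟩
  have hsurj : Function.Surjective ρ' := fun s => by
    have : (s : Equiv.Perm (Fin (2 * m + 1))) ∈ D.ρ.range := by rw [D.range_eq]; exact s.2
    obtain ⟨e, he⟩ := this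
    exact ⟨e, Subtype.ext he⟩
  have hker : ∀ e : E, ρ' e = 1 ↔ (e : G) ∈ pCoreOf p E := fun e => by
    rw [← D.ρ_ker]; exact Subtype.ext_iff
  have hnc : ¬ ∀ a b : alternatingGroup (Fin (2 * m + 1)), a * b = b * a := by
    intro h
    obtain ⟨a, b, hab⟩ : ∃ a b : alternatingGroup (Fin (2 * m + 1)), a * b ≠ b * a := by
      let i : Fin 3 → Fin (2 * m + 1) := fun k => ⟨k, by omega⟩
      let c1 : Equiv.Perm (Fin (2 * m + 1)) := Equiv.swap (i 0) (i 1) * Equiv.swap (i 1) (i 2)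
      let j : Fin (2 * m + 1) := ⟨3, by omega⟩
      let c2 : Equiv.Perm (Fin (2 * m + 1)) := Equiv.swap (i 0) (i 1) * Equiv.swap (i 1) j
      have h01 : i 0 ≠ i 1 := by simp [i, Fin.ext_iff]
      have h12 : i 1 ≠ i 2 := by simp [i, Fin.ext_iff]
      have h1j : i 1 ≠ j := by simp [i, j, Fin.ext_iff]
      refine ⟨⟨c1, ?_⟩, ⟨c2, ?_⟩, fun h => ?_⟩
      · rw [Equiv.Perm.mem_alternatingGroup, map_mul, Equiv.Perm.sign_swap h01, Equiv.Perm.sign_swap h12]; decide
      · rw [Equiv.Perm.mem_alternatingGroup, map_mul, Equiv.Perm.sign_swap h01, Equiv.Perm.sign_swap h1j]; decide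
      · have := congrArg (fun x : alternatingGroup (Fin (2 * m + 1)) => (x : Equiv.Perm _) j) h
        simp [c1, c2, i, j, Equiv.swap_apply_def, Fin.ext_iff] at this
    exact hab (h a b)
  have htriv : ∀ M : Subgroup G, M ≤ E → E ≤ Subgroup.normalizer (M : Set G) → M ≠ E →
      M ≤ pCoreOf p E := by
    intro M hM hn hne
    haveI hK : (img ρ' M).Normal := by
      refine ⟨fun x hx g => ?_⟩
      obtain ⟨y, hy, rfl⟩ := hx
      obtain ⟨f, rfl⟩ := hsurj g
      exact ⟨f * y * f⁻¹, (Subgroup.mem_normalizer_iff.1 (hn f.2) _).1 hy, by simp⟩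
    rcases hK.eq_bot_or_eq_top with h | h
    · intro x hx
      refine (hker ⟨x, hM hx⟩).1 (Subgroup.mem_bot.1 (h ▸ ?_))
      exact ⟨⟨x, hM hx⟩, hx, rfl⟩
    · refine absurd (eq_of_img_eq hb ρ' hker hM hn fun f => ?_) hne
      have : ρ' f ∈ img ρ' M := h ▸ Subgroup.mem_top _
      obtain ⟨x, hx, hxe⟩ := this
      exact ⟨x, hx, hxe⟩
  have hcentral : ∀ M : Subgroup G, M ≤ E → E ≤ Subgroup.normalizer (M : Set G) → M ≠ E →
      ∀ x ∈ M, ∀ e ∈ E, ⁅x, e⁆ ∈ pCoreOf p E := fun M hM hn hne x hx e he => by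
    have hx' := htriv M hM hn hne hx
    rw [commutatorElement_def, show x * e * x⁻¹ * e⁻¹ = x * (e * x⁻¹ * e⁻¹) by group]
    exact mul_mem hx' ((Subgroup.mem_normalizer_iff.1 (le_normalizer_pCoreOf E he) _).1 (inv_mem hx'))
  refine ⟨⟨?_, ?_, hcentral⟩, fun M hM hn hne =>
    ⟨fun a ha b hb' => hcentral M hM hn hne a ha b (hM hb'), fun _ => htriv M hM hn hne⟩⟩
  · by_contra hne
    refine hnc fun a b => ?_
    obtain ⟨x, rfl⟩ := hsurj a
    obtain ⟨y, rfl⟩ := hsurj b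
    rw [← commutatorElement_eq_one_iff_mul_comm, ← map_commutatorElement]
    exact (hker _).2 (htriv _ (commutator_le_self E) (le_normalizer_commutator E) hne
      (Subgroup.commutator_mem_commutator x.2 y.2))
  · obtain rfl := D.p_eq
    let f : (Fin 4 → ZMod 2) → (Fin (2 * m + 1) → ZMod 2) := fun v i =>
      if h : (i : ℕ) < 4 then v ⟨i, h⟩ else if (i : ℕ) = 4 then ∑ k, v k else 0
    have hf : ∀ v, ∑ i, f v i = 0 := by
      intro v
      have e : (Finset.univ.filter fun i : Fin (2 * m + 1) => (i : ℕ) < 5) =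
          Finset.univ.image (fun k : Fin 5 => (⟨k, by omega⟩ : Fin (2 * m + 1))) := by
        ext i
        simp only [Finset.mem_filter, Finset.mem_univ, true_and, Finset.mem_image]
        exact ⟨fun h => ⟨⟨i, h⟩, rfl⟩, fun ⟨k, hk⟩ => hk ▸ k.2⟩
      rw [← Finset.sum_filter_of_ne (p := fun i : Fin (2 * m + 1) => (i : ℕ) < 5) (fun i _ hi => ?_), e,
        Finset.sum_image]
      · simp only [f, Fin.sum_univ_five, Fin.sum_univ_four]
        norm_num
        exact CharTwo.add_self_eq_zero _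
      · exact fun a _ b _ h => Fin.ext (congrArg (fun x : Fin (2 * m + 1) => (x : ℕ)) h)
      · by_contra hlt
        exact hi (by simp [f, show ¬ (i : ℕ) < 4 by omega, show (i : ℕ) ≠ 4 by omega])
    have hinj : Function.Injective f := fun v w h => funext fun k => by
      have := congrFun h ⟨k, by omega⟩
      simpa [f, k.2] using this
    have h := card_blockMod_le D.ψ (Set.range f) fun v ⟨w, hw⟩ => D.surj v (hw ▸ hf w)
    rw [Nat.card_range_of_injective hinj, Nat.card_fun, Nat.card_fin, Nat.card_zmod] at h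
    omega

theorem kind_cases (hb : IsBlock p E) : (PerfectBlock p E ∨ Small p E) ∧ NormalProper p E := by
  rcases exists_coords hb with ⟨F, _, _, ⟨D⟩⟩ | ⟨m, ⟨D⟩⟩
  · obtain ⟨hchar, ⟨hbig, h4⟩ | ⟨hp, hcard⟩⟩ := field_cases D
    · exact ⟨Or.inl (D.perfect hb hbig h4).1, (D.perfect hb hbig h4).2⟩
    haveI := Fintype.ofFinite F
    rw [Nat.card_eq_fintype_card] at hcard
    rcases hp with rfl | rfl
    · let D' := D.transfer (ZMod.ringEquivOfPrime F Nat.prime_two hcard).symm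
      obtain ⟨hc, hm, hgen, -⟩ := sl22_facts
      have hR : ∀ e : E, D'.ρ e ^ 3 = 1 := fun e =>
        commutator_le_pow (by norm_num) hc hm _ (D'.range_eq ▸ ⟨e, rfl⟩)
      have hgen' : ∀ a ∈ E, a ∉ pCoreOf 2 E → ∀ b ∈ E, ∃ k : ℕ, (a ^ k)⁻¹ * b ∈ pCoreOf 2 E := by
        intro a ha haQ b hb'
        obtain ⟨k, hk⟩ := hgen (D'.ρ ⟨a, ha⟩) (D'.ρ ⟨b, hb'⟩) (hR _)
          (fun h => haQ ((D'.ρ_ker _).1 h)) (hR _)
        exact ⟨k, (D'.ρ_ker ((⟨a, ha⟩ ^ (k : ℕ))⁻¹ * ⟨b, hb'⟩)).1 (by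
          rw [map_mul, map_inv, map_pow, hk, inv_mul_cancel])⟩
      refine ⟨Or.inr (small_two hb rfl D'.ψ D'.ker ?_ ?_ hgen'), ?_⟩
      · rw [MonoidHom.range_eq_top.2 D'.surj, Subgroup.card_top,
          Nat.card_congr (Multiplicative.toAdd : Multiplicative (Fin 2 → ZMod 2) ≃ _), Nat.card_fun,
          Nat.card_fin, Nat.card_zmod]
        norm_num
      · exact fun e he => (D'.ρ_ker (⟨e, he⟩ ^ 3)).1 (by rw [map_pow]; exact hR _)
      intro M hM hn hne
      have hle : M ≤ pCoreOf 2 E := fun a ha => by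
        by_contra haQ
        refine hne (eq_of_cover hb hM hn fun b hb' => ?_)
        obtain ⟨k, hk⟩ := hgen' a (hM ha) haQ b hb'
        exact ⟨a ^ k, pow_mem ha k, hk⟩
      refine ⟨fun a ha b hb' => ?_, fun _ => hle⟩
      rw [commutatorElement_def]
      exact mul_mem (mul_mem (mul_mem (hle ha) (hle hb')) (inv_mem (hle ha))) (inv_mem (hle hb'))
    · let D' := D.transfer (ZMod.ringEquivOfPrime F Nat.prime_three hcard).symm
      obtain ⟨hc, hm, hgen, hdet, hlist⟩ := sl23_facts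
      have hR : ∀ e : E, D'.ρ e ^ 4 = 1 := fun e =>
        commutator_le_pow (by norm_num) hc hm _ (D'.range_eq ▸ ⟨e, rfl⟩)
      have hmemR : ∀ s : SL(2, ZMod 3), s ^ 4 = 1 → ∃ e : E, D'.ρ e = s := fun s hs => by
        have hneg : ∀ x ∈ commutator SL(2, ZMod 3), -x ∈ commutator SL(2, ZMod 3) := fun x hx => by
          rw [show -x = -1 * x by rw [neg_one_mul]]; exact mul_mem neg_one_mem hx
        have h : s ∈ commutator SL(2, ZMod 3) := by
          have := hlist s hs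
          simp only [List.mem_cons, List.not_mem_nil, or_false] at this
          rcases this with rfl | rfl | rfl | rfl | rfl | rfl | rfl | rfl
          · exact one_mem _
          · exact neg_one_mem
          · exact weylSL_mem
          · exact hneg _ weylSL_mem
          · exact quatJ_mem
          · exact hneg _ quatJ_mem
          · exact mul_mem weylSL_mem quatJ_mem
          · exact hneg _ (mul_mem weylSL_mem quatJ_mem)
        rw [← D'.range_eq] at h
        exact h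
      have hinf := (exists_inverting hb (by norm_num)).2
      have hinj : Function.Injective D'.ψ := (injective_iff_map_eq_one _).2 fun u hu =>
        Subtype.ext (hinf u u.2 ((D'.ker u).1 hu))
      have hinvert : ∀ e : E, D'.ρ e = -1 → ∀ u ∈ blockMod 3 E, (e : G) * u * (e : G)⁻¹ = u⁻¹ := by
        intro e he u hu
        have hu' : (e : G) * u * (e : G)⁻¹ ∈ blockMod 3 E :=
          (Subgroup.mem_normalizer_iff.1 (hb.facts.normU e.2) u).1 hu
        have h := D'.compat e ⟨u, hu⟩ ⟨_, hu'⟩ rfl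
        rw [he, neg_mulVec] at h
        exact congrArg Subtype.val (hinj (show D'.ψ ⟨_, hu'⟩ = D'.ψ (⟨u, hu⟩⁻¹) from
          Multiplicative.toAdd.injective (by rw [map_inv, toAdd_inv]; exact h)))
      obtain ⟨ew, hew⟩ := hmemR weylSL (by rw [show (4 : ℕ) = 2 * 2 from rfl, pow_mul, pow_two weylSL, weylSL_sq]; simp)
      obtain ⟨ej, hej⟩ := hmemR quatJ (by rw [show (4 : ℕ) = 2 * 2 from rfl, pow_mul, pow_two quatJ, quatJ_sq]; simp)
      refine ⟨Or.inr ⟨hinf, ?_, Or.inr ⟨rfl, ⟨ew, ew.2, ej, ej.2, ?_⟩, ?_⟩, ?_⟩, ?_⟩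
      · rw [Nat.card_congr (Equiv.ofBijective D'.ψ ⟨hinj, D'.surj⟩),
          Nat.card_congr (Multiplicative.toAdd : Multiplicative (Fin 2 → ZMod 3) ≃ _), Nat.card_fun,
          Nat.card_fin, Nat.card_zmod]
      · exact hinvert ⁅ew, ej⁆ (by rw [map_commutatorElement, hew, hej, commutator_weyl_quatJ])
      · intro e he
        set S := Subgroup.closure ({e | e ∈ E ∧ ∀ u ∈ blockMod 3 E, e * e * u * (e * e)⁻¹ = u⁻¹} ∪
          (pCoreOf 3 E : Set G)) with hS
        have hgenS : ∀ x : E, D'.ρ x * D'.ρ x = -1 → (x : G) ∈ S := fun x hx =>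
          Subgroup.subset_closure (Or.inl ⟨x.2, hinvert (x * x) (by rw [map_mul, hx])⟩)
        have hwS : (ew : G) ∈ S := hgenS ew (by rw [hew]; exact weylSL_sq)
        have hjS : (ej : G) ∈ S := hgenS ej (by rw [hej]; exact quatJ_sq)
        have hsame : ∀ x : E, (x : G) ∈ S → D'.ρ x = D'.ρ ⟨e, he⟩ → e ∈ S := fun x hx h => by
          have : ((x⁻¹ * ⟨e, he⟩ : E) : G) ∈ S := Subgroup.subset_closure (Or.inr ((D'.ρ_ker _).1
            (by rw [map_mul, map_inv, h, inv_mul_cancel])))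
          simpa using mul_mem hx this
        have := hlist _ (hR ⟨e, he⟩)
        simp only [List.mem_cons, List.not_mem_nil, or_false] at this
        rcases this with h | h | h | h | h | h | h | h
        · exact hsame 1 (one_mem _) (by rw [map_one, h])
        · exact hsame (ew * ew) (mul_mem hwS hwS) (by rw [map_mul, hew, weylSL_sq, h])
        · exact hsame ew hwS (by rw [hew, h])
        · exact hsame (ew * ew * ew) (mul_mem (mul_mem hwS hwS) hwS) (by rw [map_mul, map_mul, hew, weylSL_sq, h, neg_one_mul])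
        · exact hsame ej hjS (by rw [hej, h])
        · exact hsame (ej * ej * ej) (mul_mem (mul_mem hjS hjS) hjS) (by rw [map_mul, map_mul, hej, quatJ_sq, h, neg_one_mul])
        · exact hsame (ew * ej) (mul_mem hwS hjS) (by rw [map_mul, hew, hej, h])
        · exact hsame (ew * ew * (ew * ej)) (mul_mem (mul_mem hwS hwS) (mul_mem hwS hjS))
            (by rw [map_mul, map_mul, map_mul, hew, hej, weylSL_sq, h, neg_one_mul])
      · intro g hg hgg
        obtain ⟨-, hg2⟩ := hgg.resolve_left fun h => by omega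
        let c : blockMod 3 E →* blockMod 3 E := MonoidHom.mk'
          (fun u => ⟨g * u * g⁻¹, (Subgroup.mem_normalizer_iff.1 hg _).1 u.2⟩)
          (fun u v => Subtype.ext (by simp [mul_assoc]))
        let eU := MulEquiv.ofBijective D'.ψ ⟨hinj, D'.surj⟩
        let T : (Fin 2 → ZMod 3) →+ (Fin 2 → ZMod 3) :=
          MonoidHom.toAdditive (eU.toMonoidHom.comp (c.comp eU.symm.toMonoidHom))
        set M := LinearMap.toMatrix' (T.toZModLinearMap 3) with hM
        have hMT : ∀ u, (D'.ψ (c u)).toAdd = M.mulVec (D'.ψ u).toAdd := fun u => by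
          rw [hM, ← Matrix.toLin'_apply, Matrix.toLin'_toMatrix']
          show (eU (c u)).toAdd = (eU (c (eU.symm (eU u)))).toAdd
          rw [MulEquiv.symm_apply_apply]
        have hM2 : M * M = -1 := Matrix.mulVec_injective (funext fun x => by
          obtain ⟨u, hu⟩ := D'.surj (Multiplicative.ofAdd x)
          have hcc : c (c u) = u⁻¹ := Subtype.ext (by
            show g * (g * u * g⁻¹) * g⁻¹ = (u : G)⁻¹
            rw [← hg2 u u.2]; group)
          rw [show x = (D'.ψ u).toAdd by rw [hu]; rfl, ← Matrix.mulVec_mulVec, ← hMT, ← hMT, hcc, map_inv,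
            toAdd_inv, Matrix.neg_mulVec, Matrix.one_mulVec])
        let s : SL(2, ZMod 3) := ⟨M, hdet M hM2⟩
        obtain ⟨e, he⟩ := hmemR s (Subtype.ext (by
          rw [Matrix.SpecialLinearGroup.coe_pow, Matrix.SpecialLinearGroup.coe_one]
          show M ^ 4 = 1
          rw [show (4 : ℕ) = 2 * 2 from rfl, pow_mul, pow_two M, hM2, neg_one_sq]))
        refine ⟨e, e.2, fun u hu => ?_⟩
        have hu' := (Subgroup.mem_normalizer_iff.1 (hb.facts.normU e.2) u).1 hu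
        refine congrArg Subtype.val (hinj (show D'.ψ (c ⟨u, hu⟩) = D'.ψ ⟨_, hu'⟩ from
          Multiplicative.toAdd.injective ?_))
        rw [hMT, D'.compat e ⟨u, hu⟩ ⟨_, hu'⟩ rfl, he]
      · intro M hM hn hne
        refine ⟨fun a ha b hb' => ?_, fun h => absurd h (by norm_num)⟩
        refine (D'.ρ_ker ⁅(⟨a, hM ha⟩ : E), ⟨b, hM hb'⟩⁆).1 ?_
        by_contra hab
        rw [map_commutatorElement, commutatorElement_eq_one_iff_mul_comm] at hab
        refine hne (eq_of_img_eq hb D'.ρ D'.ρ_ker hM hn fun f => ?_)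
        have := hgen _ _ (hR _) (hR _) hab _ (hR f)
        simp only [List.mem_cons, List.not_mem_nil, or_false] at this
        rcases this with h | h | h | h | h | h | h | h
        · exact ⟨1, one_mem _, by rw [map_one, h]⟩
        · exact ⟨_, ha, h.symm⟩
        · exact ⟨_, hb', h.symm⟩
        · exact ⟨⟨a, hM ha⟩ * ⟨b, hM hb'⟩, mul_mem ha hb', by rw [map_mul, h]⟩
        · exact ⟨⟨a, hM ha⟩ * ⟨a, hM ha⟩, mul_mem ha ha, by rw [map_mul, h]⟩
        · exact ⟨⟨b, hM hb'⟩ * ⟨a, hM ha⟩, mul_mem hb' ha, by rw [map_mul, h]⟩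
        · exact ⟨⟨a, hM ha⟩ * ⟨a, hM ha⟩ * ⟨a, hM ha⟩, mul_mem (mul_mem ha ha) ha, by rw [map_mul, map_mul, h]⟩
        · exact ⟨⟨b, hM hb'⟩ * ⟨b, hM hb'⟩ * ⟨b, hM hb'⟩, mul_mem (mul_mem hb' hb') hb', by rw [map_mul, map_mul, h]⟩
  · rcases Nat.lt_or_ge m 2 with hm | hm
    swap
    · exact ⟨Or.inl (D.perfect hb hm).1, (D.perfect hb hm).2⟩
    obtain rfl : m = 1 := by have := D.m_pos; omega
    have hmem : ∀ e : E, D.ρ e ∈ alternatingGroup (Fin 3) := fun e => D.range_eq ▸ ⟨e, rfl⟩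
    have hgen' : ∀ a ∈ E, a ∉ pCoreOf p E → ∀ b ∈ E, ∃ k : ℕ, (a ^ k)⁻¹ * b ∈ pCoreOf p E := by
      intro a ha haQ b hb'
      obtain ⟨k, hk⟩ := (alt3_facts _ _ (hmem ⟨a, ha⟩) (hmem ⟨b, hb'⟩)).2 fun h => haQ ((D.ρ_ker _).1 h)
      exact ⟨k, (D.ρ_ker ((⟨a, ha⟩ ^ (k : ℕ))⁻¹ * ⟨b, hb'⟩)).1 (by
        rw [map_mul, map_inv, map_pow, hk, inv_mul_cancel])⟩
    refine ⟨Or.inr (small_two hb D.p_eq D.ψ D.ker ?_
      (fun e he => (D.ρ_ker (⟨e, he⟩ ^ 3)).1 (by rw [map_pow]; exact (alt3_facts _ _ (hmem ⟨e, he⟩) (hmem ⟨e, he⟩)).1)) hgen'), ?_⟩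
    · have hcard : ∀ s : Finset (Fin 3 → ZMod 2), s = Finset.univ.filter (fun v => ∑ i, v i = 0) → s.card = 4 := by
        rintro _ rfl; decide
      rw [← hcard _ rfl, ← Nat.card_eq_finsetCard]
      refine Nat.card_congr
        { toFun := fun x => ⟨x.1.toAdd, Finset.mem_filter.2 ⟨Finset.mem_univ _, by
            obtain ⟨u, hu⟩ := x.2; rw [← hu]; exact D.even u⟩⟩
          invFun := fun v => ⟨Multiplicative.ofAdd v.1, by
            obtain ⟨u, hu⟩ := D.surj v.1 (Finset.mem_filter.1 v.2).2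
            exact ⟨u, by rw [← hu]; rfl⟩⟩
          left_inv := fun x => rfl
          right_inv := fun v => rfl }
    intro M hM hn hne
    have hle : M ≤ pCoreOf p E := fun a ha => by
      by_contra haQ
      refine hne (eq_of_cover hb hM hn fun b hb' => ?_)
      obtain ⟨k, hk⟩ := hgen' a (hM ha) haQ b hb'
      exact ⟨a ^ k, pow_mem ha k, hk⟩
    refine ⟨fun a ha b hb' => ?_, fun _ => hle⟩
    rw [commutatorElement_def]
    exact mul_mem (mul_mem (mul_mem (hle ha) (hle hb')) (inv_mem (hle ha))) (inv_mem (hle hb'))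

end CfsgLib.BaumannBlock.Subnormal
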