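import Mathlib
import Cfsg.Agent.BaumannBlock.Subnormal.Kinds

/-!
Maps commuting with an irreducible action commute with each other.
-/

set_option autoImplicit false

open scoped commutatorElement

namespace CfsgLib.BaumannBlock.Subnormal

open Cfsg

variable {G : Type*} [Group G] {p : ℕ} [Finite G]

/-- Two elements commuting with an irreducible action on an abelian section commute on it. -/
theorem section_commute {E X Y : Subgroup G} (hYX : Y ≤ X) (hY : ∀ a ∈ X, ∀ b ∈ X, ⁅a, b⁆ ∈ Y)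
    (hEX : E ≤ Subgroup.normalizer (X : Set G)) (hEY : E ≤ Subgroup.normalizer (Y : Set G))
    (hirr : ∀ X₁ : Subgroup G, E ≤ Subgroup.normalizer (X₁ : Set G) → Y ≤ X₁ → X₁ ≤ X → X₁ ≤ Y ∨ X₁ = X)
    {a b : G} (ha : a ∈ Subgroup.normalizer (X : Set G)) (haY : a ∈ Subgroup.normalizer (Y : Set G))
    (hb : b ∈ Subgroup.normalizer (X : Set G)) (hbY : b ∈ Subgroup.normalizer (Y : Set G))
    (hca : ∀ e ∈ E, ∀ x ∈ X, (a * (e * x * e⁻¹) * a⁻¹)⁻¹ * (e * (a * x * a⁻¹) * e⁻¹) ∈ Y)
    (hcb : ∀ e ∈ E, ∀ x ∈ X, (b * (e * x * e⁻¹) * b⁻¹)⁻¹ * (e * (b * x * b⁻¹) * e⁻¹) ∈ Y) :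
    ∀ x ∈ X, (⁅a, b⁆ * x * ⁅a, b⁆⁻¹)⁻¹ * x ∈ Y := by
  classical
  haveI hn : (Y.subgroupOf X).Normal := ⟨fun y hy x => by
    show (x : G) * y * (x : G)⁻¹ ∈ Y
    have := mul_mem (hY x x.2 y y.2) hy
    convert this using 1
    rw [commutatorElement_def]; simp [mul_assoc]⟩
  let A := X ⧸ Y.subgroupOf X
  letI : CommGroup A :=
    { (inferInstance : Group (X ⧸ Y.subgroupOf X)) with
      mul_comm := fun u v => by
        induction u using QuotientGroup.induction_on with | _ u
        induction v using QuotientGroup.induction_on with | _ v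
        rw [← QuotientGroup.mk_mul, ← QuotientGroup.mk_mul, QuotientGroup.eq]
        show ((u : G) * v)⁻¹ * ((v : G) * u) ∈ Y
        have := hY (v : G)⁻¹ (inv_mem v.2) (u : G)⁻¹ (inv_mem u.2)
        convert this using 1
        rw [commutatorElement_def]; group }
  have hmap : ∀ g : G, g ∈ Subgroup.normalizer (X : Set G) → g ∈ Subgroup.normalizer (Y : Set G) →
      ∃ T : AddMonoid.End (Additive A), ∀ (x : X) (y : X), (y : G) = g * x * g⁻¹ →
        T (Additive.ofMul (x : A)) = Additive.ofMul (y : A) := by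
    intro g hgX hgY
    let c : X →* X := MonoidHom.mk' (fun x => ⟨g * x * g⁻¹, (Subgroup.mem_normalizer_iff.1 hgX _).1 x.2⟩)
      (fun x y => Subtype.ext (by simp [mul_assoc]))
    refine ⟨MonoidHom.toAdditive (QuotientGroup.map (Y.subgroupOf X) (Y.subgroupOf X) c fun x hx => ?_), ?_⟩
    · exact (Subgroup.mem_normalizer_iff.1 hgY _).1 hx
    · intro x y hy
      rw [show y = c x from Subtype.ext hy]
      rfl
  choose! act hact using hmap
  have hnorm : ∀ e ∈ E, e ∈ Subgroup.normalizer (X : Set G) ∧ e ∈ Subgroup.normalizer (Y : Set G) :=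
    fun e he => ⟨hEX he, hEY he⟩
  let K : Subring (AddMonoid.End (Additive A)) := Subring.centralizer (act '' (E : Set G))
  have hK : ∀ g, g ∈ Subgroup.normalizer (X : Set G) → g ∈ Subgroup.normalizer (Y : Set G) →
      (∀ e ∈ E, ∀ x ∈ X, (g * (e * x * e⁻¹) * g⁻¹)⁻¹ * (e * (g * x * g⁻¹) * e⁻¹) ∈ Y) → act g ∈ K := by
    intro g hgX hgY hc
    rw [Subring.mem_centralizer_iff]
    rintro _ ⟨e, he, rfl⟩
    refine DFunLike.ext _ _ fun z => ?_
    obtain ⟨x, hx⟩ := QuotientGroup.mk_surjective (Additive.toMul z)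
    have hz : z = Additive.ofMul (x : A) := by rw [hx]; rfl
    subst hz
    obtain ⟨heX, heY⟩ := hnorm e he
    have m1 := (Subgroup.mem_normalizer_iff.1 hgX _).1 x.2
    have m2 := (Subgroup.mem_normalizer_iff.1 heX _).1 x.2
    show act e (act g _) = act g (act e _)
    rw [hact g hgX hgY x ⟨_, m1⟩ rfl,
      hact e heX heY ⟨_, m1⟩ ⟨_, (Subgroup.mem_normalizer_iff.1 heX _).1 m1⟩ rfl,
      hact e heX heY x ⟨_, m2⟩ rfl,
      hact g hgX hgY ⟨_, m2⟩ ⟨_, (Subgroup.mem_normalizer_iff.1 hgX _).1 m2⟩ rfl]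
    exact congrArg Additive.ofMul ((QuotientGroup.eq (s := Y.subgroupOf X)).2 (hc e he x x.2)).symm
  -- the commutant has no zero divisors
  have hzero : ∀ S T : AddMonoid.End (Additive A), S ∈ K → S * T = 0 → S = 0 ∨ T = 0 := by
    intro S T hS hST
    let P : Subgroup G :=
      { carrier := {g | ∃ h : g ∈ X, S (Additive.ofMul ((⟨g, h⟩ : X) : A)) = 0}
        one_mem' := ⟨one_mem _, map_zero S⟩
        mul_mem' := by
          rintro u v ⟨hu, hu'⟩ ⟨hv, hv'⟩
          refine ⟨mul_mem hu hv, ?_⟩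
          rw [show (⟨u * v, mul_mem hu hv⟩ : X) = ⟨u, hu⟩ * ⟨v, hv⟩ from rfl, QuotientGroup.mk_mul, ofMul_mul,
            map_add, hu', hv', add_zero]
        inv_mem' := by
          rintro u ⟨hu, hu'⟩
          refine ⟨inv_mem hu, ?_⟩
          rw [show (⟨u⁻¹, inv_mem hu⟩ : X) = ⟨u, hu⟩⁻¹ from rfl, QuotientGroup.mk_inv, ofMul_inv, map_neg,
            hu', neg_zero] }
    have hPn : ∀ e ∈ E, ∀ g ∈ P, e * g * e⁻¹ ∈ P := by
      rintro e he g ⟨hg, hg'⟩
      obtain ⟨heX, heY⟩ := hnorm e he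
      have hm := (Subgroup.mem_normalizer_iff.1 heX _).1 hg
      refine ⟨hm, ?_⟩
      rw [← hact e heX heY ⟨g, hg⟩ ⟨_, hm⟩ rfl]
      have hcomm : act e * S = S * act e := Subring.mem_centralizer_iff.1 hS _ ⟨e, he, rfl⟩
      show (S * act e) _ = 0
      rw [← hcomm]
      show act e (S _) = 0
      rw [hg', map_zero]
    have hPE : E ≤ Subgroup.normalizer (P : Set G) := fun e he => by
      rw [Subgroup.mem_normalizer_iff]
      exact fun g => ⟨hPn e he g, fun h => by simpa [mul_assoc] using hPn e⁻¹ (inv_mem he) _ h⟩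
    have hYP : Y ≤ P := fun y hy => ⟨hYX hy, by
      rw [(QuotientGroup.eq_one_iff (N := Y.subgroupOf X) (⟨y, hYX hy⟩ : X)).2 hy]
      exact map_zero S⟩
    rcases hirr P hPE hYP (fun g hg => hg.1) with h | h
    · refine Or.inr (DFunLike.ext _ _ fun z => ?_)
      obtain ⟨x, hx⟩ := QuotientGroup.mk_surjective (Additive.toMul (T z))
      have hxP : (x : G) ∈ P := ⟨x.2, by
        rw [show (⟨(x : G), x.2⟩ : X) = x from rfl, hx]
        exact DFunLike.congr_fun hST z⟩
      show T z = 0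
      have : Additive.toMul (T z) = (1 : A) := by
        rw [← hx]; exact (QuotientGroup.eq_one_iff _).2 (h hxP)
      exact this
    · refine Or.inl (DFunLike.ext _ _ fun z => ?_)
      obtain ⟨x, hx⟩ := QuotientGroup.mk_surjective (Additive.toMul z)
      have hxP : (x : G) ∈ P := h.symm ▸ x.2
      obtain ⟨_, h'⟩ := hxP
      have hz : z = Additive.ofMul (x : A) := by rw [hx]; rfl
      rw [hz]
      exact h'
  haveI : Finite (AddMonoid.End (Additive A)) :=
    Finite.of_injective (fun f : AddMonoid.End (Additive A) => (f : Additive A → Additive A)) DFunLike.coe_injective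
  intro x hx
  rcases subsingleton_or_nontrivial (Additive A) with hsub | hnt
  · have : (((⟨⁅a, b⁆ * x * ⁅a, b⁆⁻¹, (Subgroup.mem_normalizer_iff.1
        (show ⁅a, b⁆ ∈ Subgroup.normalizer (X : Set G) by
          rw [commutatorElement_def]; exact mul_mem (mul_mem (mul_mem ha hb) (inv_mem ha)) (inv_mem hb)) x).1 hx⟩ : X) : A)) =
        ((⟨x, hx⟩ : X) : A) := Subsingleton.elim (α := Additive A) _ _
    exact (QuotientGroup.eq (s := Y.subgroupOf X)).1 this
  haveI : Nontrivial K := by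
    obtain ⟨z, hz⟩ := exists_ne (0 : Additive A)
    exact ⟨0, 1, fun h => hz (DFunLike.congr_fun (congrArg Subtype.val h) z).symm⟩
  haveI : NoZeroDivisors K := ⟨fun {S T} h => (hzero S.1 T.1 S.2 (congrArg Subtype.val h)).imp
    (fun h' => Subtype.ext h') (fun h' => Subtype.ext h')⟩
  haveI : IsDomain K := NoZeroDivisors.to_isDomain K
  have hcomm : act a * act b = act b * act a := congrArg Subtype.val
    ((Finite.isDomain_to_isField K).mul_comm ⟨_, hK a ha haY hca⟩ ⟨_, hK b hb hbY hcb⟩)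
  -- evaluate
  set y := a⁻¹ * (b⁻¹ * x * b) * a with hy
  have m0 : y ∈ X := by
    simpa [hy] using (Subgroup.mem_normalizer_iff.1 (inv_mem ha) _).1
      ((Subgroup.mem_normalizer_iff.1 (inv_mem hb) _).1 hx)
  have mb := (Subgroup.mem_normalizer_iff.1 hb _).1 m0
  have mab := (Subgroup.mem_normalizer_iff.1 ha _).1 mb
  have ma := (Subgroup.mem_normalizer_iff.1 ha _).1 m0
  have mba := (Subgroup.mem_normalizer_iff.1 hb _).1 ma
  have h := DFunLike.congr_fun hcomm (Additive.ofMul ((⟨y, m0⟩ : X) : A))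
  change act a (act b _) = act b (act a _) at h
  rw [hact b hb hbY ⟨y, m0⟩ ⟨_, mb⟩ rfl, hact a ha haY ⟨_, mb⟩ ⟨_, mab⟩ rfl,
    hact a ha haY ⟨y, m0⟩ ⟨_, ma⟩ rfl, hact b hb hbY ⟨_, ma⟩ ⟨_, mba⟩ rfl] at h
  have h' : (a * (b * y * b⁻¹) * a⁻¹)⁻¹ * (b * (a * y * a⁻¹) * b⁻¹) ∈ Y :=
    (QuotientGroup.eq (s := Y.subgroupOf X)).1 (Additive.ofMul.injective h)
  convert h' using 2 <;> simp only [hy, commutatorElement_def] <;> group

/-- `g` commutes with the action of `E` on its module. -/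
def CommOn (p : ℕ) (E : Subgroup G) (g : G) : Prop :=
  g ∈ Subgroup.normalizer (blockMod p E : Set G) ∧
    ∀ e ∈ E, ∀ u ∈ blockMod p E, g * (e * u * e⁻¹) * g⁻¹ = e * (g * u * g⁻¹) * e⁻¹

theorem commOn_of_comm_mem {E : Subgroup G} {g : G} (hg : g ∈ Subgroup.normalizer (blockMod p E : Set G))
    (hE : E ≤ Subgroup.normalizer (blockMod p E : Set G))
    (h : ∀ e ∈ E, ⁅e, g⁆ ∈ Subgroup.centralizer (blockMod p E : Set G)) : CommOn p E g := by
  refine ⟨hg, fun e he u hu => ?_⟩
  have hm := (Subgroup.mem_normalizer_iff.1 hg _).1 ((Subgroup.mem_normalizer_iff.1 (hE he) u).1 hu)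
  calc g * (e * u * e⁻¹) * g⁻¹
      = ⁅e, g⁆ * (g * (e * u * e⁻¹) * g⁻¹) * ⁅e, g⁆⁻¹ := by
        rw [← Subgroup.mem_centralizer_iff.1 (h e he) _ hm, mul_inv_cancel_right]
    _ = e * (g * u * g⁻¹) * e⁻¹ := by rw [commutatorElement_def]; group

variable [Fact p.Prime] {E : Subgroup G}

/-- An element commuting with the block and trivial modulo the fixed part centralizes the module. -/
theorem centralizes_of_trivial_mod (hb : IsBlock p E) {g : G} (hg : CommOn p E g)
    (h : ∀ u ∈ blockMod p E, g * u * g⁻¹ * u⁻¹ ∈ Subgroup.centralizer (E : Set G)) :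
    g ∈ Subgroup.centralizer (blockMod p E : Set G) := by
  have hf := hb.facts
  suffices hle : ⁅blockMod p E, E⁆ ≤ Subgroup.centralizer ({g} : Set G) by
    refine Subgroup.mem_centralizer_iff.2 fun u hu => ?_
    exact (Subgroup.mem_centralizer_iff.1 (hle (hf.idem.symm ▸ hu)) g rfl).symm
  rw [Subgroup.commutator_le]
  intro w hw e he
  refine Subgroup.mem_centralizer_iff.2 fun x hx => ?_
  rw [Set.mem_singleton_iff] at hx
  subst hx
  rw [← mul_inv_eq_iff_eq_mul]
  have hw' := inv_mem hw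
  calc x * ⁅w, e⁆ * x⁻¹ = (x * w * x⁻¹) * (x * (e * w⁻¹ * e⁻¹) * x⁻¹) := by rw [commutatorElement_def]; group
    _ = (x * w * x⁻¹ * w⁻¹) * (w * (e * w⁻¹ * e⁻¹)) * (e * (x * w * x⁻¹ * w⁻¹)⁻¹ * e⁻¹) := by
        rw [hg.2 e he _ hw']; group
    _ = ⁅w, e⁆ := by
        have hz := h w hw
        have h1 : e * (x * w * x⁻¹ * w⁻¹)⁻¹ * e⁻¹ = (x * w * x⁻¹ * w⁻¹)⁻¹ := by
          rw [Subgroup.mem_centralizer_iff.1 (inv_mem hz) e he, mul_inv_cancel_right]
        have hzU : x * w * x⁻¹ * w⁻¹ ∈ blockMod p E := mul_mem ((Subgroup.mem_normalizer_iff.1 hg.1 w).1 hw) hw'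
        have hm : w * (e * w⁻¹ * e⁻¹) ∈ blockMod p E :=
          mul_mem hw ((Subgroup.mem_normalizer_iff.1 (hf.normU he) _).1 hw')
        rw [h1, blockMod_comm E hb _ hzU _ hm, mul_inv_cancel_right, commutatorElement_def]
        group

/-- The commutator of two elements commuting with a block centralizes its module. -/
theorem commutator_centralizes (hb : IsBlock p E) {a b : G} (ha : CommOn p E a) (hbb : CommOn p E b) :
    ⁅a, b⁆ ∈ Subgroup.centralizer (blockMod p E : Set G) := by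
  have hf := hb.facts
  set U := blockMod p E with hU
  set Y := U ⊓ Subgroup.centralizer (E : Set G) with hY
  have hnY : ∀ g, CommOn p E g → g ∈ Subgroup.normalizer (Y : Set G) := by
    intro g hg
    have key : ∀ z ∈ Y, g * z * g⁻¹ ∈ Y := fun z hz => ⟨(Subgroup.mem_normalizer_iff.1 hg.1 z).1 hz.1,
      Subgroup.mem_centralizer_iff.2 fun e he => by
        have := hg.2 e he z hz.1
        rw [Subgroup.mem_centralizer_iff.1 hz.2 e he, mul_inv_cancel_right, eq_mul_inv_iff_mul_eq] at this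
        exact this.symm⟩
    rw [Subgroup.mem_normalizer_iff]
    refine fun z => ⟨key z, fun h => ?_⟩
    have hzU : z ∈ U := by simpa [mul_assoc] using (Subgroup.mem_normalizer_iff.1 (inv_mem hg.1) _).1 h.1
    refine ⟨hzU, Subgroup.mem_centralizer_iff.2 fun e he => ?_⟩
    have := hg.2 e he z hzU
    rw [Subgroup.mem_centralizer_iff.1 h.2 e he, mul_inv_cancel_right] at this
    exact mul_inv_eq_iff_eq_mul.1 (mul_left_cancel (mul_right_cancel this))
  have hEY : E ≤ Subgroup.normalizer (Y : Set G) := fun e he => by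
    rw [Subgroup.mem_normalizer_iff_map_conj_eq, hY, Subgroup.map_inf _ _ _ (MulAut.conj e).injective,
      Subgroup.mem_normalizer_iff_map_conj_eq.1 (hf.normU he),
      Subgroup.mem_normalizer_iff_map_conj_eq.1
        (CentModule.normalizer_le_normalizer_centralizer E (Subgroup.le_normalizer he))]
  have hone : ∀ g, CommOn p E g → ∀ e ∈ E, ∀ x ∈ U,
      (g * (e * x * e⁻¹) * g⁻¹)⁻¹ * (e * (g * x * g⁻¹) * e⁻¹) ∈ Y := fun g hg e he x hx => by
    rw [hg.2 e he x hx, inv_mul_cancel]; exact one_mem _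
  have key := section_commute (E := E) (X := U) (Y := Y) inf_le_left
    (fun x hx y hy => by
      rw [commutatorElement_eq_one_iff_mul_comm.2 (blockMod_comm E hb x hx y hy)]; exact one_mem _)
    hf.normU hEY
    (fun X₁ hn _ hle => (hf.irr X₁ hn hle).imp_left fun h => le_inf hle h)
    ha.1 (hnY a ha) hbb.1 (hnY b hbb) (hone a ha) (hone b hbb)
  have hc : CommOn p E ⁅a, b⁆ := by
    let S : Subgroup G :=
      { carrier := {g | CommOn p E g}
        one_mem' := ⟨one_mem _, fun e _ u _ => by simp⟩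
        mul_mem' := fun {g h} hg hh => ⟨mul_mem hg.1 hh.1, fun e he u hu => by
          calc g * h * (e * u * e⁻¹) * (g * h)⁻¹ = g * (h * (e * u * e⁻¹) * h⁻¹) * g⁻¹ := by group
            _ = g * (e * (h * u * h⁻¹) * e⁻¹) * g⁻¹ := by rw [hh.2 e he u hu]
            _ = e * (g * (h * u * h⁻¹) * g⁻¹) * e⁻¹ := hg.2 e he _ ((Subgroup.mem_normalizer_iff.1 hh.1 u).1 hu)
            _ = _ := by group⟩
        inv_mem' := fun {g} hg => ⟨inv_mem hg.1, fun e he u hu => by
          have hu' : g⁻¹ * u * g ∈ U := by simpa using (Subgroup.mem_normalizer_iff.1 (inv_mem hg.1) u).1 hu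
          have := hg.2 e he _ hu'
          rw [show g * (g⁻¹ * u * g) * g⁻¹ = u by group] at this
          rw [← this]; group⟩ }
    rw [commutatorElement_def]
    exact S.mul_mem (S.mul_mem (S.mul_mem ha hbb) (S.inv_mem ha)) (S.inv_mem hbb)
  refine centralizes_of_trivial_mod hb hc fun u hu => ?_
  have h := (Subgroup.mem_inf.1 (key u hu)).2
  set c := ⁅a, b⁆ with hcdef
  have h2 : u * (c * u * c⁻¹)⁻¹ = (c * u * c⁻¹)⁻¹ * u :=
    blockMod_comm E hb _ hu _ (inv_mem ((Subgroup.mem_normalizer_iff.1 hc.1 u).1 hu))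
  rw [show c * u * c⁻¹ * u⁻¹ = (u * (c * u * c⁻¹)⁻¹)⁻¹ by group, h2]
  exact inv_mem h

end CfsgLib.BaumannBlock.Subnormal
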