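import Mathlib
import Cfsg.Agent.BaumannBlock.Subnormal.Coords

/-!
Blocks are carried to blocks by conjugation.
-/

set_option autoImplicit false

open scoped MatrixGroups commutatorElement

namespace CfsgLib.BaumannBlock.Subnormal

open Cfsg

variable {G : Type*} [Group G] {p : ℕ}

theorem map_omegaOneCenter (f : G ≃* G) (X : Subgroup G) :
    (omegaOneCenter p X).map f.toMonoidHom = omegaOneCenter p (X.map f.toMonoidHom) := by
  rw [omegaOneCenter, omegaOneCenter, ← map_omegaOne, Subgroup.map_inf _ _ _ f.injective, ← map_centralizer]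

theorem map_pResidualOf (f : G ≃* G) (E : Subgroup G) :
    (pResidualOf p E).map f.toMonoidHom = pResidualOf p (E.map f.toMonoidHom) := by
  rw [mem_pResidualOf_iff_closure, mem_pResidualOf_iff_closure, MonoidHom.map_closure]
  congr 1
  ext x
  constructor
  · rintro ⟨y, ⟨hy, hc⟩, rfl⟩
    exact ⟨⟨y, hy, rfl⟩, by show (orderOf (f y)).Coprime p; rwa [MulEquiv.orderOf_eq]⟩
  · rintro ⟨⟨y, hy, rfl⟩, hc⟩
    refine ⟨y, ⟨hy, ?_⟩, rfl⟩
    change (orderOf (f y)).Coprime p at hc
    rwa [MulEquiv.orderOf_eq] at hc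

theorem map_pCoreOf_conj [Finite G] [Fact p.Prime] (g : G) (H : Subgroup G) :
    (pCoreOf p H).map (MulAut.conj g).toMonoidHom = pCoreOf p (H.map (MulAut.conj g).toMonoidHom) := by
  have key : ∀ (g : G) (H : Subgroup G), (pCoreOf p H).map (MulAut.conj g).toMonoidHom ≤
      pCoreOf p (H.map (MulAut.conj g).toMonoidHom) := fun g H =>
    le_pCoreOf (Subgroup.map_mono (pCoreOf_le H))
      ((Subgroup.map_mono (le_normalizer_pCoreOf H)).trans (Subgroup.le_normalizer_map _))
      ((isPGroup_pCoreOf H).map _)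
  refine le_antisymm (key g H) fun x hx => ?_
  have h := key g⁻¹ _ (Subgroup.mem_map_of_mem _ hx)
  rw [Subgroup.map_map, show ((MulAut.conj g⁻¹).toMonoidHom.comp (MulAut.conj g).toMonoidHom) =
    MonoidHom.id G by ext y; simp [mul_assoc], Subgroup.map_id] at h
  exact ⟨_, h, by simp [mul_assoc]⟩

theorem map_blockMod [Finite G] (g : G) (E : Subgroup G) :
    (blockMod p E).map (MulAut.conj g).toMonoidHom = blockMod p (E.map (MulAut.conj g).toMonoidHom) := by
  rw [blockMod, blockMod, Subgroup.map_commutator, map_omegaOneCenter]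
  congr 2
  exact Subgroup.mem_normalizer_iff_map_conj_eq.1 (by
    rw [Subgroup.normalizer_eq_top_iff.2 (CfsgLib.Constrained.instNormalPCore p)]; exact Subgroup.mem_top g)

theorem map_quot_iso [Finite G] [Fact p.Prime] (g : G) (E : Subgroup G) {R : Type*} [Group R]
    (h : Nonempty (↥E ⧸ pCore p ↥E ≃* R)) :
    Nonempty (↥(E.map (MulAut.conj g).toMonoidHom) ⧸ pCore p ↥(E.map (MulAut.conj g).toMonoidHom) ≃* R) := by
  obtain ⟨iso⟩ := h
  set φ : E ≃* E.map (MulAut.conj g).toMonoidHom :=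
    E.equivMapOfInjective (MulAut.conj g).toMonoidHom (MulAut.conj g).injective with hφ
  refine ⟨(QuotientGroup.congr (pCore p E) (pCore p _) φ ?_).symm.trans iso⟩
  have h1 := map_pCoreOf_conj (p := p) g E
  rw [pCoreOf, pCoreOf, Subgroup.map_map] at h1
  refine Subgroup.map_injective (Subgroup.subtype_injective (E.map (MulAut.conj g).toMonoidHom)) ?_
  rw [Subgroup.map_map, ← h1]
  congr 1

theorem map_actsSL2 (f : G ≃* G) {F : Type*} [Field F] {R : Subgroup SL(2, F)} {E U U₀ : Subgroup G}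
    (h : ActsAsSL2OnSection F R E U U₀) :
    ActsAsSL2OnSection F R (E.map f.toMonoidHom) (U.map f.toMonoidHom) (U₀.map f.toMonoidHom) := by
  obtain ⟨hn, hle, ρ, ψ, hρ, hψ, hker, hc⟩ := h
  set eE : E ≃* E.map f.toMonoidHom := E.equivMapOfInjective f.toMonoidHom f.injective
  set eU : U ≃* U.map f.toMonoidHom := U.equivMapOfInjective f.toMonoidHom f.injective
  refine ⟨(Subgroup.map_mono hn).trans (Subgroup.le_normalizer_map _), Subgroup.map_mono hle,
    ρ.comp eE.symm.toMonoidHom, ψ.comp eU.symm.toMonoidHom, ?_, hψ.comp eU.symm.surjective,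
    fun u => ?_, fun e u => ?_⟩
  · rw [MonoidHom.range_comp, MonoidHom.range_eq_top.2 eE.symm.surjective, ← MonoidHom.range_eq_map, hρ]
  · obtain ⟨v, rfl⟩ := eU.surjective u
    show ψ (eU.symm (eU v)) = 1 ↔ f v ∈ U₀.map f.toMonoidHom
    rw [MulEquiv.symm_apply_apply, hker]
    exact ⟨fun h => ⟨v, h, rfl⟩, fun ⟨y, hy, hyv⟩ => f.injective hyv ▸ hy⟩
  · obtain ⟨x, rfl⟩ := eE.surjective e
    obtain ⟨v, rfl⟩ := eU.surjective u
    obtain ⟨w, hw, hv⟩ := hc x v
    refine ⟨eU w, ?_, ?_⟩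
    · show f w = f x * f v * (f x)⁻¹
      rw [hw, map_mul, map_mul, map_inv]
    · show (ψ (eU.symm (eU w))).toAdd = (ρ (eE.symm (eE x))).1.mulVec (ψ (eU.symm (eU v))).toAdd
      rw [MulEquiv.symm_apply_apply, MulEquiv.symm_apply_apply, MulEquiv.symm_apply_apply, hv]

theorem map_actsPerm (f : G ≃* G) {n : ℕ} {R : Subgroup (Equiv.Perm (Fin n))} {E U U₀ : Subgroup G}
    (h : ActsAsOddPermModuleOnSection n R E U U₀) :
    ActsAsOddPermModuleOnSection n R (E.map f.toMonoidHom) (U.map f.toMonoidHom) (U₀.map f.toMonoidHom) := by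
  obtain ⟨hn, hle, ρ, ψ, hρ, hev, hψ, hker, hc⟩ := h
  set eE : E ≃* E.map f.toMonoidHom := E.equivMapOfInjective f.toMonoidHom f.injective
  set eU : U ≃* U.map f.toMonoidHom := U.equivMapOfInjective f.toMonoidHom f.injective
  refine ⟨(Subgroup.map_mono hn).trans (Subgroup.le_normalizer_map _), Subgroup.map_mono hle,
    ρ.comp eE.symm.toMonoidHom, ψ.comp eU.symm.toMonoidHom, ?_, fun u => hev _, fun v hv => ?_,
    fun u => ?_, fun e u => ?_⟩
  · rw [MonoidHom.range_comp, MonoidHom.range_eq_top.2 eE.symm.surjective, ← MonoidHom.range_eq_map, hρ]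
  · obtain ⟨u, hu⟩ := hψ v hv
    exact ⟨eU u, by rw [MonoidHom.comp_apply]; show (ψ (eU.symm (eU u))).toAdd = v; rw [MulEquiv.symm_apply_apply, hu]⟩
  · obtain ⟨v, rfl⟩ := eU.surjective u
    show ψ (eU.symm (eU v)) = 1 ↔ f v ∈ U₀.map f.toMonoidHom
    rw [MulEquiv.symm_apply_apply, hker]
    exact ⟨fun h => ⟨v, h, rfl⟩, fun ⟨y, hy, hyv⟩ => f.injective hyv ▸ hy⟩
  · obtain ⟨x, rfl⟩ := eE.surjective e
    obtain ⟨v, rfl⟩ := eU.surjective u
    obtain ⟨w, hw, hv⟩ := hc x v
    refine ⟨eU w, ?_, fun i => ?_⟩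
    · show f w = f x * f v * (f x)⁻¹
      rw [hw, map_mul, map_mul, map_inv]
    · show (ψ (eU.symm (eU w))).toAdd i = (ψ (eU.symm (eU v))).toAdd ((ρ (eE.symm (eE x)))⁻¹ i)
      rw [MulEquiv.symm_apply_apply, MulEquiv.symm_apply_apply, MulEquiv.symm_apply_apply, hv i]

theorem map_block [Finite G] [Fact p.Prime] (g : G) {T E : Subgroup G} (h : IsBaumannBlock p T E) :
    IsBaumannBlock p (T.map (MulAut.conj g).toMonoidHom) (E.map (MulAut.conj g).toMonoidHom) := by
  obtain ⟨h1, h2, h3, h4, h5⟩ := h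
  set f := MulAut.conj g with hf
  set E' := E.map f.toMonoidHom with hE'
  have hQ : pCoreOf p E' = (pCoreOf p E).map f.toMonoidHom := (map_pCoreOf_conj g E).symm
  have hW : omegaOneCenter p (pCoreOf p E') = (omegaOneCenter p (pCoreOf p E)).map f.toMonoidHom := by
    rw [hQ, map_omegaOneCenter]
  have hC : ∀ X : Subgroup G, Subgroup.centralizer ((X.map f.toMonoidHom : Subgroup G) : Set G) =
      (Subgroup.centralizer (X : Set G)).map f.toMonoidHom := map_centralizer f
  have hinj := f.injective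
  have hWZ : omegaOneCenter p (pCoreOf p E') ⊓ Subgroup.centralizer (E' : Set G) =
      (omegaOneCenter p (pCoreOf p E) ⊓ Subgroup.centralizer (E : Set G)).map f.toMonoidHom := by
    rw [hW, hC, Subgroup.map_inf _ _ _ hinj]
  have hEZ : E' ⊓ Subgroup.centralizer (E' : Set G) =
      (E ⊓ Subgroup.centralizer (E : Set G)).map f.toMonoidHom := by rw [hC, Subgroup.map_inf _ _ _ hinj]
  refine ⟨?_, ?_, ?_, ?_, ?_⟩
  · rw [← map_pResidualOf, h1]
  · rw [map_baumannSubgroupOf, ← Subgroup.map_commutator, h2]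
  · rw [hQ, ← Subgroup.map_commutator, h3]
  · rw [← map_omegaOneCenter, ← Subgroup.map_commutator, Ne,
      Subgroup.map_eq_bot_iff_of_injective _ hinj]
    exact h4
  rcases h5 with ⟨F, hF, hFt, n, hn, hiso, hmod, hq⟩ | ⟨hp, m, hiso, hmod, hq⟩
  · refine Or.inl ⟨F, hF, hFt, n, hn, map_quot_iso g E hiso, ?_, ?_⟩
    · rw [hWZ, hW]; exact map_actsSL2 f hmod
    rcases hq with hq | ⟨hp, ha, hb, hc, hd, he, hnq⟩
    · exact Or.inl (by rw [hW, hQ, ← hq])
    · refine Or.inr ⟨hp, ?_, ?_, ?_, ?_, ?_, fun b hb' hbn hle => ?_⟩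
      · rw [hW, hQ]; exact map_actsSL2 f ha
      · rw [hWZ, hQ, ← Subgroup.map_commutator, hb]
      · rw [hWZ, ← hc, hQ]
        set φ : pCoreOf p E ≃* (pCoreOf p E).map f.toMonoidHom :=
          (pCoreOf p E).equivMapOfInjective f.toMonoidHom hinj with hφ
        have key : ∀ (X : Subgroup G) (eX : X = (pCoreOf p E).map f.toMonoidHom),
            (frattini ↥X).map X.subtype = ((frattini ↥(pCoreOf p E)).map (pCoreOf p E).subtype).map f.toMonoidHom := by
          rintro X rfl
          have hfm : (frattini ↥(pCoreOf p E)).map φ.toMonoidHom = frattini ↥((pCoreOf p E).map f.toMonoidHom) := by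
            refine le_antisymm (Subgroup.map_le_iff_le_comap.2
              (frattini_le_comap_frattini_of_surjective φ.surjective)) fun x hx => ?_
            refine ⟨φ.symm x, ?_, φ.apply_symm_apply x⟩
            exact frattini_le_comap_frattini_of_surjective (φ := φ.symm.toMonoidHom) φ.symm.surjective hx
          rw [← hfm, Subgroup.map_map, Subgroup.map_map]
          rfl
        exact key _ rfl
      · rw [hEZ, hWZ, hd]
      · rw [hEZ, Nat.card_congr ((E ⊓ Subgroup.centralizer (E : Set G)).equivMapOfInjective _ hinj).symm.toEquiv, he]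
      · rw [map_baumannSubgroupOf] at hb'
        obtain ⟨b₀, hb₀, rfl⟩ := hb'
        refine hnq b₀ hb₀ (fun hc' => hbn ?_) ?_
        · rw [hW, hC]; exact ⟨b₀, hc', rfl⟩
        · rw [hQ, hEZ, ← MonoidHom.map_zpowers, ← Subgroup.map_commutator, ← Subgroup.map_commutator,
            Subgroup.map_le_map_iff_of_injective hinj] at hle
          exact hle
  · refine Or.inr ⟨hp, m, map_quot_iso g E hiso, ?_, ?_⟩
    · rw [hWZ, hW]; exact map_actsPerm f hmod
    · rw [hW, hQ, ← hq]

theorem IsBlock.conj [Finite G] [Fact p.Prime] {E : Subgroup G} (h : IsBlock p E) (g : G) :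
    IsBlock p (E.map (MulAut.conj g).toMonoidHom) := by
  obtain ⟨hG, T, hE⟩ := h
  exact ⟨hG, g • T, map_block g hE⟩

end CfsgLib.BaumannBlock.Subnormal
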