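import Mathlib
import Cfsg.Agent.BaumannBlock.Subnormal.Commutant
import Cfsg.Agent.BaumannBlock.Subnormal.Transport
import Cfsg.Agent.Subnormal.Basic

/-!
Elementary facts on pairs of blocks, and on subnormal blocks.
-/

set_option autoImplicit false

open scoped commutatorElement

namespace CfsgLib.BaumannBlock.Subnormal

open Cfsg CentModule

variable {G : Type*} [Group G] {p : ℕ} [Finite G] [Fact p.Prime] {E F : Subgroup G}

theorem pgroup_O : IsPGroup p (pCore p G) := CfsgLib.Constrained.isPGroup_pCore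

theorem normal_O : (pCore p G).Normal := CfsgLib.Constrained.instNormalPCore p

theorem comm_O_mem (hb : IsBlock p E) {o e : G} (ho : o ∈ pCore p G) (he : e ∈ E) :
    ⁅o, e⁆ ∈ pCoreOf p E := by
  have hmem : ⁅o, e⁆ ∈ pCore p G ⊓ E := by
    rw [Subgroup.mem_inf, commutatorElement_def]
    refine ⟨?_, mul_mem ((Subgroup.mem_normalizer_iff.1 (hb.facts.O_le ho) e).1 he) (inv_mem he)⟩
    rw [show o * e * o⁻¹ * e⁻¹ = o * (e * o⁻¹ * e⁻¹) by group]
    exact mul_mem ho (normal_O.conj_mem _ (inv_mem ho) e)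
  refine le_pCoreOf inf_le_right ?_ (pgroup_O.to_le inf_le_left) hmem
  intro x hx
  rw [Subgroup.mem_normalizer_iff_map_conj_eq, Subgroup.map_inf _ _ _ (MulAut.conj x).injective,
    Subgroup.mem_normalizer_iff_map_conj_eq.1 (Subgroup.le_normalizer hx),
    Subgroup.mem_normalizer_iff_map_conj_eq.1 (by
      rw [Subgroup.normalizer_eq_top_iff.2 normal_O]; exact Subgroup.mem_top x)]

theorem pCoreOf_le_O (hs : E.IsSubnormal) : pCoreOf p E ≤ pCore p G := by
  haveI : (pCore p E).Normal := CfsgLib.Constrained.instNormalPCore p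
  obtain ⟨N, hN, hp, hle⟩ := CfsgLib.Subnormal.exists_normal_isPGroup_of_isSubnormal
    (A := pCoreOf p E) ((Subgroup.Normal.isSubnormal (H := pCore p E) inferInstance).trans' hs)
    (isPGroup_pCoreOf E)
  exact hle.trans (CfsgLib.LocalP.le_pCore hN hp)

theorem mem_pCoreOf_of_normal (hE : F ≤ E) (hn : E ≤ Subgroup.normalizer (F : Set G))
    {x : G} (hx : x ∈ F) (hxp : IsPGroup p F) : x ∈ pCoreOf p E := le_pCoreOf hE hn hxp hx

theorem normalizer_le_normalizer_blockMod :
    Subgroup.normalizer (E : Set G) ≤ Subgroup.normalizer (blockMod p E : Set G) := fun g hg => by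
  rw [Subgroup.mem_normalizer_iff_map_conj_eq] at hg ⊢
  show (blockMod p E).map (MulAut.conj g).toMonoidHom = _
  rw [map_blockMod]
  exact congrArg (blockMod p) hg

/-- `Ω₁Z(O_p(G))` is normal. -/
theorem normal_V_conj (g : G) (v : G) (hv : v ∈ omegaOneCenter p (pCore p G)) :
    g * v * g⁻¹ ∈ omegaOneCenter p (pCore p G) := by
  have h : g ∈ Subgroup.normalizer (omegaOneCenter p (pCore p G) : Set G) :=
    normalizer_le_normalizer_omegaOneCenter _ (by
      rw [Subgroup.normalizer_eq_top_iff.2 normal_O]; exact Subgroup.mem_top g)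
  exact (Subgroup.mem_normalizer_iff.1 h v).1 hv

theorem not_comm (hb : IsBlock p E) : ⁅E, E⁆ ≠ ⊥ := fun h => by
  have hf := hb.facts
  have hEc : E ≤ Subgroup.centralizer (E : Set G) := Subgroup.commutator_eq_bot_iff_le_centralizer.1 h
  refine hf.ne_bot (le_bot_iff.1 (hf.idem.symm.le.trans ?_))
  rw [le_bot_iff, Subgroup.commutator_eq_bot_iff_le_centralizer]
  exact ((hf.le_W.trans (omegaOneCenter_le _)).trans (pCoreOf_le E)).trans hEc

/-- A block is generated by its elements of order prime to `p`. -/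
theorem le_of_coprime (hb : IsBlock p E) {K : Subgroup G}
    (h : ∀ x ∈ E, (orderOf x).Coprime p → x ∈ K) : E ≤ K := by
  conv_lhs => rw [← hb.facts.res]
  rw [mem_pResidualOf_iff_closure, Subgroup.closure_le]
  exact fun x hx => h x hx.1 hx.2

theorem not_le_pgroup (hb : IsBlock p E) {K : Subgroup G} (hK : IsPGroup p K) : ¬ E ≤ K := fun h => by
  refine not_comm hb (le_bot_iff.1 (Subgroup.commutator_le.2 fun a ha b _ => ?_))
  have hbot : E ≤ ⊥ := le_of_coprime hb fun x hx hc =>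
    Subgroup.mem_bot.2 (CfsgLib.LocalP.eq_one_of_mem_of_coprime hK (h hx) hc)
  rw [Subgroup.mem_bot.1 (hbot ha), commutatorElement_one_left]
  exact one_mem _

/-- A map into an abelian `p`-group that is a crossed morphism with trivial action vanishes. -/
theorem comm_eq_one_of_central (hb : IsBlock p F) {X : Subgroup G} (hX : IsPGroup p X)
    (hXF : ∀ x ∈ X, ∀ f ∈ F, f * x * f⁻¹ = x) {e : G} (he : ∀ f ∈ F, ⁅e, f⁆ ∈ X) :
    ∀ f ∈ F, ⁅e, f⁆ = 1 := by
  have hmul : ∀ f ∈ F, ∀ g ∈ F, ⁅e, f * g⁆ = ⁅e, f⁆ * ⁅e, g⁆ := fun f hf g hg => by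
    rw [show ⁅e, f * g⁆ = ⁅e, f⁆ * (f * ⁅e, g⁆ * f⁻¹) by simp only [commutatorElement_def]; group,
      hXF _ (he g hg) f hf]
  let φ : F →* X := MonoidHom.mk' (fun f => ⟨⁅e, (f : G)⁆, he f f.2⟩)
    (fun f g => Subtype.ext (hmul f f.2 g g.2))
  have hle : F ≤ φ.ker.map F.subtype := le_of_coprime hb fun x hx hc => by
    refine ⟨⟨x, hx⟩, ?_, rfl⟩
    obtain ⟨k, hk⟩ := hX (φ ⟨x, hx⟩)
    have h1 : orderOf (φ ⟨x, hx⟩) ∣ orderOf x := by
      rw [← Subgroup.orderOf_mk (a := x) (ha := hx)]; exact orderOf_map_dvd φ _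
    exact orderOf_eq_one_iff.1
      (Nat.eq_one_of_dvd_coprimes (hc.pow_right k) h1 (orderOf_dvd_of_pow_eq_one hk))
  intro f hf
  obtain ⟨f', hf', rfl⟩ := hle hf
  exact congrArg Subtype.val (show φ f' = 1 from hf')

/-- Vanishing of the action on the other module, transferred. -/
theorem centralizes_symm (hb : IsBlock p F) (hbE : IsBlock p E) (hEU : F ≤ Subgroup.normalizer (E : Set G))
    (h : E ≤ Subgroup.centralizer (blockMod p F : Set G))
    (hD : ∀ e ∈ E, ∀ f ∈ F, ⁅e, f⁆ ∈ Subgroup.centralizer (blockMod p E : Set G)) :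
    F ≤ Subgroup.centralizer (blockMod p E : Set G) := by
  intro f hf
  have hfU : f ∈ Subgroup.normalizer (blockMod p E : Set G) := normalizer_le_normalizer_blockMod (hEU hf)
  refine centralizes_of_trivial_mod hbE (commOn_of_comm_mem hfU hbE.facts.normU fun e he => hD e he f hf) ?_
  intro u hu
  refine Subgroup.mem_centralizer_iff.2 fun e he => ?_
  have hm : f * u * f⁻¹ * u⁻¹ ∈ blockMod p F := by
    have := inv_mem (Subgroup.commutator_mem_commutator (hbE.facts.le_V hu) hf)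
    rwa [commutatorElement_inv, commutatorElement_def] at this
  exact (Subgroup.mem_centralizer_iff.1 (h he) _ hm).symm

/-- An ordinary block has `O_p(E) = U`; otherwise `p = 3` and the block is exceptional. -/
theorem ordinary_or_exc (hb : IsBlock p E) :
    pCoreOf p E = blockMod p E ∨ (p = 3 ∧ pCoreOf p E ≠ blockMod p E) := by
  by_cases h : pCoreOf p E = blockMod p E
  · exact Or.inl h
  refine Or.inr ⟨?_, h⟩
  obtain ⟨hG, T, hE⟩ := hb
  obtain ⟨heq, -⟩ := block_commutator_eq hG T hE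
  obtain ⟨-, -, hQW | ⟨hp, -⟩⟩ := block_module hE
  · exfalso
    refine h ?_
    obtain ⟨-, -, hQE, -⟩ := hE
    rw [← hQE, hQW, heq]
    rfl
  · exact hp

theorem eq_blockMod_of_le (hb : IsBlock p E) (h : pCoreOf p E ≤ omegaOneCenter p (pCoreOf p E)) :
    pCoreOf p E = blockMod p E := by
  have hQW := le_antisymm h (omegaOneCenter_le _)
  obtain ⟨hG, T, hE⟩ := hb
  obtain ⟨heq, -⟩ := block_commutator_eq hG T hE
  obtain ⟨-, -, hQE, -⟩ := hE
  rw [← hQE, hQW, heq]
  rfl

theorem not_trivial_mod_W (hb : IsBlock p E) (hQO : pCoreOf p E ≤ pCore p G)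
    (hexc : pCoreOf p E ≠ blockMod p E) :
    ¬ ⁅pCore p G, E⁆ ≤ omegaOneCenter p (pCoreOf p E) := fun h => by
  refine hexc (eq_blockMod_of_le hb ?_)
  obtain ⟨-, T, hE⟩ := hb
  obtain ⟨-, -, hQE, -⟩ := hE
  conv_lhs => rw [← hQE]
  exact (Subgroup.commutator_mono hQO le_rfl).trans h

/-- The working hypotheses for an exceptional block. -/
theorem exists_exc_data (hb : IsBlock p E) (T : Sylow p G) (hT : IsBaumannBlock p (T : Subgroup G) E)
    (hQO : pCoreOf p E ≤ pCore p G) (hexc : pCoreOf p E ≠ blockMod p E) :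
    ∃ (F : Type) (_ : Field F) (_ : Finite F) (D : Exc E (baumannSubgroupOf p (T : Subgroup G)) F),
      p = 3 ∧ D.U = blockMod p E ∧ D.O = pCore p G ∧ D.V = omegaOneCenter p (pCore p G) ∧
        D.Q = pCoreOf p E ∧ D.Z = omegaOneCenter p (pCoreOf p E) ⊓ Subgroup.centralizer (E : Set G) := by
  obtain rfl : p = 3 := ((ordinary_or_exc hb).resolve_left hexc).1
  obtain ⟨F, h1, h2, D, hU, hO, hV, hQ, hZ⟩ := exists_exc_full hb.1 T hT (not_trivial_mod_W hb hQO hexc)
  exact ⟨F, h1, h2, D, rfl, hU, hO, hV, hQ, hZ⟩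

/-- Two elements with the same action differ by an element centralizing the module. -/
theorem div_mem_centralizer {U : Subgroup G} {a b : G} (hb : b ∈ Subgroup.normalizer (U : Set G))
    (h : ∀ u ∈ U, a * u * a⁻¹ = b * u * b⁻¹) : a * b⁻¹ ∈ Subgroup.centralizer (U : Set G) := by
  refine Subgroup.mem_centralizer_iff.2 fun u hu => ?_
  have hu' : b⁻¹ * u * b ∈ U := by
    simpa using (Subgroup.mem_normalizer_iff.1 (inv_mem hb) u).1 hu
  have h1 := h _ hu'
  rw [show b * (b⁻¹ * u * b) * b⁻¹ = u by group] at h1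
  calc u * (a * b⁻¹) = a * (b⁻¹ * u * b) * a⁻¹ * (a * b⁻¹) := by rw [h1]
    _ = a * b⁻¹ * u := by group

end CfsgLib.BaumannBlock.Subnormal
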