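import Mathlib
import Cfsg.Agent.BaumannBlock.Subnormal.Basic

/-!
A block normalizing another one with the same module and no larger action on it is contained in it.
-/

set_option autoImplicit false

open scoped MatrixGroups commutatorElement

namespace CfsgLib.BaumannBlock.Subnormal

open Cfsg CentModule

variable {G : Type*} [Group G] {p : ℕ} [Finite G] [Fact p.Prime] {E F : Subgroup G}

/-- A block centralizes `O / U` or is exceptional. -/
theorem trivial_or_exc (hb : IsBlock p E) (T : Sylow p G) (hT : IsBaumannBlock p (T : Subgroup G) E) :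
    (∀ o ∈ pCore p G, ∀ e ∈ E, ⁅o, e⁆ ∈ blockMod p E) ∨
    ∃ (K : Type) (_ : Field K) (_ : Finite K) (D : Exc E (baumannSubgroupOf p (T : Subgroup G)) K),
      p = 3 ∧ D.U = blockMod p E ∧ D.O = pCore p G ∧ D.V = omegaOneCenter p (pCore p G) ∧ D.Q = pCoreOf p E := by
  by_cases h : ⁅pCore p G, E⁆ ≤ omegaOneCenter p (pCoreOf p E)
  · left
    intro o ho
    refine commutator_mem_of_residual hb.facts.res
      ((isPGroup_pCoreOf E).to_le (omegaOneCenter_le _)) hb.facts.le_W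
      (fun a ha b hb' => omegaOneCenter_comm _ ha hb') (fun w hw e he => ?_) hb.facts.normU
      (fun e he => h (Subgroup.commutator_mem_commutator ho he))
    rw [← commutatorElement_def, ← commutatorElement_inv, ← hb.facts.W_comm]
    exact inv_mem (Subgroup.commutator_mem_commutator hw he)
  · right
    obtain rfl : p = 3 := by
      obtain ⟨-, -, hQW | ⟨hp, -⟩⟩ := block_module hT
      · exact absurd (Subgroup.commutator_le.2 fun o ho e he => hQW.le (comm_O_mem hb ho he)) h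
      · exact hp
    obtain ⟨K, h1, h2, D, hU, hO, hV, hQ, -⟩ := exists_exc_full hb.1 T hT h
    exact ⟨K, h1, h2, D, rfl, hU, hO, hV, hQ⟩

section Exc

variable {B : Subgroup G} {K : Type} [Field K] (D : Exc E B K)

theorem _root_.CfsgLib.BaumannBlock.CentModule.Exc.mem_R_iff (x : G) :
    x ∈ D.R ↔ x ∈ D.O ∧ (∀ y ∈ D.O, ⁅x, y⁆ ∈ D.V) ∧ x ^ 3 ∈ D.V := by
  refine ⟨fun h => ⟨D.R_le h, fun y hy => D.R_comm_mem h hy, ?_⟩, fun h => D.mem_R h.1 h.2.1 h.2.2⟩
  have h3 := D.ab_pow (D.cl ⟨x, h⟩)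
  rw [← map_pow] at h3
  have h4 := congrArg Subtype.val h3
  rw [D.cl_coe] at h4
  exact (QuotientGroup.eq_one_iff _).1 h4

theorem _root_.CfsgLib.BaumannBlock.CentModule.Exc.act_eq_one_iff (g : G) :
    D.act g = 1 ↔ ∀ r ∈ D.R, (g * r * g⁻¹)⁻¹ * r ∈ D.V := by
  constructor
  · intro h r hr
    have h' := DFunLike.congr_fun h (D.cl ⟨r, hr⟩)
    rw [D.act_cl, MulAut.one_apply, D.cl_eq_iff] at h'
    exact h'
  · intro h
    refine MulEquiv.ext fun a => ?_
    obtain ⟨r, rfl⟩ := D.cl_surj a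
    rw [D.act_cl, MulAut.one_apply, D.cl_eq_iff]
    exact h r r.2

theorem _root_.CfsgLib.BaumannBlock.CentModule.Exc.isPhi_pow {g : G} {s : SL(2, K)} (h : D.IsPhi g s) :
    ∀ k : ℕ, D.IsPhi (g ^ k) (s ^ k) := by
  intro k
  induction k with
  | zero => rw [pow_zero, pow_zero]; exact D.isPhi_one
  | succ k ih => rw [pow_succ, pow_succ]; exact D.isPhi_mul ih h

/-- The involution of an exceptional block inverts `O₃(E)` modulo `V`. -/
theorem _root_.CfsgLib.BaumannBlock.CentModule.Exc.t_inverts {q : G} (hq : q ∈ D.Q) :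
    (D.t * q * D.t⁻¹) * q ∈ D.V := by
  have hq' : D.t * q * D.t⁻¹ ∈ D.Q := (Subgroup.mem_normalizer_iff.1 (D.E_norm_Q D.t_mem) q).1 hq
  refine (D.ψ_ker (⟨_, hq'⟩ * ⟨q, hq⟩)).1 (Multiplicative.toAdd.injective ?_)
  rw [map_mul, toAdd_mul, D.ρ_ψ ⟨D.t, D.t_mem⟩ ⟨q, hq⟩ ⟨_, hq'⟩ rfl, D.ρ_t, neg_mulVec, neg_add_cancel, toAdd_one]

/-- A trivially acting block and an exceptional one with the same module cannot both be present. -/
theorem false_of_trivial_exc [Finite K] (hbF : IsBlock p F) (hU : blockMod p F = D.U) (hO : D.O = pCore p G)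
    (hV : D.V = omegaOneCenter p (pCore p G)) (hp : p = 3)
    (htriv : ∀ o ∈ pCore p G, ∀ f ∈ F, ⁅o, f⁆ ∈ blockMod p F) : False := by
  obtain ⟨⟨f, hf, hinv⟩, -⟩ := exists_inverting hbF (by omega)
  have hact : D.act f = 1 := (D.act_eq_one_iff f).2 fun r hr => by
    have h := htriv r (hO ▸ D.R_le hr) f hf
    rw [hU] at h
    have h1 := D.normal_V.conj_mem _ (D.U_le h) r⁻¹
    convert h1 using 1
    rw [commutatorElement_def]; group
  have hfL : f ∈ D.L0 := by
    refine ⟨?_, fun v hv => ?_⟩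
    · rw [← hU]; exact hbF.facts.normU hf
    · rw [← hU]
      have := inv_mem (Subgroup.commutator_mem_commutator (hV ▸ hv) hf)
      rwa [commutatorElement_inv, commutatorElement_def] at this
  have hfK : f ∈ D.KO := fun o ho => by
    have h := htriv o (hO ▸ ho) f hf
    rw [hU] at h
    refine D.V_le_R (D.U_le ?_)
    have := inv_mem h
    rwa [commutatorElement_inv, commutatorElement_def] at this
  refine D.not_sep (x := D.t * f⁻¹) (mul_mem (D.E_le_L0 D.t_mem) (inv_mem hfL))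
    (mul_mem (D.E_le_KO D.t_mem) (inv_mem hfK)) (Or.inr ⟨?_, fun u hu => ?_⟩)
  · rw [map_mul, map_inv, hact, inv_one, mul_one]; rfl
  · have h1 : f⁻¹ * u * f = u⁻¹ := by
      have h := hinv u⁻¹ (inv_mem (hU.symm ▸ hu))
      rw [inv_inv] at h
      nth_rw 1 [← h]; group
    calc D.t * f⁻¹ * u * (D.t * f⁻¹)⁻¹ = D.t * (f⁻¹ * u * f) * D.t⁻¹ := by group
      _ = u := by rw [h1, D.conj_t_U (inv_mem hu), inv_inv]

end Exc

/-- A block with the module of an exceptional one, normalizing it and acting no more, lies in it. -/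
theorem le_of_same_action (hbE : IsBlock p E) (hbF : IsBlock p F) (T T' : Sylow p G)
    (hTE : IsBaumannBlock p (T : Subgroup G) E) (hTF : IsBaumannBlock p (T' : Subgroup G) F)
    (hFE : F ≤ Subgroup.normalizer (E : Set G)) (hU : blockMod p E = blockMod p F)
    (hsame : ∀ f ∈ F, ∃ e ∈ E, ∀ u ∈ blockMod p E, f * u * f⁻¹ = e * u * e⁻¹)
    (hlink : T = T' ∨ (p = 3 → ∃ d ∈ E ⊓ F, ∀ u ∈ blockMod p E, d * u * d⁻¹ = u⁻¹)) : F ≤ E := by
  set U := blockMod p E with hUdef
  set X := E ⊔ F with hX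
  set H := Subgroup.centralizer (U : Set G) ⊓ X with hH
  have hXE : X ≤ Subgroup.normalizer (E : Set G) := sup_le Subgroup.le_normalizer hFE
  have hHE : H ≤ Subgroup.normalizer (E : Set G) := inf_le_right.trans hXE
  suffices hHp : IsPGroup p H by
    refine le_of_coprime hbF fun x hx hcop => ?_
    obtain ⟨e, he, heq⟩ := hsame x hx
    refine mem_of_coprime_of_mem_sup hHp hHE ?_ hcop
    have hm : x * e⁻¹ ∈ H := Subgroup.mem_inf.2 ⟨div_mem_centralizer (hbE.facts.normU he) heq,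
      mul_mem (Subgroup.mem_sup_right hx) (inv_mem (Subgroup.mem_sup_left he))⟩
    simpa using mul_mem (Subgroup.mem_sup_right (S := E) hm) (Subgroup.mem_sup_left (T := H) he)
  rcases trivial_or_exc hbE T hTE with htE | ⟨K, _, _, D, hp, hDU, hDO, hDV, hDQ⟩
  · rcases trivial_or_exc hbF T' hTF with htF | ⟨K', _, _, D', hp', hDU', hDO', hDV', hDQ'⟩
    swap
    · exact (false_of_trivial_exc D' hbE (hU.trans hDU'.symm) hDO' hDV' hp' htE).elim
    rw [← hU] at htF
    let S : Subgroup G :=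
      { carrier := {g | g ∈ Subgroup.normalizer (U : Set G) ∧ ∀ o ∈ pCore p G, g * o * g⁻¹ * o⁻¹ ∈ U}
        one_mem' := ⟨one_mem _, fun o _ => by simp⟩
        mul_mem' := by
          rintro a b ⟨ha, ha'⟩ ⟨hb, hb'⟩
          refine ⟨mul_mem ha hb, fun o ho => ?_⟩
          rw [show a * b * o * (a * b)⁻¹ * o⁻¹ = a * (b * o * b⁻¹ * o⁻¹) * a⁻¹ * (a * o * a⁻¹ * o⁻¹) by group]
          exact mul_mem ((Subgroup.mem_normalizer_iff.1 ha _).1 (hb' o ho)) (ha' o ho)
        inv_mem' := by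
          rintro a ⟨ha, ha'⟩
          refine ⟨inv_mem ha, fun o ho => ?_⟩
          rw [show a⁻¹ * o * a⁻¹⁻¹ * o⁻¹ = a⁻¹ * (a * o * a⁻¹ * o⁻¹)⁻¹ * a⁻¹⁻¹ by group]
          exact (Subgroup.mem_normalizer_iff.1 (inv_mem ha) _).1 (inv_mem (ha' o ho)) }
    have hmk : ∀ (Y : Subgroup G), Y ≤ Subgroup.normalizer (U : Set G) →
        (∀ o ∈ pCore p G, ∀ y ∈ Y, ⁅o, y⁆ ∈ U) → Y ≤ S := fun Y hY h y hy => ⟨hY hy, fun o ho => by
      have := inv_mem (h o ho y hy)
      rwa [commutatorElement_inv, commutatorElement_def] at this⟩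
    have hXS : X ≤ S := sup_le (hmk E hbE.facts.normU htE) (hmk F (hU ▸ hbF.facts.normU) htF)
    refine CfsgLib.LocalP.isPGroup_of_forall_coprime _ fun x hx hcop => ?_
    obtain ⟨h1, h2⟩ := Subgroup.mem_inf.1 hx
    obtain ⟨-, h3⟩ := hXS h2
    refine CfsgLib.LocalP.eq_one_of_mem_of_coprime pgroup_O (hbE.1 (Subgroup.mem_centralizer_iff.2 fun o ho => ?_)) hcop
    refine (commute_of_stabilizes hcop (inv_mul_cancel_right _ _).symm
      (Subgroup.mem_centralizer_iff.1 h1 _ (h3 o ho)).symm ?_).symm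
    exact ⟨1, by rw [pow_one]; exact omegaOneCenter_pow _ (hbE.facts.le_W (h3 o ho))⟩
  -- the exceptional case
  subst hp
  rcases trivial_or_exc hbF T' hTF with htF | ⟨K', _, _, D', -, hDU', hDO', hDV', hDQ'⟩
  · exact (false_of_trivial_exc D hbF (hU.symm.trans hDU.symm) hDO hDV rfl htF).elim
  haveI := D.char3
  haveI := D'.char3
  have hU' : D'.U = D.U := by rw [hDU', hDU]; exact hU.symm
  have hO' : D'.O = D.O := hDO'.trans hDO.symm
  have hV' : D'.V = D.V := hDV'.trans hDV.symm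
  have hRR : ∀ x, x ∈ D'.R ↔ x ∈ D.R := fun x => by
    rw [D'.mem_R_iff, D.mem_R_iff, hO', hV']
  have hactT : ∀ g, D.act g = 1 → D'.act g = 1 := fun g hg => (D'.act_eq_one_iff g).2 fun r hr => by
    rw [hV']; exact (D.act_eq_one_iff g).1 hg r ((hRR r).1 hr)
  have hFQ : ∀ q ∈ D'.Q, q ∈ D.R := fun q hq => (hRR q).1 (D'.Q_le_R hq)
  have hFL : F ≤ D.L0 := fun f hf => by
    refine ⟨?_, fun v hv => ?_⟩
    · rw [hDU, ← hUdef, hU]; exact hbF.facts.normU hf
    · rw [hDU, ← hUdef, hU]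
      have := inv_mem (Subgroup.commutator_mem_commutator (hDV ▸ hv) hf)
      rwa [commutatorElement_inv, commutatorElement_def] at this
  have hFK : F ≤ D.KO := fun f hf o ho => by
    have h := inv_mem (D'.OE o (hO' ▸ ho) f hf)
    rw [commutatorElement_inv, commutatorElement_def] at h
    exact hFQ _ h
  -- the second inverted part lies in the first
  have hP : ∀ (q : G) (hq : q ∈ D'.Q), D.cl ⟨q, hFQ q hq⟩ ∈ D.P := by
    intro q hq
    refine D.mem_P_of_inverted ?_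
    show D.act D.t (D.cl _) = _
    rw [D.act_cl, ← map_inv, eq_comm, D.cl_eq_iff]
    show (q⁻¹)⁻¹ * (D.t * q * D.t⁻¹) ∈ D.V
    rw [inv_inv]
    suffices h : (D.t * q * D.t⁻¹) * q ∈ D.V by
      have := D.normal_V.conj_mem _ h q
      simpa [mul_assoc] using this
    rcases hlink with hTT | hd
    swap
    · obtain ⟨d, hd, hdinv⟩ := hd rfl
      obtain ⟨hdE, hdF⟩ := Subgroup.mem_inf.1 hd
      -- `d` agrees with both involutions
      have h1 : D.t * d⁻¹ ∈ D.Q := D.mem_Q_of_centralizes_U (mul_mem D.t_mem (inv_mem hdE))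
        (div_mem_centralizer (D.E_norm_U hdE) fun u hu => by rw [D.conj_t_U hu, hdinv u (by rw [hDU] at hu; exact hu)])
      have h2 : D'.t * d⁻¹ ∈ D'.Q := D'.mem_Q_of_centralizes_U (mul_mem D'.t_mem (inv_mem hdF))
        (div_mem_centralizer (D'.E_norm_U hdF) fun u hu => by
          rw [D'.conj_t_U hu, hdinv u (by rw [hU', hDU] at hu; exact hu)])
      have hact : D.act D.t = D.act D'.t := by
        have e1 := D.act_eq_one_of_mem_O (D.Q_le h1)
        have e2 := D.act_eq_one_of_mem_O (hO' ▸ D'.Q_le h2)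
        rw [map_mul, map_inv, mul_inv_eq_one] at e1 e2
        rw [e1, e2]
      have h3 := DFunLike.congr_fun hact (D.cl ⟨q, hFQ q hq⟩)
      rw [D.act_cl, D.act_cl, D.cl_eq_iff] at h3
      have h4 : (D'.t * q * D'.t⁻¹) * q ∈ D.V := hV' ▸ D'.t_inverts hq
      have := mul_mem (D.normal_V.conj_mem _ h3 (D.t * q * D.t⁻¹)) (one_mem D.V)
      have h5 : (D'.t * q * D'.t⁻¹) * (D.t * q * D.t⁻¹)⁻¹ ∈ D.V := by simpa [mul_assoc] using this
      have := mul_mem (inv_mem h5) h4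
      simpa [mul_assoc] using this
    subst hTT
    -- both are blocks for the same Sylow subgroup
    obtain ⟨x, hx⟩ : ∃ x, x = D.t * D'.t⁻¹ := ⟨_, rfl⟩
    have htL : D.t ∈ D'.L0 := by
      refine ⟨?_, fun v hv => ?_⟩
      · rw [hU']; exact D.E_norm_U D.t_mem
      · rw [hU']; exact (D.E_le_L0 D.t_mem).2 v (hV' ▸ hv)
    have htK : D.t ∈ D'.KO := fun o ho => (hRR _).2 (D.E_le_KO D.t_mem o (hO' ▸ ho))
    have hxU : ∀ u ∈ D'.U, x * u * x⁻¹ = u := fun u hu => by
      have h1 : D'.t⁻¹ * u * D'.t = u⁻¹ := by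
        have h := D'.conj_t_U (inv_mem hu)
        rw [inv_inv] at h
        nth_rw 1 [← h]; group
      calc x * u * x⁻¹ = D.t * (D'.t⁻¹ * u * D'.t) * D.t⁻¹ := by rw [hx]; group
        _ = u := by rw [h1, D.conj_t_U (inv_mem (hU' ▸ hu)), inv_inv]
    have hxC : x ∈ Subgroup.centralizer (D'.U : Set G) := Subgroup.mem_centralizer_iff.2 fun u hu =>
      (mul_inv_eq_iff_eq_mul.1 (hxU u hu)).symm
    have hcomt : Commute (D'.act D.t) D'.τ := by
      have h := D'.commute_τ hxC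
      rw [hx, map_mul, map_inv] at h
      have h2 := h.mul_left (Commute.refl D'.τ)
      rwa [show D'.act D.t * (D'.act D'.t)⁻¹ * D'.τ = D'.act D.t from inv_mul_cancel_right _ _] at h2
    obtain ⟨s, hs⟩ := D'.exists_isPhi htL fun a ha => D'.act_mem_P hcomt ha
    have hs2 : s * s = 1 := D'.isPhi_unique (D'.isPhi_mul hs hs) (by rw [D.t_sq]; exact D'.isPhi_one)
    rcases eq_or_eq_neg_of_sq hs2 with rfl | rfl
    · exfalso
      have hxphi : D'.IsPhi x (-1) := by
        rw [hx, ← one_mul (-1 : SL(2, K')), show D'.t⁻¹ = D'.t from inv_eq_of_mul_eq_one_left D'.t_sq]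
        exact D'.isPhi_mul hs D'.isPhi_t
      have hxL : x ∈ D'.L0 := hx ▸ mul_mem htL (inv_mem (D'.E_le_L0 D'.t_mem))
      have hxK : x ∈ D'.KO := hx ▸ mul_mem htK (inv_mem (D'.E_le_KO D'.t_mem))
      obtain ⟨a, m, hm, ham⟩ := Nat.exists_eq_pow_mul_and_not_dvd (orderOf_pos x).ne' 2 (by norm_num)
      have hmo : Odd m := Nat.odd_iff.2 (by omega)
      refine D'.not_separated (x := x ^ m) ⟨a, by rw [← pow_mul, mul_comm, ← ham, pow_orderOf_eq_one]⟩
        (pow_mem hxL m) (pow_mem hxK m) (i := 1) (j := -1) (Or.inr ⟨rfl, rfl⟩) (fun u hu => ?_) (fun w hw => ?_)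
        (fun b hb => ?_)
      · rw [zpow_one, ← Subgroup.mem_centralizer_iff.1 (pow_mem hxC m) u hu, mul_inv_cancel_right]
      · have hphi := D'.isPhi_pow hxphi m
        rw [hmo.neg_one_pow] at hphi
        refine ⟨w * (x ^ m * w * (x ^ m)⁻¹), ?_, by rw [zpow_neg_one, inv_mul_cancel_left]⟩
        obtain ⟨h1, e1⟩ := hphi ⟨D'.clQ ⟨w, hw⟩, D'.clQ_mem _⟩
        rw [neg_mulVec] at e1
        have : D'.act (x ^ m) (D'.clQ ⟨w, hw⟩) = (D'.clQ ⟨w, hw⟩)⁻¹ := congrArg Subtype.val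
          (D'.ψP_bij.1 (show D'.ψP ⟨_, h1⟩ = D'.ψP ⟨D'.clQ ⟨w, hw⟩, D'.clQ_mem _⟩⁻¹ from
            Multiplicative.toAdd.injective (by rw [map_inv, toAdd_inv]; exact e1)))
        change D'.act (x ^ m) (D'.cl ⟨w, D'.Q_le_R hw⟩) = (D'.cl ⟨w, D'.Q_le_R hw⟩)⁻¹ at this
        rw [D'.act_cl, ← map_inv, eq_comm, D'.cl_eq_iff] at this
        simpa using this
      · rw [map_pow]
        refine Commute.pow_left ?_ m
        rw [hx, map_mul, map_inv]
        refine Commute.mul_left ?_ (D'.act_B_commute_τ hb).symm.inv_left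
        have h1 : D.act ⁅D.t, b⁆ = 1 := by
          rw [map_commutatorElement, commutatorElement_eq_one_iff_mul_comm]
          exact (D.act_B_commute_τ hb).symm.eq
        have h2 := hactT _ h1
        rw [map_commutatorElement, commutatorElement_eq_one_iff_mul_comm] at h2
        exact h2
    · obtain ⟨h1, e1⟩ := hs ⟨D'.clQ ⟨q, hq⟩, D'.clQ_mem _⟩
      rw [neg_mulVec] at e1
      have : D'.act D.t (D'.clQ ⟨q, hq⟩) = (D'.clQ ⟨q, hq⟩)⁻¹ := congrArg Subtype.val
        (D'.ψP_bij.1 (show D'.ψP ⟨_, h1⟩ = D'.ψP ⟨D'.clQ ⟨q, hq⟩, D'.clQ_mem _⟩⁻¹ from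
          Multiplicative.toAdd.injective (by rw [map_inv, toAdd_inv]; exact e1)))
      change D'.act D.t (D'.cl ⟨q, D'.Q_le_R hq⟩) = (D'.cl ⟨q, D'.Q_le_R hq⟩)⁻¹ at this
      rw [D'.act_cl, ← map_inv, eq_comm, D'.cl_eq_iff, hV'] at this
      have h2 : q * (D.t * q * D.t⁻¹) ∈ D.V := by simpa using this
      have h3 := D.normal_V.conj_mem _ h2 q⁻¹
      simpa [mul_assoc] using h3
  -- the group acts trivially modulo the inverted part
  let M : Subgroup G :=
    { carrier := {g | ∀ a, D.act g a * a⁻¹ ∈ D.P}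
      one_mem' := fun a => by rw [map_one, MulAut.one_apply, mul_inv_cancel]; exact one_mem _
      mul_mem' := fun {g h} hg hh a => by
        have := mul_mem (hg (D.act h a)) (hh a)
        rw [map_mul, MulAut.mul_apply]
        simpa [mul_assoc] using this
      inv_mem' := fun {g} hg a => by
        have := inv_mem (hg (D.act g⁻¹ a))
        rw [← MulAut.mul_apply, ← map_mul, mul_inv_cancel, map_one, MulAut.one_apply] at this
        simpa using this }
  have hXM : X ≤ M := by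
    refine sup_le (fun e he => D.act_E_sub ⟨e, he⟩) fun f hf a => ?_
    obtain ⟨r, rfl⟩ := D.cl_surj a
    have h := inv_mem (D'.OE r (hO' ▸ D.R_le r.2) f hf)
    rw [commutatorElement_inv, commutatorElement_def] at h
    have h2 := hP _ h
    rw [D.act_cl, ← map_inv, ← map_mul]
    exact h2
  have hXL : X ≤ D.L0 := sup_le D.E_le_L0 hFL
  have hXK : X ≤ D.KO := sup_le D.E_le_KO hFK
  have hHU : ∀ h ∈ H, h ∈ Subgroup.centralizer (D.U : Set G) := fun h hh => by
    rw [hDU]; exact (Subgroup.mem_inf.1 hh).1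
  have hA : ∀ h ∈ H, ∀ a ∈ D.A0, D.act h a = a := fun h hh a ha =>
    mul_inv_eq_one.1 (D.P_inf_A0 (hXM (Subgroup.mem_inf.1 hh).2 a)
      (mul_mem (D.act_mem_A0 (D.commute_τ (hHU h hh)) ha) (inv_mem ha)))
  have hphi : ∀ h ∈ H, ∃ s, D.IsPhi h s := fun h hh =>
    D.exists_isPhi (hXL (Subgroup.mem_inf.1 hh).2) fun a ha =>
      D.act_mem_P (D.commute_τ (hHU h hh)) ha
  let S : Subgroup SL(2, K) :=
    { carrier := {s | ∃ d ∈ H, D.IsPhi d s}
      one_mem' := ⟨1, one_mem _, D.isPhi_one⟩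
      mul_mem' := fun ⟨d, hd, hs⟩ ⟨d', hd', hs'⟩ => ⟨d * d', mul_mem hd hd', D.isPhi_mul hs hs'⟩
      inv_mem' := fun ⟨d, hd, hs⟩ => ⟨d⁻¹, inv_mem hd, D.isPhi_inv hs⟩ }
  have hS : S = ⊥ := by
    refine eq_bot_of_odd S ?_ ?_
    · intro g hg s ⟨d, hd, hs⟩
      rw [← D.ρ_range] at hg
      obtain ⟨e, rfl⟩ := hg
      refine ⟨(e : G) * d * (e : G)⁻¹, Subgroup.mem_inf.2 ⟨?_, ?_⟩,
        D.isPhi_mul (D.isPhi_mul (D.isPhi_E e) hs) (D.isPhi_inv (D.isPhi_E e))⟩
      · exact (Subgroup.mem_normalizer_iff.1 (normalizer_le_normalizer_centralizer U (hbE.facts.normU e.2)) d).1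
          (Subgroup.mem_inf.1 hd).1
      · exact mul_mem (mul_mem (Subgroup.mem_sup_left e.2) (Subgroup.mem_inf.1 hd).2)
          (inv_mem (Subgroup.mem_sup_left e.2))
    · intro s hs
      by_contra hodd
      obtain ⟨k, hk⟩ := Nat.not_odd_iff_even.1 hodd
      have hpos := orderOf_pos s
      have hsk : s ^ k * s ^ k = 1 := by rw [← pow_add, ← hk, pow_orderOf_eq_one]
      have hsk1 : s ^ k ≠ 1 := pow_ne_one_of_lt_orderOf (by omega) (by omega)
      have hneg := (eq_or_eq_neg_of_sq hsk).resolve_left hsk1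
      have hm : (-1 : SL(2, K)) ∈ S := hneg ▸ pow_mem hs k
      obtain ⟨d, hd, hd'⟩ := hm
      have hact : D.act d = D.τ := by
        refine D.act_eq_of_agree (fun p hp => ?_) (fun a ha => by rw [hA d hd a ha, D.mem_A0.1 ha])
        obtain ⟨h1, e1⟩ := hd' ⟨p, hp⟩
        obtain ⟨h2, e2⟩ := D.isPhi_t ⟨p, hp⟩
        exact congrArg Subtype.val (D.ψP_bij.1 (Multiplicative.toAdd.injective (e1.trans e2.symm)))
      refine D.not_sep (hXL (Subgroup.mem_inf.1 hd).2) (hXK (Subgroup.mem_inf.1 hd).2) (Or.inr ⟨hact, fun u hu => ?_⟩)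
      rw [← Subgroup.mem_centralizer_iff.1 (hHU d hd) u hu, mul_inv_cancel_right]
  refine D.isPGroup_K2.to_le fun d hd => Subgroup.mem_inf.2
    ⟨D.mem_C2.2 ⟨hHU d hd, hXL (Subgroup.mem_inf.1 hd).2, hXK (Subgroup.mem_inf.1 hd).2⟩, ?_⟩
  show D.act d = 1
  obtain ⟨s, hs⟩ := hphi d hd
  have hs1 : s = 1 := Subgroup.mem_bot.1 (hS ▸ (⟨d, hd, hs⟩ : s ∈ S))
  refine D.act_eq_of_agree (fun p hp => ?_) (fun a ha => by rw [hA d hd a ha, MulAut.one_apply])
  obtain ⟨h1, e1⟩ := hs ⟨p, hp⟩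
  rw [hs1, Matrix.SpecialLinearGroup.coe_one, Matrix.one_mulVec] at e1
  rw [MulAut.one_apply]
  exact congrArg Subtype.val (D.ψP_bij.1 (Multiplicative.toAdd.injective e1))

end CfsgLib.BaumannBlock.Subnormal
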