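import Mathlib
import Cfsg.Agent.BaumannBlock.Subnormal.EqBlock

/-!
Two subnormal blocks are equal or commute.
-/

set_option autoImplicit false

open scoped MatrixGroups commutatorElement

namespace CfsgLib.BaumannBlock.Subnormal

open Cfsg CentModule

variable {G : Type*} [Group G] {p : ℕ} [Finite G] [Fact p.Prime] {E F : Subgroup G}

theorem three_of_small (hs : Small p E) : p = 2 ∨ p = 3 := hs.kind.imp (·.1) (·.1)

theorem card_small_lt (hs : Small p E) {F : Subgroup G} (hF : PerfectBlock p F) :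
    Nat.card (blockMod p E) < Nat.card (blockMod p F) := by
  have h := hF.card_gt
  rw [hs.card_eq]
  rcases three_of_small hs with rfl | rfl <;> omega

/-- For odd `p` a block is not abelian modulo `O_p(E)`. -/
theorem commutator_not_le_Q (hb : IsBlock p E) (hp : p ≠ 2) : ¬ ⁅E, E⁆ ≤ pCoreOf p E := fun h => by
  rcases (kind_cases hb).1 with hP | hS
  · exact not_le_pgroup hb (isPGroup_pCoreOf E) (hP.perfect.symm.le.trans h)
  rcases hS.kind with ⟨h2, -⟩ | ⟨rfl, ⟨a, ha, b, hb', hinv⟩, -⟩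
  · exact hp h2
  refine hb.facts.ne_bot ((Subgroup.eq_bot_iff_forall _).2 fun u hu => ?_)
  have h1 := hinv u hu
  rw [mem_Q_conj_eq hb (h (Subgroup.commutator_mem_commutator ha hb')) hu] at h1
  exact CentModule.Exc.eq_one_of_sq (omegaOneCenter_pow _ (hb.facts.le_W hu)) (mul_eq_one_iff_eq_inv.2 h1)

/-- A block lies in no proper normal subgroup of a block. -/
theorem not_le_proper_normal (hbE : IsBlock p E) (hbF : IsBlock p F) {M : Subgroup G} (hM : M ≤ F)
    (hn : F ≤ Subgroup.normalizer (M : Set G)) (hne : M ≠ F) : ¬ E ≤ M := fun hEM => by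
  obtain ⟨h1, h2⟩ := (kind_cases hbF).2 M hM hn hne
  by_cases hp : p = 2
  · exact not_le_pgroup hbE (isPGroup_pCoreOf F) (hEM.trans (h2 hp))
  refine commutator_not_le_Q hbE hp (le_pCoreOf (commutator_le_self E) (le_normalizer_commutator E) ?_)
  exact (isPGroup_pCoreOf F).to_le (Subgroup.commutator_le.2 fun a ha b hb => h1 a (hEM ha) b (hEM hb))

/-- A subnormal block lies in no other block. -/
theorem not_le_of_subnormal (hbE : IsBlock p E) (hbF : IsBlock p F) (hs : E.IsSubnormal) (hne : E ≠ F) :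
    ¬ E ≤ F := fun hle => by
  rcases (hs.subgroupOf (H := E) (K := F)).lt_normal with h | ⟨M, hMn, hEM, hlt⟩
  · exact hne (le_antisymm hle (Subgroup.subgroupOf_eq_top.1 h))
  refine not_le_proper_normal hbE hbF (Subgroup.map_subtype_le M) ?_ ?_ fun x hx => ⟨⟨x, hle hx⟩, hEM hx, rfl⟩
  · intro f hf
    have key : ∀ g ∈ F, ∀ y ∈ M.map F.subtype, g * y * g⁻¹ ∈ M.map F.subtype := by
      rintro g hg _ ⟨y, hy, rfl⟩
      exact ⟨_, hMn.conj_mem y hy ⟨g, hg⟩, rfl⟩
    rw [Subgroup.mem_normalizer_iff]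
    exact fun y => ⟨key f hf y, fun hy => by simpa [mul_assoc] using key f⁻¹ (inv_mem hf) _ hy⟩
  · intro h
    refine hlt.ne (eq_top_iff.2 fun x _ => ?_)
    obtain ⟨y, hy, hyx⟩ : (x : G) ∈ M.map F.subtype := by rw [h]; exact x.2
    exact (F.subtype_injective hyx) ▸ hy

/-- The facts on an exceptional block. -/
theorem exc_facts (hb : IsBlock p E) (hexc : pCoreOf p E ≠ blockMod p E) :
    omegaOneCenter p (pCoreOf p E) ≤ blockMod p E ⊔ ⁅pCoreOf p E, pCoreOf p E⁆ ∧
      ⁅pCoreOf p E, pCoreOf p E⁆ ≤ omegaOneCenter p (pCoreOf p E) ∧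
      (∀ X₁ : Subgroup G, E ≤ Subgroup.normalizer (X₁ : Set G) → omegaOneCenter p (pCoreOf p E) ≤ X₁ →
        X₁ ≤ pCoreOf p E → X₁ ≤ omegaOneCenter p (pCoreOf p E) ∨ X₁ = pCoreOf p E) ∧
      ∃ a ∈ E, ∃ b ∈ E, ∃ q ∈ pCoreOf p E,
        (⁅a, b⁆ * q * ⁅a, b⁆⁻¹)⁻¹ * q ∉ omegaOneCenter p (pCoreOf p E) := by
  obtain ⟨hG, T, hE⟩ := id hb
  obtain ⟨heq, -, -, -, hUZ, -⟩ := block_commutator_eq hG T hE
  obtain ⟨-, -, hQW | ⟨hp, -, hirr⟩⟩ := block_module hE
  · exact absurd (eq_blockMod_of_le hb hQW.le) hexc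
  subst hp
  obtain ⟨-, -, -, -, ⟨F, hF, hFt, n, hn, -, -, hQW | ⟨-, hQ, hQQ, -⟩⟩ | ⟨h, -⟩⟩ := hE
  · exact absurd (eq_blockMod_of_le hb hQW.le) hexc
  swap
  · norm_num at h
  refine ⟨hUZ.symm.le.trans (sup_le_sup_left hQQ.ge _), hQQ.le.trans inf_le_left, hirr, ?_⟩
  haveI hchar : CharP F 3 := by
    refine (CharP.charP_iff_prime_eq_zero (R := F) Nat.prime_three).2 ?_
    have h0 : ((Fintype.card F : ℕ) : F) = 0 := FiniteField.cast_card_eq_zero F
    rw [hn, Nat.cast_pow] at h0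
    rcases Nat.eq_zero_or_pos n with h | h
    · rw [h, pow_zero] at hn
      exact absurd hn Fintype.one_lt_card.ne'
    · exact (pow_eq_zero_iff h.ne').1 h0
  obtain ⟨-, -, ρ, ψ, hρ, hψ, hker, hcomp⟩ := hQ
  obtain ⟨a, ha⟩ : (weylSL : SL(2, F)) ∈ ρ.range := hρ ▸ weylSL_mem
  obtain ⟨b, hb'⟩ : (quatJ : SL(2, F)) ∈ ρ.range := hρ ▸ quatJ_mem
  obtain ⟨q, hq⟩ := hψ (Multiplicative.ofAdd ![1, 0])
  refine ⟨a, a.2, b, b.2, q, q.2, fun hmem => ?_⟩
  obtain ⟨w, hw, hv⟩ := hcomp ⁅a, b⁆ q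
  rw [map_commutatorElement, ha, hb', commutator_weyl_quatJ, neg_mulVec, hq] at hv
  have hz : ψ (w⁻¹ * q) = 1 := (hker _).2 (by
    rw [Subgroup.coe_mul, Subgroup.coe_inv, hw]
    exact hmem)
  have h0 := congrFun (congrArg Multiplicative.toAdd hz) 0
  rw [map_mul, map_inv, toAdd_mul, toAdd_inv, hv, hq, toAdd_one] at h0
  simp at h0
  exact one_ne_neg_one (F := F) (by linear_combination h0)

/-- Blocks normalizing each other and centralizing each other's modules commute. -/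
theorem comm_of_central (hbE : IsBlock p E) (hbF : IsBlock p F) (hEF : E ≤ Subgroup.normalizer (F : Set G))
    (hFE : F ≤ Subgroup.normalizer (E : Set G)) (hFU : F ≤ Subgroup.centralizer (blockMod p E : Set G))
    (hEU : E ≤ Subgroup.centralizer (blockMod p F : Set G)) : ⁅E, F⁆ = ⊥ := by
  have hQ : ∀ e ∈ E, ∀ f ∈ F, ⁅e, f⁆ ∈ pCoreOf p E ∧ ⁅e, f⁆ ∈ pCoreOf p F := by
    intro e he f hf
    have hE' : ⁅e, f⁆ ∈ E := by
      rw [commutatorElement_def, show e * f * e⁻¹ * f⁻¹ = e * (f * e⁻¹ * f⁻¹) by group]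
      exact mul_mem he ((Subgroup.mem_normalizer_iff.1 (hFE hf) _).1 (inv_mem he))
    have hF' : ⁅e, f⁆ ∈ F := by
      rw [commutatorElement_def]
      exact mul_mem ((Subgroup.mem_normalizer_iff.1 (hEF he) _).1 hf) (inv_mem hf)
    exact ⟨mem_pCoreOf_of_centralizes hbE hE' (hFU hF'), mem_pCoreOf_of_centralizes hbF hF' (hEU hE')⟩
  have hfin : ∀ (E F : Subgroup G), IsBlock p F → (X : Subgroup G) → IsPGroup p X →
      (∀ x ∈ X, ∀ f ∈ F, f * x * f⁻¹ = x) → (∀ e ∈ E, ∀ f ∈ F, ⁅e, f⁆ ∈ X) → ⁅E, F⁆ = ⊥ :=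
    fun E F hb X hX hXF h => le_bot_iff.1 (Subgroup.commutator_le.2 fun e he f hf =>
      Subgroup.mem_bot.2 (comm_eq_one_of_central hb hX hXF (h e he) f hf))
  have hfix : ∀ {A : Subgroup G} {Y : Subgroup G}, A ≤ Subgroup.centralizer (Y : Set G) →
      ∀ x ∈ Y, ∀ a ∈ A, a * x * a⁻¹ = x := fun h x hx a ha => by
    rw [← Subgroup.mem_centralizer_iff.1 (h ha) x hx, mul_inv_cancel_right]
  rcases ordinary_or_exc hbE with h | ⟨hp, hexc⟩
  · exact hfin E F hbF _ (isPGroup_pCoreOf E) (fun x hx => hfix hFU x (h ▸ hx)) fun e he f hf => (hQ e he f hf).1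
  rcases ordinary_or_exc hbF with h | ⟨-, hexcF⟩
  · rw [Subgroup.commutator_comm]
    refine hfin F E hbE _ (isPGroup_pCoreOf F) (fun x hx => hfix hEU x (h ▸ hx)) fun f hf e he => ?_
    rw [← commutatorElement_inv]
    exact inv_mem (hQ e he f hf).2
  obtain ⟨hWle, hQQ, hirrE, -⟩ := exc_facts hbE hexc
  obtain ⟨-, hQQF, hirrF, a, ha, b, hb, q, hq, hnot⟩ := exc_facts hbF hexcF
  set QE := pCoreOf p E with hQE
  set QF := pCoreOf p F with hQF
  set WE := omegaOneCenter p QE with hWE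
  set WF := omegaOneCenter p QF with hWF
  set Y := QE ⊓ QF with hY
  have hFQE : F ≤ Subgroup.normalizer (QE : Set G) := hFE.trans (normalizer_le_normalizer_pCoreOf E)
  have hEQF : E ≤ Subgroup.normalizer (QF : Set G) := hEF.trans (normalizer_le_normalizer_pCoreOf F)
  have hnsup : ∀ (A : Subgroup G) (R S : Subgroup G), A ≤ Subgroup.normalizer (R : Set G) →
      A ≤ Subgroup.normalizer (S : Set G) → A ≤ Subgroup.normalizer ((R ⊔ S : Subgroup G) : Set G) :=
    fun A R S h1 h2 x hx => by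
      rw [Subgroup.mem_normalizer_iff_map_conj_eq, Subgroup.map_sup,
        Subgroup.mem_normalizer_iff_map_conj_eq.1 (h1 hx), Subgroup.mem_normalizer_iff_map_conj_eq.1 (h2 hx)]
  have hninf : ∀ (A : Subgroup G) (R S : Subgroup G), A ≤ Subgroup.normalizer (R : Set G) →
      A ≤ Subgroup.normalizer (S : Set G) → A ≤ Subgroup.normalizer ((R ⊓ S : Subgroup G) : Set G) :=
    fun A R S h1 h2 x hx => by
      rw [Subgroup.mem_normalizer_iff_map_conj_eq, Subgroup.map_inf _ _ _ (MulAut.conj x).injective,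
        Subgroup.mem_normalizer_iff_map_conj_eq.1 (h1 hx), Subgroup.mem_normalizer_iff_map_conj_eq.1 (h2 hx)]
  have hEY : E ≤ Subgroup.normalizer (Y : Set G) := hninf _ _ _ (le_normalizer_pCoreOf E) hEQF
  have hFY : F ≤ Subgroup.normalizer (Y : Set G) := hninf _ _ _ hFQE (le_normalizer_pCoreOf F)
  have hEWE : E ≤ Subgroup.normalizer (WE : Set G) :=
    (le_normalizer_pCoreOf E).trans (normalizer_le_normalizer_omegaOneCenter _)
  have hFWF : F ≤ Subgroup.normalizer (WF : Set G) :=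
    (le_normalizer_pCoreOf F).trans (normalizer_le_normalizer_omegaOneCenter _)
  have hFWE : F ≤ Subgroup.normalizer (WE : Set G) := hFQE.trans (normalizer_le_normalizer_omegaOneCenter _)
  have hWQ : WE ≤ QE := omegaOneCenter_le QE
  have hYW : Y ≤ WE := by
    rcases hirrE (Y ⊔ WE) (hnsup _ _ _ hEY hEWE) le_sup_right (sup_le inf_le_left hWQ) with h | h
    · exact le_sup_left.trans h
    exfalso
    rcases hirrF (Y ⊔ WF) (hnsup _ _ _ hFY hFWF) le_sup_right (sup_le inf_le_right (omegaOneCenter_le QF)) with h' | h'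
    · -- then `Y` would be abelian
      have hQc : ⁅QE, QE⁆ ≤ ⊥ := by
        have hYc : ∀ x ∈ Y, ∀ y ∈ Y, x * y = y * x := fun x hx y hy =>
          omegaOneCenter_comm QF ((le_sup_left.trans h') hx) ((le_sup_left.trans h') hy)
        rw [le_bot_iff, Subgroup.commutator_eq_bot_iff_le_centralizer]
        nth_rw 1 [← h]
        refine sup_le (Subgroup.le_centralizer_iff.1 ?_) (omegaOneCenter_le_centralizer QE)
        rw [← h]
        refine sup_le (fun x hx => Subgroup.mem_centralizer_iff.2 fun y hy => hYc y hy x hx) ?_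
        exact (omegaOneCenter_le_centralizer QE).trans (Subgroup.centralizer_le inf_le_left)
      refine hexc (eq_blockMod_of_le hbE fun x hx => mem_omegaOneCenter hx (fun y hy => ?_) ?_)
      · exact commutatorElement_eq_one_iff_mul_comm.1
          (Subgroup.mem_bot.1 (hQc (Subgroup.commutator_mem_commutator hx hy)))
      · replace hx : x ∈ Y ⊔ WE := h.ge hx
        have hpowY : ∀ y ∈ Y, y ^ p = 1 := fun y hy => omegaOneCenter_pow QF ((le_sup_left.trans h') hy)
        have hn : WE ≤ Subgroup.normalizer (Y : Set G) := fun w hw => hEY (pCoreOf_le E (hWQ hw))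
        rw [← SetLike.mem_coe, Subgroup.coe_mul_of_right_le_normalizer_left _ _ hn] at hx
        obtain ⟨y, hy, w, hw, rfl⟩ := hx
        have hcm : Commute y w := Subgroup.mem_centralizer_iff.1 (omegaOneCenter_le_centralizer QE hw) y hy.1
        rw [hcm.mul_pow, hpowY y hy, omegaOneCenter_pow QE hw, one_mul]
    -- `F'` acts trivially on the common part
    have hcommF : ∀ f ∈ F, ∀ e ∈ E, ∀ x ∈ QE,
        (f * (e * x * e⁻¹) * f⁻¹)⁻¹ * (e * (f * x * f⁻¹) * e⁻¹) ∈ WE := by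
      intro f hf e he x hx
      set y := f * (e * x * e⁻¹) * f⁻¹ with hy
      have hyQ : y ∈ QE := (Subgroup.mem_normalizer_iff.1 (hFQE hf) _).1
        ((Subgroup.mem_normalizer_iff.1 (le_normalizer_pCoreOf E he) x).1 hx)
      have hc : ⁅e, f⁆ ∈ QE := (hQ e he f hf).1
      have : y⁻¹ * (e * (f * x * f⁻¹) * e⁻¹) = ⁅y⁻¹, ⁅e, f⁆⁆ := by
        simp only [hy, commutatorElement_def]; group
      rw [this]
      exact hQQ (Subgroup.commutator_mem_commutator (inv_mem hyQ) hc)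
    have hkey := section_commute (E := E) (X := QE) (Y := WE) hWQ
      (fun x hx y hy => hQQ (Subgroup.commutator_mem_commutator hx hy)) (le_normalizer_pCoreOf E) hEWE hirrE
      (hFQE ha) (hFWE ha) (hFQE hb) (hFWE hb) (hcommF a ha) (hcommF b hb)
    refine hnot ?_
    set c := ⁅a, b⁆ with hc
    have hcF : c ∈ F := by
      rw [hc, commutatorElement_def]; exact mul_mem (mul_mem (mul_mem ha hb) (inv_mem ha)) (inv_mem hb)
    have hcY : c ∈ Subgroup.normalizer (Y : Set G) := hFY hcF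
    rw [← h'] at hq
    rw [← SetLike.mem_coe, Subgroup.coe_mul_of_left_le_normalizer_right Y WF
      (fun y hy => hFWF (pCoreOf_le F hy.2))] at hq
    obtain ⟨y, hy, w, hw, rfl⟩ := hq
    have hyc : c * y * c⁻¹ ∈ Y := (Subgroup.mem_normalizer_iff.1 hcY y).1 hy
    have hd : (c * y * c⁻¹)⁻¹ * y ∈ WF := by
      have hmY : (c * y * c⁻¹)⁻¹ * y ∈ Y := mul_mem (inv_mem hyc) hy
      refine mem_omegaOneCenter hmY.2 (fun x hx => ?_) (omegaOneCenter_pow QE (hkey y hy.1))
      have hcen : Y ⊔ WF ≤ Subgroup.centralizer ({(c * y * c⁻¹)⁻¹ * y} : Set G) := by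
        refine sup_le (fun z hz => Subgroup.mem_centralizer_iff.2 fun v hv => ?_)
          (fun z hz => Subgroup.mem_centralizer_iff.2 fun v hv => ?_) <;> rw [Set.mem_singleton_iff] at hv <;> subst hv
        · exact (Subgroup.mem_centralizer_iff.1 (omegaOneCenter_le_centralizer QE (hkey y hy.1)) z hz.1).symm
        · exact Subgroup.mem_centralizer_iff.1 (omegaOneCenter_le_centralizer QF hz) _ hmY.2
      exact Subgroup.mem_centralizer_iff.1 (hcen (h'.symm ▸ hx)) _ rfl
    have hwc : (c * w * c⁻¹)⁻¹ ∈ WF := inv_mem ((Subgroup.mem_normalizer_iff.1 (hFWF hcF) w).1 hw)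
    have := mul_mem (mul_mem hwc hd) hw
    simpa [mul_assoc] using this
  refine hfin E F hbF _ ((isPGroup_pCoreOf E).to_le hWQ) ?_ fun e he f hf => hYW (Subgroup.mem_inf.2 (hQ e he f hf))
  -- `F` centralizes the fixed layer
  have hmod : ∀ f ∈ F, ∀ x ∈ QE, x⁻¹ * (f * x * f⁻¹) ∈ WE := fun f hf x hx => by
    have h1 := hYW (Subgroup.mem_inf.2 (hQ x⁻¹ (inv_mem (pCoreOf_le E hx)) f hf))
    rw [commutatorElement_def] at h1
    have h2 : x⁻¹ * (f * x * f⁻¹) = x⁻¹ * f * x⁻¹⁻¹ * f⁻¹ := by group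
    rw [h2]; exact h1
  have hcz : ∀ z ∈ QE, ∀ w ∈ WE, Commute w z := fun z hz w hw =>
    (Subgroup.mem_centralizer_iff.1 (omegaOneCenter_le_centralizer QE hw) z hz).symm
  intro x hx f hf
  have hle : WE ≤ Subgroup.centralizer ({f} : Set G) := by
    refine hWle.trans (sup_le (fun u hu => Subgroup.mem_centralizer_iff.2 fun v hv => ?_)
      (Subgroup.commutator_le.2 fun u hu v hv => Subgroup.mem_centralizer_iff.2 fun g hg => ?_))
    · rw [Set.mem_singleton_iff] at hv; subst hv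
      exact (Subgroup.mem_centralizer_iff.1 (hFU hf) u hu).symm
    · rw [Set.mem_singleton_iff] at hg; subst hg
      rw [← mul_inv_eq_iff_eq_mul, conjugate_commutatorElement]
      obtain ⟨w₁, hw₁, e1⟩ : ∃ w ∈ WE, g * u * g⁻¹ = u * w := ⟨_, hmod g hf u hu, (mul_inv_cancel_left _ _).symm⟩
      obtain ⟨w₂, hw₂, e2⟩ : ∃ w ∈ WE, g * v * g⁻¹ = v * w := ⟨_, hmod g hf v hv, (mul_inv_cancel_left _ _).symm⟩
      rw [e1, e2]
      have c1 := hcz _ (mul_mem hv (hWQ hw₂)) _ hw₁
      have c2 := hcz _ (inv_mem hu) _ hw₂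
      calc ⁅u * w₁, v * w₂⁆ = u * (w₁ * (v * w₂)) * w₁⁻¹ * u⁻¹ * w₂⁻¹ * v⁻¹ := by
            rw [commutatorElement_def]; group
        _ = u * v * (w₂ * u⁻¹) * w₂⁻¹ * v⁻¹ := by rw [c1.eq]; group
        _ = ⁅u, v⁆ := by rw [c2.eq, commutatorElement_def]; group
  rw [Subgroup.mem_centralizer_iff.1 (hle hx) f rfl, mul_inv_cancel_right]

/-- Distinct blocks normalizing each other centralize each other's modules. -/
theorem central_of_mutual (hbE : IsBlock p E) (hbF : IsBlock p F) (hEF : E ≤ Subgroup.normalizer (F : Set G))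
    (hFE : F ≤ Subgroup.normalizer (E : Set G)) (hnE : ¬ E ≤ F) (hnF : ¬ F ≤ E) :
    F ≤ Subgroup.centralizer (blockMod p E : Set G) ∧ E ≤ Subgroup.centralizer (blockMod p F : Set G) := by
  -- one vanishing suffices
  have hone : ∀ (E F : Subgroup G), IsBlock p E → IsBlock p F → E ≤ Subgroup.normalizer (F : Set G) →
      F ≤ Subgroup.normalizer (E : Set G) → E ≤ Subgroup.centralizer (blockMod p F : Set G) →
      F ≤ Subgroup.centralizer (blockMod p E : Set G) := by
    intro E F hE hF hEF hFE h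
    refine centralizes_symm hF hE hFE h fun e he f hf => ?_
    have hD : E ⊓ F ≤ pCoreOf p E := le_pCoreOf inf_le_left
      (fun x hx => by
        rw [Subgroup.mem_normalizer_iff_map_conj_eq, Subgroup.map_inf _ _ _ (MulAut.conj x).injective,
          Subgroup.mem_normalizer_iff_map_conj_eq.1 (Subgroup.le_normalizer hx),
          Subgroup.mem_normalizer_iff_map_conj_eq.1 (hEF hx)])
      ((isPGroup_pCoreOf F).to_le fun d hd => mem_pCoreOf_of_centralizes hF hd.2 (h hd.1))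
    refine pCoreOf_le_centralizer hE (hD (Subgroup.mem_inf.2 ⟨?_, ?_⟩))
    · rw [commutatorElement_def, show e * f * e⁻¹ * f⁻¹ = e * (f * e⁻¹ * f⁻¹) by group]
      exact mul_mem he ((Subgroup.mem_normalizer_iff.1 (hFE hf) _).1 (inv_mem he))
    · rw [commutatorElement_def]
      exact mul_mem ((Subgroup.mem_normalizer_iff.1 (hEF he) _).1 hf) (inv_mem hf)
  -- a perfect partner
  have hperf : ∀ (E F : Subgroup G), IsBlock p E → IsBlock p F → E ≤ Subgroup.normalizer (F : Set G) →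
      F ≤ Subgroup.normalizer (E : Set G) → ¬ F ≤ E → PerfectBlock p F →
      E ≤ Subgroup.centralizer (blockMod p F : Set G) := by
    intro E F hE hF hEF hFE hne hP
    set D := E ⊓ F with hDdef
    have hDn : F ≤ Subgroup.normalizer (D : Set G) := fun x hx => by
      rw [Subgroup.mem_normalizer_iff_map_conj_eq, hDdef, Subgroup.map_inf _ _ _ (MulAut.conj x).injective,
        Subgroup.mem_normalizer_iff_map_conj_eq.1 (Subgroup.le_normalizer hx),
        Subgroup.mem_normalizer_iff_map_conj_eq.1 (hFE hx)]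
    have hDne : D ≠ F := fun h => hne (h.ge.trans inf_le_left)
    have hcomm : ∀ e ∈ E, ∀ f ∈ F, ⁅e, f⁆ ∈ pCoreOf p F := by
      intro e he
      have hc : ∀ f ∈ F, ⁅e, f⁆ ∈ D := fun f hf => Subgroup.mem_inf.2 ⟨by
        rw [commutatorElement_def, show e * f * e⁻¹ * f⁻¹ = e * (f * e⁻¹ * f⁻¹) by group]
        exact mul_mem he ((Subgroup.mem_normalizer_iff.1 (hFE hf) _).1 (inv_mem he)), by
        rw [commutatorElement_def]
        exact mul_mem ((Subgroup.mem_normalizer_iff.1 (hEF he) _).1 hf) (inv_mem hf)⟩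
      haveI : (pCore p F).Normal := CfsgLib.Constrained.instNormalPCore p
      have hq : ∀ x : F, (x : G) ∈ pCoreOf p F → (x : F ⧸ pCore p F) = 1 := fun x hx => by
        obtain ⟨y, hy, hyx⟩ := hx
        exact (QuotientGroup.eq_one_iff x).2 (F.subtype_injective hyx ▸ hy)
      let θ : F →* F ⧸ pCore p F := MonoidHom.mk' (fun f => ((⟨⁅e, (f : G)⁆, (hc f f.2).2⟩ : F) : F ⧸ pCore p F))
        (fun f g => by
          have hc' : ⁅(⟨⁅e, (g : G)⁆, (hc g g.2).2⟩ : F), f⁆ ∈ pCore p F :=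
            (QuotientGroup.eq_one_iff _).1 (hq _ (hP.central D inf_le_right hDn hDne _ (hc g g.2) f f.2))
          have h1 : (⟨⁅e, ((f * g : F) : G)⁆, (hc _ (f * g).2).2⟩ : F) =
              ⟨⁅e, (f : G)⁆, (hc f f.2).2⟩ * (f * ⟨⁅e, (g : G)⁆, (hc g g.2).2⟩ * f⁻¹) := Subtype.ext (by
            simp only [Subgroup.coe_mul, Subgroup.coe_inv, commutatorElement_def]; group)
          have h3 : ((⁅(⟨⁅e, (g : G)⁆, (hc g g.2).2⟩ : F), f⁆ : F) : F ⧸ pCore p F) = 1 :=
            (QuotientGroup.eq_one_iff _).2 hc'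
          rw [← QuotientGroup.mk'_apply, map_commutatorElement, commutatorElement_eq_one_iff_mul_comm,
            QuotientGroup.mk'_apply, QuotientGroup.mk'_apply] at h3
          rw [h1, QuotientGroup.mk_mul, QuotientGroup.mk_mul, QuotientGroup.mk_mul, QuotientGroup.mk_inv, ← h3,
            mul_inv_cancel_right])
      intro f hf
      have hker : commutator F ≤ θ.ker := Subgroup.commutator_le.2 fun x _ y _ => by
        rw [MonoidHom.mem_ker, map_commutatorElement]
        show ⁅((⟨⁅e, (x : G)⁆, _⟩ : F) : F ⧸ pCore p F), ((⟨⁅e, (y : G)⁆, _⟩ : F) : F ⧸ pCore p F)⁆ = 1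
        rw [← QuotientGroup.mk'_apply, ← QuotientGroup.mk'_apply, ← map_commutatorElement]
        exact hq _ (((kind_cases hF).2 D inf_le_right hDn hDne).1 _ (hc x x.2) _ (hc y y.2))
      have hmem : (⟨f, hf⟩ : F) ∈ commutator F := by
        have h : f ∈ (commutator F).map F.subtype := by
          rw [commutator_def, Subgroup.map_commutator, ← MonoidHom.range_eq_map, Subgroup.range_subtype, hP.perfect]
          exact hf
        obtain ⟨y, hy, hyx⟩ := h
        exact (show y = ⟨f, hf⟩ from F.subtype_injective hyx) ▸ hy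
      have := hker hmem
      exact ⟨_, (QuotientGroup.eq_one_iff _).1 this, rfl⟩
    have hon : ∀ e ∈ E, CommOn p F e := fun e he =>
      commOn_of_comm_mem (normalizer_le_normalizer_blockMod (hEF he)) hF.facts.normU fun f hf => by
        rw [← commutatorElement_inv]
        exact inv_mem (pCoreOf_le_centralizer hF (hcomm e he f hf))
    rcases (kind_cases hE).1 with hPE | hSE
    · conv_lhs => rw [← hPE.perfect]
      exact Subgroup.commutator_le.2 fun a ha b hb => commutator_centralizes hF (hon a ha) (hon b hb)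
    set U₁ := ⁅blockMod p F, E⁆ with hU₁
    have hU₁le : U₁ ≤ blockMod p F := Subgroup.commutator_le.2 fun u hu e he => by
      rw [commutatorElement_def, show u * e * u⁻¹ * e⁻¹ = u * (e * u⁻¹ * e⁻¹) by group]
      exact mul_mem hu ((Subgroup.mem_normalizer_iff.1 (hon e he).1 _).1 (inv_mem hu))
    have hU₁n : F ≤ Subgroup.normalizer (U₁ : Set G) := fun f hf => by
      rw [Subgroup.mem_normalizer_iff_map_conj_eq, hU₁, Subgroup.map_commutator,
        Subgroup.mem_normalizer_iff_map_conj_eq.1 (hF.facts.normU hf),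
        Subgroup.mem_normalizer_iff_map_conj_eq.1 (hFE hf)]
    rcases hF.facts.irr U₁ hU₁n hU₁le with h | h
    · intro e he
      refine centralizes_of_trivial_mod hF (hon e he) fun u hu => ?_
      have := inv_mem (h (Subgroup.commutator_mem_commutator hu he))
      rwa [commutatorElement_inv, commutatorElement_def] at this
    · exfalso
      have hle : blockMod p F ≤ blockMod p E := h.symm.le.trans (Subgroup.commutator_mono hF.facts.le_V le_rfl)
      have := Subgroup.card_le_of_le hle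
      have := card_small_lt hSE hP
      omega
  rcases (kind_cases hbF).1 with hP | hSF
  · have h := hperf E F hbE hbF hEF hFE hnF hP
    exact ⟨hone E F hbE hbF hEF hFE h, h⟩
  rcases (kind_cases hbE).1 with hP | hSE
  · have h := hperf F E hbF hbE hFE hEF hnE hP
    exact ⟨h, hone F E hbF hbE hFE hEF h⟩
  by_cases hc : F ≤ Subgroup.centralizer (blockMod p E : Set G)
  · exact ⟨hc, hone F E hbF hbE hFE hEF hc⟩
  exfalso
  have hFn : F ≤ Subgroup.normalizer (blockMod p E : Set G) := hFE.trans normalizer_le_normalizer_blockMod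
  set U₁ := ⁅blockMod p E, F⁆ with hU₁
  have hle : U₁ ≤ blockMod p E := Subgroup.commutator_le.2 fun u hu f hf => by
    rw [commutatorElement_def, show u * f * u⁻¹ * f⁻¹ = u * (f * u⁻¹ * f⁻¹) by group]
    exact mul_mem hu ((Subgroup.mem_normalizer_iff.1 (hFn hf) _).1 (inv_mem hu))
  have hn : E ≤ Subgroup.normalizer (U₁ : Set G) := fun e he => by
    rw [Subgroup.mem_normalizer_iff_map_conj_eq, hU₁, Subgroup.map_commutator,
      Subgroup.mem_normalizer_iff_map_conj_eq.1 (hbE.facts.normU he),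
      Subgroup.mem_normalizer_iff_map_conj_eq.1 (hEF he)]
  have hUF : blockMod p E ≤ blockMod p F := by
    rcases hbE.facts.irr U₁ hn hle with h | h
    · refine absurd (fun f hf => Subgroup.mem_centralizer_iff.2 fun u hu => ?_) hc
      exact commutatorElement_eq_one_iff_mul_comm.1 (hSE.inf_bot _
        (hle (Subgroup.commutator_mem_commutator hu hf)) (h (Subgroup.commutator_mem_commutator hu hf)))
    · exact h.symm.le.trans (Subgroup.commutator_mono hbE.facts.le_V le_rfl)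
  have hUeq : blockMod p E = blockMod p F :=
    Subgroup.eq_of_le_of_card_ge hUF (by rw [hSE.card_eq, hSF.card_eq])
  obtain ⟨-, T, hT⟩ := id hbE
  obtain ⟨-, T', hT'⟩ := id hbF
  have hsame : ∀ f ∈ F, ∃ e ∈ E, ∀ u ∈ blockMod p E, f * u * f⁻¹ = e * u * e⁻¹ := by
    let S : Subgroup G :=
      { carrier := {g | g ∈ Subgroup.normalizer (blockMod p E : Set G) ∧
          ∃ e ∈ E, ∀ u ∈ blockMod p E, g * u * g⁻¹ = e * u * e⁻¹}
        one_mem' := ⟨one_mem _, 1, one_mem _, fun _ _ => rfl⟩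
        mul_mem' := by
          rintro g h ⟨hg, e, he, hge⟩ ⟨hh, e', he', hhe⟩
          refine ⟨mul_mem hg hh, e * e', mul_mem he he', fun u hu => ?_⟩
          calc g * h * u * (g * h)⁻¹ = g * (h * u * h⁻¹) * g⁻¹ := by group
            _ = e * (e' * u * e'⁻¹) * e⁻¹ := by
              rw [hhe u hu, hge _ ((Subgroup.mem_normalizer_iff.1 (hbE.facts.normU he') u).1 hu)]
            _ = _ := by group
        inv_mem' := by
          rintro g ⟨hg, e, he, hge⟩
          refine ⟨inv_mem hg, e⁻¹, inv_mem he, fun u hu => ?_⟩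
          have hu' : e⁻¹ * u * e ∈ blockMod p E := by
            simpa using (Subgroup.mem_normalizer_iff.1 (hbE.facts.normU (inv_mem he)) u).1 hu
          have h1 := hge _ hu'
          rw [show e * (e⁻¹ * u * e) * e⁻¹ = u by group] at h1
          rw [inv_inv, inv_inv]
          nth_rw 1 [← h1]
          group }
    suffices hFS : F ≤ S from fun f hf => (hFS hf).2
    have hQS : pCoreOf p F ≤ S := fun q hq => ⟨hFn (pCoreOf_le F hq), 1, one_mem _, fun u hu => by
      rw [mem_Q_conj_eq hbF hq (hUeq ▸ hu)]; group⟩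
    rcases hSF.kind with ⟨h2, hcube⟩ | ⟨h3, -, hgen⟩
    · intro f hf
      refine ⟨hFn hf, hSE.same f (hFn hf) (Or.inl ⟨h2, ?_⟩)⟩
      rw [hUeq]
      exact pCoreOf_le_centralizer hbF (hcube f hf)
    · refine hgen.trans ((Subgroup.closure_le _).2 ?_)
      rintro f (⟨hf, hff⟩ | hf)
      · exact ⟨hFn hf, hSE.same f (hFn hf) (Or.inr ⟨h3, fun u hu => hff u (hUeq ▸ hu)⟩)⟩
      · exact hQS hf
  refine hnF (le_of_same_action hbE hbF T T' hT hT' hFE hUeq hsame (Or.inr fun h3 => ?_))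
  obtain ⟨-, ⟨a, ha, b, hb, hinv⟩, -⟩ := hSF.kind.resolve_left fun h => by omega
  obtain ⟨e, he, hae⟩ := hsame a ha
  refine ⟨⁅e, b⁆, Subgroup.mem_inf.2 ⟨?_, ?_⟩, fun u hu => ?_⟩
  · rw [commutatorElement_def, show e * b * e⁻¹ * b⁻¹ = e * (b * e⁻¹ * b⁻¹) by group]
    exact mul_mem he ((Subgroup.mem_normalizer_iff.1 (hFE hb) _).1 (inv_mem he))
  · rw [commutatorElement_def]
    exact mul_mem ((Subgroup.mem_normalizer_iff.1 (hEF he) _).1 hb) (inv_mem hb)
  · rw [← hinv u (hUeq ▸ hu)]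
    have hae' : ∀ w ∈ blockMod p E, e⁻¹ * w * e = a⁻¹ * w * a := fun w hw => by
      have hw' : e⁻¹ * w * e ∈ blockMod p E := by
        simpa using (Subgroup.mem_normalizer_iff.1 (hbE.facts.normU (inv_mem he)) w).1 hw
      have h1 := hae _ hw'
      rw [show e * (e⁻¹ * w * e) * e⁻¹ = w by group] at h1
      nth_rw 2 [← h1]
      group
    have m1 : b⁻¹ * u * b ∈ blockMod p E := by
      simpa using (Subgroup.mem_normalizer_iff.1 (inv_mem (hFn hb)) u).1 hu
    have m2 : a⁻¹ * (b⁻¹ * u * b) * a ∈ blockMod p E := by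
      simpa using (Subgroup.mem_normalizer_iff.1 (inv_mem (hFn ha)) _).1 m1
    have m3 : b * (a⁻¹ * (b⁻¹ * u * b) * a) * b⁻¹ ∈ blockMod p E := (Subgroup.mem_normalizer_iff.1 (hFn hb) _).1 m2
    calc ⁅e, b⁆ * u * ⁅e, b⁆⁻¹ = e * (b * (e⁻¹ * (b⁻¹ * u * b) * e) * b⁻¹) * e⁻¹ := by
          rw [commutatorElement_def]; group
      _ = e * (b * (a⁻¹ * (b⁻¹ * u * b) * a) * b⁻¹) * e⁻¹ := by rw [hae' _ m1]
      _ = a * (b * (a⁻¹ * (b⁻¹ * u * b) * a) * b⁻¹) * a⁻¹ := (hae _ m3).symm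
      _ = _ := by rw [commutatorElement_def]; group

/-- Distinct commuting behaviour of a pair. -/
def Sep (p : ℕ) (E F : Subgroup G) : Prop :=
  ⁅E, F⁆ = ⊥ ∧ F ≤ Subgroup.centralizer (blockMod p E : Set G) ∧ E ≤ Subgroup.centralizer (blockMod p F : Set G)

/-- An element of the join of separated blocks acts on the module of `E` as an element of `E`. -/
def actsAsE (hb : IsBlock p E) : Subgroup G where
  carrier := {g | g ∈ Subgroup.normalizer (blockMod p E : Set G) ∧
    ∃ e ∈ E, ∀ u ∈ blockMod p E, g * u * g⁻¹ = e * u * e⁻¹}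
  one_mem' := ⟨one_mem _, 1, one_mem _, fun _ _ => rfl⟩
  mul_mem' := by
    rintro g h ⟨hg, e, he, hge⟩ ⟨hh, e', he', hhe⟩
    refine ⟨mul_mem hg hh, e * e', mul_mem he he', fun u hu => ?_⟩
    calc g * h * u * (g * h)⁻¹ = g * (h * u * h⁻¹) * g⁻¹ := by group
      _ = e * (e' * u * e'⁻¹) * e⁻¹ := by
        rw [hhe u hu, hge _ ((Subgroup.mem_normalizer_iff.1 (hb.facts.normU he') u).1 hu)]
      _ = _ := by group
  inv_mem' := by
    rintro g ⟨hg, e, he, hge⟩
    refine ⟨inv_mem hg, e⁻¹, inv_mem he, fun u hu => ?_⟩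
    have hu' : e⁻¹ * u * e ∈ blockMod p E := by
      simpa using (Subgroup.mem_normalizer_iff.1 (hb.facts.normU (inv_mem he)) u).1 hu
    have h1 := hge _ hu'
    rw [show e * (e⁻¹ * u * e) * e⁻¹ = u by group] at h1
    rw [inv_inv, inv_inv]
    nth_rw 1 [← h1]
    group

/-- Subnormal blocks are equal or separated. -/
theorem eq_or_sep : ∀ (n : ℕ) (E F : Subgroup G), Nat.card (E ⊔ F : Subgroup G) ≤ n → IsBlock p E → IsBlock p F →
    E.IsSubnormal → F.IsSubnormal → E ≠ F → Sep p E F := by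
  intro n
  induction n using Nat.strong_induction_on with
  | _ n ih =>
  intro E F hn hbE hbF hEs hFs hne
  have hnE := not_le_of_subnormal hbE hbF hEs hne
  have hnF := not_le_of_subnormal hbF hbE hFs (Ne.symm hne)
  set X := E ⊔ F with hX
  -- the normal closures
  let cl : Subgroup G → Subgroup G := fun A => ⨆ x : X, A.map (MulAut.conj (x : G)).toMonoidHom
  have hmem : ∀ A, A ≤ cl A := fun A a ha =>
    le_iSup (fun x : X => A.map (MulAut.conj (x : G)).toMonoidHom) 1 ⟨a, ha, by simp⟩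
  have hclN : ∀ A, X ≤ Subgroup.normalizer (cl A : Set G) := by
    intro A g hg
    have key : ∀ g ∈ X, (cl A).map (MulAut.conj g).toMonoidHom ≤ cl A := by
      intro g hg
      rw [Subgroup.map_iSup]
      refine iSup_le fun x => le_trans ?_ (le_iSup _ (⟨g, hg⟩ * x))
      rw [Subgroup.map_map]
      rintro _ ⟨a, ha, rfl⟩
      exact ⟨a, ha, by simp [mul_assoc]⟩
    rw [Subgroup.mem_normalizer_iff]
    refine fun y => ⟨fun hy => key g hg ⟨y, hy, rfl⟩, fun hy => ?_⟩
    have := key g⁻¹ (inv_mem hg) ⟨_, hy, rfl⟩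
    simpa [mul_assoc] using this
  have hprop : ∀ A, A ≤ X → A.IsSubnormal → A ≠ X → cl A < X := by
    intro A hA hAs hne'
    rcases (hAs.subgroupOf (H := A) (K := X)).lt_normal with h | ⟨K, hKn, hAK, hlt⟩
    · exact absurd (le_antisymm hA (Subgroup.subgroupOf_eq_top.1 h)) hne'
    refine lt_of_le_of_lt (iSup_le fun x => ?_) (show K.map X.subtype < X from ?_)
    · rintro _ ⟨a, ha, rfl⟩
      exact ⟨_, hKn.conj_mem _ (hAK (show (⟨a, hA ha⟩ : X) ∈ A.subgroupOf X from ha)) x, rfl⟩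
    · refine lt_of_le_of_ne (Subgroup.map_subtype_le K) fun h => hlt.ne (eq_top_iff.2 fun x _ => ?_)
      obtain ⟨y, hy, hyx⟩ : (x : G) ∈ K.map X.subtype := by rw [h]; exact x.2
      exact (X.subtype_injective hyx) ▸ hy
  -- members of the same orbit
  have horb : ∀ A, A ≤ X → A.IsSubnormal → A ≠ X → IsBlock p A → ∀ x ∈ X, ∀ y ∈ X,
      A.map (MulAut.conj x).toMonoidHom ≠ A.map (MulAut.conj y).toMonoidHom →
      Sep p (A.map (MulAut.conj x).toMonoidHom) (A.map (MulAut.conj y).toMonoidHom) := by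
    intro A hA hAs hne' hbA x hx y hy hxy
    have hlt := hprop A hA hAs hne'
    have hcard : Nat.card (cl A) < n := lt_of_lt_of_le
      (lt_of_le_of_ne (Subgroup.card_le_of_le hlt.le)
        fun h => hlt.ne (Subgroup.eq_of_le_of_card_ge hlt.le h.ge)) hn
    exact ih _ hcard _ _ (Subgroup.card_le_of_le (sup_le (le_iSup (fun x : X => A.map (MulAut.conj (x : G)).toMonoidHom) ⟨x, hx⟩)
      (le_iSup (fun x : X => A.map (MulAut.conj (x : G)).toMonoidHom) ⟨y, hy⟩)))
      (hbA.conj x) (hbA.conj y) (hAs.map (f := (MulAut.conj x).toMonoidHom) (MulAut.conj x).surjective)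
      (hAs.map (f := (MulAut.conj y).toMonoidHom) (MulAut.conj y).surjective) hxy
  have hEX : E ≤ X := le_sup_left
  have hFX : F ≤ X := le_sup_right
  have hEne : E ≠ X := fun h => hnF (hFX.trans h.ge)
  have hFne : F ≠ X := fun h => hnE (hEX.trans h.ge)
  -- members normalize each other
  have hnorm : ∀ A, A ≤ X → A.IsSubnormal → A ≠ X → IsBlock p A → cl A ≤ Subgroup.normalizer (A : Set G) := by
    intro A hA hAs hne' hbA
    refine iSup_le fun x => ?_
    by_cases h : A.map (MulAut.conj (x : G)).toMonoidHom = A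
    · rw [h]; exact Subgroup.le_normalizer
    have h1' : A.map (MulAut.conj (1 : G)).toMonoidHom = A := by rw [map_one]; exact Subgroup.map_id A
    have hs := (horb A hA hAs hne' hbA x x.2 1 (one_mem _) (by rw [h1']; exact h)).1
    rw [h1', Subgroup.commutator_eq_bot_iff_le_centralizer] at hs
    exact hs.trans (Subgroup.centralizer_le_normalizer _)
  suffices hmut : ∀ (E F : Subgroup G), E ⊔ F = X → IsBlock p E → IsBlock p F → E.IsSubnormal → F.IsSubnormal →
      E ≠ X → F ≠ X → F ≤ Subgroup.normalizer (E : Set G) by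
    have hFE := hmut E F rfl hbE hbF hEs hFs hEne hFne
    have hEF := hmut F E (sup_comm _ _) hbF hbE hFs hEs hFne hEne
    obtain ⟨h1, h2⟩ := central_of_mutual hbE hbF hEF hFE hnE hnF
    exact ⟨comm_of_central hbE hbF hEF hFE h1 h2, h1, h2⟩
  intro E F hXeq hbE hbF hEs hFs hEne hFne
  have hEX : E ≤ X := hXeq ▸ le_sup_left
  have hFX : F ≤ X := hXeq ▸ le_sup_right
  by_contra hmove
  obtain ⟨f, hf, hfE⟩ := Set.not_subset.1 hmove
  set N := cl E with hN
  have hE2 : E.map (MulAut.conj f).toMonoidHom ≠ E := fun h =>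
    hfE (Subgroup.mem_normalizer_iff_map_conj_eq.2 h)
  have hone : E.map (MulAut.conj (1 : G)).toMonoidHom = E := by rw [map_one]; exact Subgroup.map_id E
  have hsep : ∀ x ∈ X, E.map (MulAut.conj x).toMonoidHom ≠ E → Sep p E (E.map (MulAut.conj x).toMonoidHom) := by
    intro x hx h
    have := horb E hEX hEs hEne hbE 1 (one_mem _) x hx (by rw [hone]; exact Ne.symm h)
    rwa [hone] at this
  obtain ⟨hc2, hE2U, hEU2⟩ := hsep f (hFX hf) hE2
  by_cases hEN : E ≤ Subgroup.normalizer (F : Set G)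
  · -- only `E` moves
    set M := F ⊓ N with hM
    have hMn : F ≤ Subgroup.normalizer (M : Set G) := fun x hx => by
      rw [Subgroup.mem_normalizer_iff_map_conj_eq, hM, Subgroup.map_inf _ _ _ (MulAut.conj x).injective,
        Subgroup.mem_normalizer_iff_map_conj_eq.1 (Subgroup.le_normalizer hx),
        Subgroup.mem_normalizer_iff_map_conj_eq.1 (hclN E (hFX hx))]
    have hMne : M ≠ F := fun h => hfE (hnorm E hEX hEs hEne hbE ((h.ge hf).2))
    obtain ⟨hMc, hM2⟩ := (kind_cases hbF).2 M inf_le_left hMn hMne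
    have hNS : N ≤ actsAsE hbE := by
      refine iSup_le fun x => ?_
      by_cases h : E.map (MulAut.conj (x : G)).toMonoidHom = E
      · rw [h]
        exact fun e he => ⟨hbE.facts.normU he, e, he, fun _ _ => rfl⟩
      · intro y hy
        have hyc := (hsep x x.2 h).2.1 hy
        exact ⟨Subgroup.centralizer_le_normalizer _ hyc, 1, one_mem _, fun u hu => by
          rw [← Subgroup.mem_centralizer_iff.1 hyc u hu]; group⟩
    have hm : ∀ e ∈ E, ⁅e, f⁆ ∈ M ∧ ∀ u ∈ blockMod p E, ⁅e, f⁆ * u * ⁅e, f⁆⁻¹ = e * u * e⁻¹ := by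
      intro e he
      refine ⟨Subgroup.mem_inf.2 ⟨?_, ?_⟩, fun u hu => ?_⟩
      · rw [commutatorElement_def]
        exact mul_mem ((Subgroup.mem_normalizer_iff.1 (hEN he) _).1 hf) (inv_mem hf)
      · rw [commutatorElement_def, show e * f * e⁻¹ * f⁻¹ = e * (f * e⁻¹ * f⁻¹) by group]
        exact mul_mem (hmem E he) ((Subgroup.mem_normalizer_iff.1 (hclN E (hFX hf)) _).1 (inv_mem (hmem E he)))
      · have h2 : f * e⁻¹ * f⁻¹ * u * (f * e⁻¹ * f⁻¹)⁻¹ = u := by
          rw [← Subgroup.mem_centralizer_iff.1 (hE2U ⟨e⁻¹, inv_mem he, rfl⟩ : f * e⁻¹ * f⁻¹ ∈ _) u hu,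
            mul_inv_cancel_right]
        calc ⁅e, f⁆ * u * ⁅e, f⁆⁻¹ = e * (f * e⁻¹ * f⁻¹ * u * (f * e⁻¹ * f⁻¹)⁻¹) * e⁻¹ := by
              rw [commutatorElement_def]; group
          _ = _ := by rw [h2]
    -- the elements acting as elements of `M ∩ O_p(F)`
    let L : Subgroup G :=
      { carrier := {e | e ∈ E ∧ ∃ m ∈ M ⊓ pCoreOf p F, ∀ u ∈ blockMod p E, e * u * e⁻¹ = m * u * m⁻¹}
        one_mem' := ⟨one_mem _, 1, one_mem _, fun _ _ => rfl⟩
        mul_mem' := by
          rintro a b ⟨ha, m, hm', hma⟩ ⟨hb, m', hm'', hmb⟩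
          refine ⟨mul_mem ha hb, m * m', mul_mem hm' hm'', fun u hu => ?_⟩
          calc a * b * u * (a * b)⁻¹ = a * (b * u * b⁻¹) * a⁻¹ := by group
            _ = m * (b * u * b⁻¹) * m⁻¹ := hma _ ((Subgroup.mem_normalizer_iff.1 (hbE.facts.normU hb) u).1 hu)
            _ = _ := by rw [hmb u hu]; group
        inv_mem' := by
          rintro a ⟨ha, m, hm', hma⟩
          refine ⟨inv_mem ha, m⁻¹, inv_mem hm', fun u hu => ?_⟩
          have hu' : a⁻¹ * u * a ∈ blockMod p E := by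
            simpa using (Subgroup.mem_normalizer_iff.1 (hbE.facts.normU (inv_mem ha)) u).1 hu
          have h1 := hma _ hu'
          rw [show a * (a⁻¹ * u * a) * a⁻¹ = u by group] at h1
          rw [inv_inv, inv_inv]
          nth_rw 2 [h1]
          group }
    have hLn : E ≤ Subgroup.normalizer (L : Set G) := by
      have key : ∀ e₀ ∈ E, ∀ e ∈ L, e₀ * e * e₀⁻¹ ∈ L := by
        rintro e₀ he₀ e ⟨he, m, hm', hme⟩
        obtain ⟨hm₀, hact₀⟩ := hm e₀ he₀
        refine ⟨mul_mem (mul_mem he₀ he) (inv_mem he₀), ⁅e₀, f⁆ * m * ⁅e₀, f⁆⁻¹, Subgroup.mem_inf.2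
          ⟨mul_mem (mul_mem hm₀ hm'.1) (inv_mem hm₀),
            (Subgroup.mem_normalizer_iff.1 (le_normalizer_pCoreOf F hm₀.1) _).1 hm'.2⟩, fun u hu => ?_⟩
        set g := ⁅e₀, f⁆ with hg
        have hu₁ : e₀⁻¹ * u * e₀ ∈ blockMod p E := by
          simpa using (Subgroup.mem_normalizer_iff.1 (hbE.facts.normU (inv_mem he₀)) u).1 hu
        have hginv : g⁻¹ * u * g = e₀⁻¹ * u * e₀ := by
          have h1 := hact₀ _ hu₁
          rw [show e₀ * (e₀⁻¹ * u * e₀) * e₀⁻¹ = u by group] at h1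
          nth_rw 1 [← h1]
          group
        have hm₂ : m * (e₀⁻¹ * u * e₀) * m⁻¹ ∈ blockMod p E :=
          hme _ hu₁ ▸ (Subgroup.mem_normalizer_iff.1 (hbE.facts.normU he) _).1 hu₁
        calc e₀ * e * e₀⁻¹ * u * (e₀ * e * e₀⁻¹)⁻¹ = e₀ * (e * (e₀⁻¹ * u * e₀) * e⁻¹) * e₀⁻¹ := by group
          _ = e₀ * (m * (e₀⁻¹ * u * e₀) * m⁻¹) * e₀⁻¹ := by rw [hme _ hu₁]
          _ = g * (m * (g⁻¹ * u * g) * m⁻¹) * g⁻¹ := by rw [hginv, hact₀ _ hm₂]
          _ = _ := by group
      intro e₀ he₀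
      rw [Subgroup.mem_normalizer_iff]
      exact fun e => ⟨key e₀ he₀ e, fun h => by simpa [mul_assoc] using key e₀⁻¹ (inv_mem he₀) _ h⟩
    have hLp : IsPGroup p L := CfsgLib.LocalP.isPGroup_of_forall_coprime _ fun x hx hcop => by
      obtain ⟨hxE, m, hm', hxm⟩ := hx
      refine CfsgLib.LocalP.eq_one_of_mem_of_coprime (isPGroup_pCoreOf E)
        (mem_pCoreOf_of_centralizes hbE hxE (Subgroup.mem_centralizer_iff.2 fun u hu => ?_)) hcop
      obtain ⟨k, hk⟩ := isPGroup_pCoreOf (p := p) F ⟨m, hm'.2⟩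
      have hk' : m ^ p ^ k = 1 := congrArg Subtype.val hk
      have hstep : ∀ j, ∀ u ∈ blockMod p E, x ^ j * u * (x ^ j)⁻¹ = m ^ j * u * (m ^ j)⁻¹ := by
        intro j
        induction j with
        | zero => intro u _; simp
        | succ j ih =>
          intro u hu
          calc x ^ (j + 1) * u * (x ^ (j + 1))⁻¹ = x * (x ^ j * u * (x ^ j)⁻¹) * x⁻¹ := by rw [pow_succ']; group
            _ = m * (x ^ j * u * (x ^ j)⁻¹) * m⁻¹ := hxm _
                ((Subgroup.mem_normalizer_iff.1 (hbE.facts.normU (pow_mem hxE j)) u).1 hu)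
            _ = m ^ (j + 1) * u * (m ^ (j + 1))⁻¹ := by rw [ih u hu, pow_succ']; group
      have hfix : x ^ p ^ k ∈ Subgroup.centralizer ({u} : Set G) := by
        refine Subgroup.mem_centralizer_singleton_iff.2 (mul_inv_eq_iff_eq_mul.1 ?_)
        rw [hstep _ u hu, hk', one_mul, inv_one, mul_one]
      obtain ⟨j, hj⟩ := exists_pow_eq_self_of_coprime (hcop.pow_right k).symm
      have := pow_mem hfix j
      rw [hj] at this
      exact (Subgroup.mem_centralizer_singleton_iff.1 this).symm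
    have hLQ : L ≤ pCoreOf p E := le_pCoreOf (fun x hx => hx.1) hLn hLp
    by_cases hp2 : p = 2
    · refine not_le_pgroup hbE (isPGroup_pCoreOf E) fun e he => hLQ ⟨he, ⁅e, f⁆,
        Subgroup.mem_inf.2 ⟨(hm e he).1, hM2 hp2 (hm e he).1⟩, fun u hu => ((hm e he).2 u hu).symm⟩
    refine commutator_not_le_Q hbE hp2 (Subgroup.commutator_le.2 fun a ha b hb => hLQ ?_)
    obtain ⟨ha1, ha2⟩ := hm a ha
    obtain ⟨hb1, hb2⟩ := hm b hb
    refine ⟨?_, ⁅⁅a, f⁆, ⁅b, f⁆⁆, Subgroup.mem_inf.2 ⟨?_, hMc _ ha1 _ hb1⟩, fun u hu => ?_⟩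
    · rw [commutatorElement_def]; exact mul_mem (mul_mem (mul_mem ha hb) (inv_mem ha)) (inv_mem hb)
    · rw [commutatorElement_def]; exact mul_mem (mul_mem (mul_mem ha1 hb1) (inv_mem ha1)) (inv_mem hb1)
    · set x := ⁅a, f⁆ with hx
      set y := ⁅b, f⁆ with hy
      have hUn : ∀ g ∈ E, ∀ w ∈ blockMod p E, g * w * g⁻¹ ∈ blockMod p E := fun g hg w hw =>
        (Subgroup.mem_normalizer_iff.1 (hbE.facts.normU hg) w).1 hw
      have hinv : ∀ (a' x' : G), a' ∈ E → (∀ w ∈ blockMod p E, x' * w * x'⁻¹ = a' * w * a'⁻¹) →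
          ∀ w ∈ blockMod p E, x'⁻¹ * w * x' = a'⁻¹ * w * a' := fun a' x' ha' h w hw => by
        have hw' : a'⁻¹ * w * a' ∈ blockMod p E := by simpa using hUn a'⁻¹ (inv_mem ha') w hw
        have h1 := h _ hw'
        rw [show a' * (a'⁻¹ * w * a') * a'⁻¹ = w by group] at h1
        nth_rw 1 [← h1]
        group
      have m1 : b⁻¹ * u * b ∈ blockMod p E := by simpa using hUn b⁻¹ (inv_mem hb) u hu
      have m2 : a⁻¹ * (b⁻¹ * u * b) * a ∈ blockMod p E := by simpa using hUn a⁻¹ (inv_mem ha) _ m1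
      have m3 := hUn b hb _ m2
      calc ⁅a, b⁆ * u * ⁅a, b⁆⁻¹ = a * (b * (a⁻¹ * (b⁻¹ * u * b) * a) * b⁻¹) * a⁻¹ := by
            rw [commutatorElement_def]; group
        _ = x * (y * (x⁻¹ * (y⁻¹ * u * y) * x) * y⁻¹) * x⁻¹ := by
            rw [hinv b y hb hb2 u hu, hinv a x ha ha2 _ m1, hb2 _ m2, ha2 _ m3]
        _ = _ := by rw [commutatorElement_def]; group
  -- both move
  set N' := cl F with hN'
  have hM : ∀ e ∈ E, ∀ e' ∈ E, ⁅e, e'⁆ ∈ Subgroup.normalizer (F : Set G) := by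
    intro e he e' he'
    obtain ⟨g, hg⟩ : ∃ g, g = f * e' * f⁻¹ := ⟨_, rfl⟩
    have hgc : ⁅e, g⁆ = 1 := Subgroup.mem_bot.1
      (hc2 ▸ Subgroup.commutator_mem_commutator he (show g ∈ E.map (MulAut.conj f).toMonoidHom from ⟨e', he', by simp [hg]⟩))
    have hm' : g * e'⁻¹ ∈ N' := by
      rw [hg, show f * e' * f⁻¹ * e'⁻¹ = f * (e' * f⁻¹ * e'⁻¹) by group]
      exact mul_mem (hmem F hf) ((Subgroup.mem_normalizer_iff.1 (hclN F (hEX he')) _).1 (inv_mem (hmem F hf)))
    have h1 : ⁅e, e'⁆ = ⁅e, (g * e'⁻¹)⁻¹⁆ * ((g * e'⁻¹)⁻¹ * ⁅e, g⁆ * (g * e'⁻¹)) := by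
      simp only [commutatorElement_def]; group
    rw [h1, hgc, mul_one, inv_mul_cancel, mul_one]
    refine hnorm F hFX hFs hFne hbF ?_
    rw [commutatorElement_def]
    exact mul_mem ((Subgroup.mem_normalizer_iff.1 (hclN F (hEX he)) _).1 (inv_mem hm')) (inv_mem (inv_mem hm'))
  have hSE : Small p E := by
    refine (kind_cases hbE).1.resolve_left fun hP => hEN ?_
    conv_lhs => rw [← hP.perfect]
    exact Subgroup.commutator_le.2 hM
  have hSF : Small p F := by
    refine (kind_cases hbF).1.resolve_left fun hP => hmove ?_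
    conv_lhs => rw [← hP.perfect]
    refine Subgroup.commutator_le.2 fun a ha b hb => ?_
    -- the same argument with the roles exchanged
    obtain ⟨e, he, heF⟩ := Set.not_subset.1 hEN
    have hF2 : F.map (MulAut.conj e).toMonoidHom ≠ F := fun h =>
      heF (Subgroup.mem_normalizer_iff_map_conj_eq.2 h)
    have hone' : F.map (MulAut.conj (1 : G)).toMonoidHom = F := by rw [map_one]; exact Subgroup.map_id F
    have hs := horb F hFX hFs hFne hbF 1 (one_mem _) e (hEX he) (by rw [hone']; exact Ne.symm hF2)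
    rw [hone'] at hs
    obtain ⟨g, hg⟩ : ∃ g, g = e * b * e⁻¹ := ⟨_, rfl⟩
    have hgc : ⁅a, g⁆ = 1 := Subgroup.mem_bot.1
      (hs.1 ▸ Subgroup.commutator_mem_commutator ha (show g ∈ F.map (MulAut.conj e).toMonoidHom from ⟨b, hb, by simp [hg]⟩))
    have hm' : g * b⁻¹ ∈ N := by
      rw [hg, show e * b * e⁻¹ * b⁻¹ = e * (b * e⁻¹ * b⁻¹) by group]
      exact mul_mem (hmem E he) ((Subgroup.mem_normalizer_iff.1 (hclN E (hFX hb)) _).1 (inv_mem (hmem E he)))
    have h1 : ⁅a, b⁆ = ⁅a, (g * b⁻¹)⁻¹⁆ * ((g * b⁻¹)⁻¹ * ⁅a, g⁆ * (g * b⁻¹)) := by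
      simp only [commutatorElement_def]; group
    rw [h1, hgc, mul_one, inv_mul_cancel, mul_one]
    refine hnorm E hEX hEs hEne hbE ?_
    rw [commutatorElement_def]
    exact mul_mem ((Subgroup.mem_normalizer_iff.1 (hclN E (hFX ha)) _).1 (inv_mem hm')) (inv_mem (inv_mem hm'))
  have hQFN : pCoreOf p F ≤ Subgroup.normalizer (E : Set G) := (pCoreOf_le_O hFs).trans hbE.facts.O_le
  obtain ⟨g, hgF, hgE, hkind⟩ : ∃ g ∈ F, g ∉ Subgroup.normalizer (E : Set G) ∧
      (g ^ 3 ∈ Subgroup.normalizer (E : Set G) ∨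
        p = 3 ∧ ∀ u ∈ blockMod p F, g * g * u * (g * g)⁻¹ = u⁻¹) := by
    rcases hSF.kind with ⟨-, hcube⟩ | ⟨h3, -, hgen⟩
    · exact ⟨f, hf, hfE, Or.inl (hQFN (hcube f hf))⟩
    by_contra hall
    push Not at hall
    refine hmove (hgen.trans ((Subgroup.closure_le _).2 ?_))
    rintro x (⟨hx, hxx⟩ | hx)
    · by_contra hxE
      obtain ⟨u, hu, hne'⟩ := (hall x hx hxE).2 h3
      exact hne' (hxx u hu)
    · exact hQFN hx
  clear hM hc2 hE2U hEU2 hE2 hfE hf
  set U := blockMod p E with hU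
  set E₂ := E.map (MulAut.conj g).toMonoidHom with hE₂
  set E₃ := E₂.map (MulAut.conj g).toMonoidHom with hE₃
  have hg2 : E₂ ≠ E := fun h => hgE (Subgroup.mem_normalizer_iff_map_conj_eq.2 h)
  obtain ⟨-, -, hEU2⟩ := hsep g (hFX hgF) hg2
  have hE3eq : E₃ = E.map (MulAut.conj (g * g)).toMonoidHom := by
    rw [hE₃, hE₂, Subgroup.map_map]; congr 1; ext y; simp
  set U₂ := U.map (MulAut.conj g).toMonoidHom with hU₂
  have hU₂eq : blockMod p E₂ = U₂ := by rw [hE₂, hU₂, hU, map_blockMod]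
  rw [hU₂eq] at hEU2
  have hfix : ∀ u₁ ∈ U, ∀ u₂ ∈ U₂, g * (u₁ * u₂) * g⁻¹ = u₁ * u₂ → u₁ = 1 ∧ u₂ = 1 := by
    intro u₁ hu₁ u₂ hu₂ heq
    obtain ⟨a, ha, hau⟩ := hu₂
    have hau' : g * a * g⁻¹ = u₂ := hau
    have hu₁' : g * u₁ * g⁻¹ ∈ U₂ := ⟨u₁, hu₁, rfl⟩
    have hu₂c : u₂ ∈ Subgroup.centralizer (E : Set G) := Subgroup.mem_centralizer_iff.2 fun e he =>
      (Subgroup.mem_centralizer_iff.1 (hEU2 he) u₂ ⟨a, ha, hau⟩).symm
    have hu₁c : g * u₁ * g⁻¹ ∈ Subgroup.centralizer (E : Set G) := Subgroup.mem_centralizer_iff.2 fun e he =>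
      (Subgroup.mem_centralizer_iff.1 (hEU2 he) _ hu₁').symm
    by_cases h3 : E₃ = E
    · have hgg : g * g ∈ Subgroup.normalizer (E : Set G) :=
        Subgroup.mem_normalizer_iff_map_conj_eq.2 (hE3eq ▸ h3)
      rcases hkind with hk | ⟨hp3, hk⟩
      · exfalso
        refine hgE ?_
        have := mul_mem (inv_mem hgg) hk
        rwa [pow_succ, pow_two, inv_mul_cancel_left] at this
      -- the components are exchanged
      have hu₂' : g * u₂ * g⁻¹ ∈ U := by
        rw [← hau']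
        have := (Subgroup.mem_normalizer_iff.1 (normalizer_le_normalizer_blockMod (p := p) hgg) a).1 ha
        simpa [mul_assoc] using this
      have hcomm : Commute (g * u₁ * g⁻¹) (g * u₂ * g⁻¹) :=
        omegaOneCenter_comm (pCore p G) ((normal_V_conj g _ (hbE.facts.le_V hu₁))) (hbE.facts.le_V hu₂')
      have e1 : u₁ * u₂ = (g * u₂ * g⁻¹) * (g * u₁ * g⁻¹) := by
        rw [← hcomm.eq, ← heq]; group
      have e2 : (g * u₂ * g⁻¹)⁻¹ * u₁ = g * u₁ * g⁻¹ * u₂⁻¹ := by
        rw [eq_mul_inv_iff_mul_eq, mul_assoc, e1, inv_mul_cancel_left]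
      have h1 : (g * u₂ * g⁻¹)⁻¹ * u₁ = 1 :=
        hSE.inf_bot _ (mul_mem (inv_mem hu₂') hu₁) (e2 ▸ mul_mem hu₁c (inv_mem hu₂c))
      rw [inv_mul_eq_one] at h1
      rw [h1, inv_mul_cancel, eq_comm, mul_inv_eq_one] at e2
      -- `w = u₂ u₁⁻¹` is fixed and inverted by `g²`
      have hw : u₂ * u₁⁻¹ ∈ blockMod p F := by
        have := inv_mem (Subgroup.commutator_mem_commutator (hbE.facts.le_V hu₁) hgF)
        rw [commutatorElement_inv, commutatorElement_def, e2] at this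
        exact this
      have hk' := hk _ hw
      rw [show g * g * (u₂ * u₁⁻¹) * (g * g)⁻¹ =
          g * (g * u₂ * g⁻¹) * g⁻¹ * (g * (g * u₁ * g⁻¹) * g⁻¹)⁻¹ by group, h1, e2, h1] at hk'
      have hw3 : (u₂ * u₁⁻¹) ^ 3 = 1 := by
        have := omegaOneCenter_pow _ (hbF.facts.le_W hw); rwa [hp3] at this
      have hw1 := CentModule.Exc.eq_one_of_sq hw3 (mul_eq_one_iff_eq_inv.2 hk')
      rw [mul_inv_eq_one] at hw1
      rw [hw1] at hu₂c
      have := hSE.inf_bot u₁ hu₁ hu₂c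
      exact ⟨this, hw1.trans this⟩
    · -- three members
      have hs3 := hsep (g * g) (mul_mem (hFX hgF) (hFX hgF)) (hE3eq ▸ h3)
      have hu₂'c : g * u₂ * g⁻¹ ∈ Subgroup.centralizer (E : Set G) := by
        refine Subgroup.mem_centralizer_iff.2 fun e he =>
          (Subgroup.mem_centralizer_iff.1 (hs3.2.2 he) _ ?_).symm
        rw [← map_blockMod, ← hau']
        exact ⟨a, ha, by simp [mul_assoc]⟩
      have h1 : u₁ = 1 := hSE.inf_bot u₁ hu₁ (by
        have : u₁ = (g * u₁ * g⁻¹) * (g * u₂ * g⁻¹) * u₂⁻¹ := by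
          rw [eq_mul_inv_iff_mul_eq, ← heq]; group
        rw [this]
        exact mul_mem (mul_mem hu₁c hu₂'c) (inv_mem hu₂c))
      rw [h1, one_mul] at heq
      refine ⟨h1, ?_⟩
      have hac : a ∈ Subgroup.centralizer (E : Set G) := by
        have hga : g * a * g⁻¹ ∈ Subgroup.centralizer (E : Set G) := hau' ▸ hu₂c
        have : a = g * a * g⁻¹ := by
          rw [← hau'] at heq
          calc a = g⁻¹ * (g * a * g⁻¹) * g := by group
            _ = g⁻¹ * (g * (g * a * g⁻¹) * g⁻¹) * g := by rw [heq]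
            _ = g * a * g⁻¹ := by group
        rwa [this]
      rw [← hau', hSE.inf_bot a ha hac]
      group
  -- counting
  have hVmem : ∀ x : U × U₂, ((x.1 : G) * x.2) ∈ omegaOneCenter p (pCore p G) := fun x => by
    obtain ⟨a, ha, hau⟩ := x.2.2
    exact mul_mem (hbE.facts.le_V x.1.2) (hau ▸ normal_V_conj g a (hbE.facts.le_V ha))
  let ξ : U × U₂ → blockMod p F := fun x =>
    ⟨g * ((x.1 : G) * x.2) * g⁻¹ * ((x.1 : G) * x.2)⁻¹, by
      have := inv_mem (Subgroup.commutator_mem_commutator (hVmem x) hgF)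
      rwa [commutatorElement_inv, commutatorElement_def] at this⟩
  have hinj : Function.Injective ξ := by
    intro x y h
    have hc : ∀ a ∈ omegaOneCenter p (pCore p G), ∀ b ∈ omegaOneCenter p (pCore p G), Commute a b :=
      fun a ha b hb => omegaOneCenter_comm (pCore p G) ha hb
    have hVx1 := hbE.facts.le_V x.1.2
    have hVy1 := hbE.facts.le_V y.1.2
    have hV2 : ∀ z : U₂, (z : G) ∈ omegaOneCenter p (pCore p G) := fun z => by
      obtain ⟨a, ha, hau⟩ := z.2
      exact hau ▸ normal_V_conj g a (hbE.facts.le_V ha)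
    have hx := hVmem x
    have hy := hVmem y
    set a := (x.1 : G) * x.2 with ha
    set b := (y.1 : G) * y.2 with hb
    have h' : g * a * g⁻¹ * a⁻¹ = g * b * g⁻¹ * b⁻¹ := congrArg Subtype.val h
    have heq : g * (b⁻¹ * a) * g⁻¹ = b⁻¹ * a := by
      calc g * (b⁻¹ * a) * g⁻¹ = (g * b * g⁻¹)⁻¹ * (g * a * g⁻¹ * a⁻¹) * a := by group
        _ = b⁻¹ * a := by rw [h']; group
    have hsplit : b⁻¹ * a = ((y.1⁻¹ * x.1 : U) : G) * ((y.2⁻¹ * x.2 : U₂) : G) := by
      rw [ha, hb, Subgroup.coe_mul, Subgroup.coe_mul, Subgroup.coe_inv, Subgroup.coe_inv, mul_inv_rev,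
        (hc _ (inv_mem (hV2 y.2)) _ (inv_mem hVy1)).eq, mul_assoc, ← mul_assoc ((y.2 : G)⁻¹),
        (hc _ (inv_mem (hV2 y.2)) _ hVx1).eq]
      group
    rw [hsplit] at heq
    obtain ⟨h1, h2⟩ := hfix _ (y.1⁻¹ * x.1).2 _ (y.2⁻¹ * x.2).2 heq
    rw [OneMemClass.coe_eq_one, inv_mul_eq_one] at h1 h2
    exact Prod.ext h1.symm h2.symm
  have hcard := Nat.card_le_card_of_injective ξ hinj
  rw [Nat.card_prod, hU₂, Subgroup.card_map_of_injective (MulAut.conj g).injective, hSE.card_eq, hSF.card_eq] at hcard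
  have hp2 := (Fact.out : p.Prime).two_le
  have hp4 := Nat.pow_le_pow_left hp2 2
  nlinarith

end CfsgLib.BaumannBlock.Subnormal
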