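import Mathlib
import Cfsg.Agent.BaumannBlock.Subnormal.Basic
import Cfsg.Agent.BaumannBlock.Subnormal.Kind

/-!
The module of a block modulo the centralizer of the block, as an abstract group with the action of the normalizer
of the block.
-/

set_option autoImplicit false

open scoped MatrixGroups commutatorElement

namespace CfsgLib.BaumannBlock.Subnormal

open Cfsg CentModule

variable {G : Type*} [Group G] {p : ℕ} {E : Subgroup G}

/-- The fixed part of the module. -/
def zSub (p : ℕ) (E : Subgroup G) : Subgroup (blockMod p E) :=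
  ((Subgroup.centralizer (E : Set G)).subgroupOf (blockMod p E)).normalCore

instance zSub_normal : (zSub p E).Normal := Subgroup.normalCore_normal _

/-- The module modulo its fixed part. -/
abbrev Sec (p : ℕ) (E : Subgroup G) : Type _ := blockMod p E ⧸ zSub p E

/-- The class of an element. -/
abbrev cls (u : blockMod p E) : Sec p E := QuotientGroup.mk u

theorem cls_surj (x : Sec p E) : ∃ u, cls u = x := QuotientGroup.mk_surjective x

variable [Finite G] [Fact p.Prime]

theorem mem_zSub (hb : IsBlock p E) {u : blockMod p E} :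
    u ∈ zSub p E ↔ (u : G) ∈ Subgroup.centralizer (E : Set G) := by
  haveI hn : ((Subgroup.centralizer (E : Set G)).subgroupOf (blockMod p E)).Normal := ⟨fun x hx g => by
    have : g * x * g⁻¹ = x := Subtype.ext (by
      simp only [Subgroup.coe_mul, Subgroup.coe_inv]
      rw [blockMod_comm E hb _ g.2 _ x.2, mul_inv_cancel_right])
    rwa [this]⟩
  rw [zSub, Subgroup.normalCore_eq_self, Subgroup.mem_subgroupOf]

theorem cls_eq (hb : IsBlock p E) {u v : blockMod p E} :
    cls u = cls v ↔ (u : G)⁻¹ * v ∈ Subgroup.centralizer (E : Set G) := by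
  rw [QuotientGroup.eq, mem_zSub hb]; simp

theorem cls_eq_one (hb : IsBlock p E) {u : blockMod p E} :
    cls u = 1 ↔ (u : G) ∈ Subgroup.centralizer (E : Set G) := by
  rw [QuotientGroup.eq_one_iff, mem_zSub hb]

theorem Sec.comm (hb : IsBlock p E) (x y : Sec p E) : x * y = y * x := by
  obtain ⟨u, rfl⟩ := cls_surj x
  obtain ⟨v, rfl⟩ := cls_surj y
  show cls (u * v) = cls (v * u)
  rw [show u * v = v * u from Subtype.ext (blockMod_comm E hb _ u.2 _ v.2)]

theorem Sec.pow_eq_one (hb : IsBlock p E) (x : Sec p E) : x ^ p = 1 := by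
  obtain ⟨u, rfl⟩ := cls_surj x
  show cls (u ^ p) = 1
  rw [show u ^ p = 1 from Subtype.ext (by simpa using omegaOneCenter_pow _ (hb.facts.le_W u.2))]
  rfl

theorem Sec.isPGroup (hb : IsBlock p E) : IsPGroup p (Sec p E) := fun x => ⟨1, by rw [pow_one, Sec.pow_eq_one hb]⟩

theorem conj_mem_blockMod {g : G} (hg : g ∈ Subgroup.normalizer (E : Set G)) {u : G} (hu : u ∈ blockMod p E) :
    g * u * g⁻¹ ∈ blockMod p E :=
  (Subgroup.mem_normalizer_iff.1 (normalizer_le_normalizer_blockMod hg) u).1 hu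

theorem conj_mem_centralizer {g : G} (hg : g ∈ Subgroup.normalizer (E : Set G)) {u : G}
    (hu : u ∈ Subgroup.centralizer (E : Set G)) : g * u * g⁻¹ ∈ Subgroup.centralizer (E : Set G) :=
  (Subgroup.mem_normalizer_iff.1 (normalizer_le_normalizer_centralizer E hg) u).1 hu

/-- Conjugation on the module. -/
def cj (g : Subgroup.normalizer (E : Set G)) : MulAut (blockMod p E) where
  toFun u := ⟨g * u * (g : G)⁻¹, conj_mem_blockMod g.2 u.2⟩
  invFun u := ⟨(g : G)⁻¹ * u * g, by simpa using conj_mem_blockMod (inv_mem g.2) u.2⟩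
  left_inv u := Subtype.ext (by simp [mul_assoc])
  right_inv u := Subtype.ext (by simp [mul_assoc])
  map_mul' u v := Subtype.ext (by simp [mul_assoc])

theorem cj_coe (g : Subgroup.normalizer (E : Set G)) (u : blockMod p E) :
    (cj g u : G) = g * u * (g : G)⁻¹ := rfl

theorem cj_map_zSub (hb : IsBlock p E) (g : Subgroup.normalizer (E : Set G)) :
    (zSub p E).map (cj (p := p) g : blockMod p E →* blockMod p E) = zSub p E := by
  ext v
  constructor
  · rintro ⟨u, hu, rfl⟩
    exact (mem_zSub hb).2 (conj_mem_centralizer g.2 ((mem_zSub hb).1 hu))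
  · intro hv
    refine ⟨(cj g).symm v, (mem_zSub hb).2 ?_, (cj g).apply_symm_apply v⟩
    show (g : G)⁻¹ * v * g ∈ _
    simpa using conj_mem_centralizer (inv_mem g.2) ((mem_zSub hb).1 hv)

/-- The action on the module modulo its fixed part. -/
def act (hb : IsBlock p E) : Subgroup.normalizer (E : Set G) →* MulAut (Sec p E) :=
  MonoidHom.mk' (fun g => QuotientGroup.congr _ _ (cj g) (cj_map_zSub hb g)) fun g h => MulEquiv.ext fun x => by
    obtain ⟨u, rfl⟩ := cls_surj x
    show cls (cj (g * h) u) = cls (cj g (cj h u))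
    congr 1
    exact Subtype.ext (by simp [cj_coe, mul_assoc])

theorem act_cls (hb : IsBlock p E) (g : Subgroup.normalizer (E : Set G)) (u : blockMod p E) :
    act hb g (cls u) = cls (cj g u) := rfl

theorem mem_Q_of_act_eq_one (hb : IsBlock p E) {e : G} (he : e ∈ E)
    (h : act hb ⟨e, Subgroup.le_normalizer he⟩ = 1) : e ∈ pCoreOf p E := by
  have key : ∀ u : blockMod p E, cls (cj ⟨e, Subgroup.le_normalizer he⟩ u) = cls u := fun u => by
    rw [← act_cls hb, h]; rfl
  rcases exists_coords hb with ⟨F, _, _, ⟨D⟩⟩ | ⟨m, ⟨D⟩⟩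
  · refine (D.ρ_ker ⟨e, he⟩).1 (mulVec_ext fun x => ?_)
    obtain ⟨u, hu⟩ := D.surj (Multiplicative.ofAdd x)
    set u' := cj ⟨e, Subgroup.le_normalizer he⟩ u with hu'
    have h2 : D.ψ u' = D.ψ u := by
      have h1 := (D.ker (u'⁻¹ * u)).2 (by simpa using (cls_eq hb).1 (key u))
      rwa [map_mul, map_inv, inv_mul_eq_one] at h1
    have h3 := D.compat ⟨e, he⟩ u u' rfl
    rw [h2, hu] at h3
    rw [Matrix.SpecialLinearGroup.coe_one, Matrix.one_mulVec]
    exact h3.symm
  · refine (D.ρ_ker ⟨e, he⟩).1 (perm_ext D.m_pos fun v hv i => ?_)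
    obtain ⟨u, rfl⟩ := D.surj v hv
    set u' := cj ⟨e, Subgroup.le_normalizer he⟩ u with hu'
    have h2 : D.ψ u' = D.ψ u := by
      have h1 := (D.ker (u'⁻¹ * u)).2 (by simpa using (cls_eq hb).1 (key u))
      rwa [map_mul, map_inv, inv_mul_eq_one] at h1
    rw [← D.compat ⟨e, he⟩ u u' rfl i, h2]

/-- Trivial action modulo the fixed part is trivial action. -/
theorem centralizes_of_act_eq_one (hb : IsBlock p E) (g : Subgroup.normalizer (E : Set G))
    (h : act hb g = 1) : (g : G) ∈ Subgroup.centralizer (blockMod p E : Set G) := by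
  refine centralizes_of_trivial_mod hb ?_ ?_
  · refine commOn_of_comm_mem (normalizer_le_normalizer_blockMod g.2) hb.facts.normU fun e he => ?_
    have hmem : ⁅e, (g : G)⁆ ∈ E := by
      rw [commutatorElement_def, show e * g * e⁻¹ * (g : G)⁻¹ = e * (g * e⁻¹ * (g : G)⁻¹) by group]
      exact mul_mem he ((Subgroup.mem_normalizer_iff.1 g.2 _).1 (inv_mem he))
    refine pCoreOf_le_centralizer hb (mem_Q_of_act_eq_one hb hmem ?_)
    rw [show (⟨⁅e, (g : G)⁆, Subgroup.le_normalizer hmem⟩ : Subgroup.normalizer (E : Set G)) =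
        ⁅(⟨e, Subgroup.le_normalizer he⟩ : Subgroup.normalizer (E : Set G)), g⁆ from Subtype.ext rfl,
      map_commutatorElement, h, commutatorElement_one_right]
  · intro u hu
    have h1 : cls (cj g ⟨u, hu⟩) = cls ⟨u, hu⟩ := by rw [← act_cls hb, h]; rfl
    have h2 := (cls_eq hb).1 h1.symm
    have h3 : (u : G)⁻¹ * (g * u * (g : G)⁻¹) = g * u * (g : G)⁻¹ * u⁻¹ :=
      (blockMod_comm E hb _ (inv_mem hu) _ (conj_mem_blockMod g.2 hu))
    rwa [cj_coe, h3] at h2

theorem act_eq_iff (hb : IsBlock p E) (g h : Subgroup.normalizer (E : Set G)) (heq : act hb g = act hb h) :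
    ∀ u ∈ blockMod p E, (g : G) * u * (g : G)⁻¹ = h * u * (h : G)⁻¹ := by
  intro u hu
  have hc := centralizes_of_act_eq_one hb (h⁻¹ * g) (by rw [map_mul, map_inv, heq, inv_mul_cancel])
  have h1 : ((h⁻¹ * g : Subgroup.normalizer (E : Set G)) : G) * u * ((h⁻¹ * g : Subgroup.normalizer (E : Set G)) : G)⁻¹ = u := by
    rw [← Subgroup.mem_centralizer_iff.1 hc u hu, mul_inv_cancel_right]
  calc (g : G) * u * (g : G)⁻¹ = h * (((h⁻¹ * g : Subgroup.normalizer (E : Set G)) : G) * u *
        ((h⁻¹ * g : Subgroup.normalizer (E : Set G)) : G)⁻¹) * (h : G)⁻¹ := by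
        simp only [Subgroup.coe_mul, Subgroup.coe_inv]; group
    _ = _ := by rw [h1]

theorem mem_actsAsE_of_act (hb : IsBlock p E) (g : Subgroup.normalizer (E : Set G)) {e : G} (he : e ∈ E)
    (heq : act hb g = act hb ⟨e, Subgroup.le_normalizer he⟩) :
    (g : G) ∈ Subgroup.normalizer (blockMod p E : Set G) ∧
      ∃ e ∈ E, ∀ u ∈ blockMod p E, (g : G) * u * (g : G)⁻¹ = e * u * e⁻¹ :=
  ⟨normalizer_le_normalizer_blockMod g.2, e, he, act_eq_iff hb g _ heq⟩

/-- A `p`-group fixes a nontrivial element of every invariant nontrivial subgroup of the section. -/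
theorem exists_fixed (hb : IsBlock p E) {P : Subgroup (Subgroup.normalizer (E : Set G))} (hP : IsPGroup p P)
    (X : Subgroup (Sec p E)) (hX : ∀ g ∈ P, ∀ x ∈ X, act hb g x ∈ X) (hne : X ≠ ⊥) :
    ∃ x ∈ X, x ≠ 1 ∧ ∀ g ∈ P, act hb g x = x := by
  letI : MulAction P X :=
    { smul := fun g x => ⟨act hb g x, hX g g.2 x x.2⟩
      one_smul := fun x => Subtype.ext (by show act hb (1 : P) (x : Sec p E) = x; rw [OneMemClass.coe_one, map_one]; rfl)
      mul_smul := fun g h x => Subtype.ext (by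
        show act hb ((g * h : P) : Subgroup.normalizer (E : Set G)) (x : Sec p E) = _
        rw [Subgroup.coe_mul, map_mul]; rfl) }
  have hdvd : p ∣ Nat.card X := by
    obtain ⟨n, hn⟩ := IsPGroup.iff_card.1 ((Sec.isPGroup hb).to_subgroup X)
    rcases Nat.eq_zero_or_pos n with rfl | h
    · exact absurd (Subgroup.card_eq_one.1 (by simpa using hn)) hne
    · exact hn ▸ dvd_pow_self p h.ne'
  have h1 : (1 : X) ∈ MulAction.fixedPoints P X := fun g =>
    Subtype.ext (map_one (act hb (g : Subgroup.normalizer (E : Set G))))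
  obtain ⟨y, hy, hy1⟩ := hP.exists_fixed_point_of_prime_dvd_card_of_fixed_point X hdvd h1
  exact ⟨y, y.2, fun h => hy1 (Subtype.ext h.symm), fun g hg => congrArg Subtype.val (hy (⟨g, hg⟩ : P))⟩

/-! ### Linear coordinates -/

variable {K : Type} [Field K]

/-- Change of basis. -/
def LinCoords.twist (D : LinCoords p E K) (A : SL(2, K)) : LinCoords p E K where
  ρ := (MulAut.conj A).toMonoidHom.comp D.ρ
  ψ := (AddMonoidHom.toMultiplicative (Matrix.mulVecLin A.1).toAddMonoidHom).comp D.ψ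
  range_eq := by
    rw [MonoidHom.range_comp, D.range_eq]
    haveI : (commutator SL(2, K)).Normal := inferInstance
    exact Subgroup.mem_normalizer_iff_map_conj_eq.1
      (by rw [Subgroup.normalizer_eq_top_iff.2 (inferInstance : (commutator SL(2, K)).Normal)]
          exact Subgroup.mem_top A)
  surj x := by
    obtain ⟨u, hu⟩ := D.surj (Multiplicative.ofAdd ((A⁻¹).1.mulVec x.toAdd))
    refine ⟨u, Multiplicative.toAdd.injective ?_⟩
    show A.1.mulVec (D.ψ u).toAdd = x.toAdd
    rw [hu, toAdd_ofAdd, Matrix.mulVec_mulVec, ← Matrix.SpecialLinearGroup.coe_mul, mul_inv_cancel,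
      Matrix.SpecialLinearGroup.coe_one, Matrix.one_mulVec]
  ker u := by
    rw [← D.ker u]
    constructor
    · intro h
      have h' : A.1.mulVec (D.ψ u).toAdd = 0 := congrArg Multiplicative.toAdd h
      have := congrArg ((A⁻¹).1.mulVec) h'
      rw [Matrix.mulVec_mulVec, ← Matrix.SpecialLinearGroup.coe_mul, inv_mul_cancel,
        Matrix.SpecialLinearGroup.coe_one, Matrix.one_mulVec, Matrix.mulVec_zero] at this
      exact Multiplicative.toAdd.injective this
    · intro h
      simp [h]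
  ρ_ker e := by
    rw [← D.ρ_ker e]
    simp
  compat e u u' h := by
    show A.1.mulVec (D.ψ u').toAdd = (A * D.ρ e * A⁻¹).1.mulVec (A.1.mulVec (D.ψ u).toAdd)
    rw [D.compat e u u' h, Matrix.mulVec_mulVec, Matrix.mulVec_mulVec, ← Matrix.SpecialLinearGroup.coe_mul,
      ← Matrix.SpecialLinearGroup.coe_mul, inv_mul_cancel_right]
  card_eq := D.card_eq

theorem exists_twist (D : LinCoords p E K) {v : Fin 2 → K} (hv : v ≠ 0) :
    ∃ A : SL(2, K), A.1.mulVec v = ![1, 0] := by
  by_cases h0 : v 0 = 0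
  · have h1 : v 1 ≠ 0 := fun h => hv (funext (Fin.forall_fin_two.2 ⟨h0, h⟩))
    refine ⟨⟨!![0, (v 1)⁻¹; -(v 1), 0], by simp [Matrix.det_fin_two, h1]⟩, ?_⟩
    ext i; fin_cases i <;> simp [Matrix.mulVec, dotProduct, Fin.sum_univ_two, h0, h1]
  · refine ⟨⟨!![(v 0)⁻¹, 0; -(v 1), v 0], by simp [Matrix.det_fin_two, h0]⟩, ?_⟩
    ext i
    fin_cases i
    · simp [Matrix.mulVec, dotProduct, Fin.sum_univ_two, h0]
    · simp [Matrix.mulVec, dotProduct, Fin.sum_univ_two]; ring

/-- The coordinates on the section. -/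
noncomputable def LinCoords.bar (D : LinCoords p E K) (hb : IsBlock p E) :
    Sec p E ≃* Multiplicative (Fin 2 → K) :=
  MulEquiv.ofBijective (QuotientGroup.lift (zSub p E) D.ψ fun u hu => (D.ker u).2 ((mem_zSub hb).1 hu))
    ⟨(injective_iff_map_eq_one _).2 fun x hx => by
        obtain ⟨u, rfl⟩ := cls_surj x
        exact (cls_eq_one hb).2 ((D.ker u).1 hx),
      fun y => let ⟨u, hu⟩ := D.surj y; ⟨cls u, hu⟩⟩

theorem LinCoords.bar_cls (D : LinCoords p E K) (hb : IsBlock p E) (u : blockMod p E) :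
    D.bar hb (cls u) = D.ψ u := rfl

/-- The action in coordinates. -/
noncomputable def LinCoords.tau (D : LinCoords p E K) (hb : IsBlock p E) (g : Subgroup.normalizer (E : Set G))
    (x : Fin 2 → K) : Fin 2 → K :=
  (D.bar hb (act hb g ((D.bar hb).symm (Multiplicative.ofAdd x)))).toAdd

theorem LinCoords.tau_psi (D : LinCoords p E K) (hb : IsBlock p E) (g : Subgroup.normalizer (E : Set G))
    (u : blockMod p E) : D.tau hb g (D.ψ u).toAdd = (D.ψ (cj g u)).toAdd := by
  rw [LinCoords.tau, ofAdd_toAdd, ← D.bar_cls hb u, MulEquiv.symm_apply_apply]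
  rfl

theorem LinCoords.tau_add (D : LinCoords p E K) (hb : IsBlock p E) (g : Subgroup.normalizer (E : Set G))
    (x y : Fin 2 → K) : D.tau hb g (x + y) = D.tau hb g x + D.tau hb g y := by
  simp [LinCoords.tau, ofAdd_add]

theorem LinCoords.tau_zero (D : LinCoords p E K) (hb : IsBlock p E) (g : Subgroup.normalizer (E : Set G)) :
    D.tau hb g 0 = 0 := by simp [LinCoords.tau]

theorem LinCoords.tau_mul (D : LinCoords p E K) (hb : IsBlock p E) (g h : Subgroup.normalizer (E : Set G))
    (x : Fin 2 → K) : D.tau hb (g * h) x = D.tau hb g (D.tau hb h x) := by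
  simp [LinCoords.tau]

theorem LinCoords.tau_one (D : LinCoords p E K) (hb : IsBlock p E) (x : Fin 2 → K) : D.tau hb 1 x = x := by
  simp [LinCoords.tau]

theorem LinCoords.tau_inj (D : LinCoords p E K) (hb : IsBlock p E) (g : Subgroup.normalizer (E : Set G)) :
    Function.Injective (D.tau hb g) := fun x y h => by
  have := congrArg (D.tau hb g⁻¹) h
  rwa [← D.tau_mul, ← D.tau_mul, inv_mul_cancel, D.tau_one, D.tau_one] at this

theorem LinCoords.psi_surj (D : LinCoords p E K) (x : Fin 2 → K) : ∃ u, (D.ψ u).toAdd = x :=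
  let ⟨u, hu⟩ := D.surj (Multiplicative.ofAdd x); ⟨u, by rw [hu]; rfl⟩

theorem LinCoords.tau_E (D : LinCoords p E K) (hb : IsBlock p E) {e : G} (he : e ∈ E) (x : Fin 2 → K) :
    D.tau hb ⟨e, Subgroup.le_normalizer he⟩ x = (D.ρ ⟨e, he⟩).1.mulVec x := by
  obtain ⟨u, rfl⟩ := D.psi_surj x
  rw [D.tau_psi]
  exact D.compat ⟨e, he⟩ u _ rfl

theorem LinCoords.act_eq (D : LinCoords p E K) (hb : IsBlock p E) {g h : Subgroup.normalizer (E : Set G)}
    (heq : ∀ x, D.tau hb g x = D.tau hb h x) : act hb g = act hb h := by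
  refine MulEquiv.ext fun y => (D.bar hb).injective (Multiplicative.toAdd.injective ?_)
  simpa [LinCoords.tau] using heq ((D.bar hb) y).toAdd

theorem LinCoords.fixed_of_tau (D : LinCoords p E K) (hb : IsBlock p E) (g : Subgroup.normalizer (E : Set G))
    (u : blockMod p E) : act hb g (cls u) = cls u ↔ D.tau hb g (D.ψ u).toAdd = (D.ψ u).toAdd := by
  rw [D.tau_psi, act_cls, ← (D.bar hb).injective.eq_iff, D.bar_cls, D.bar_cls]
  exact Multiplicative.toAdd.injective.eq_iff.symm

/-- An additive map commuting with the transvections is scalar. -/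
theorem scalar_of_commute (φ : (Fin 2 → K) → Fin 2 → K) (hadd : ∀ x y, φ (x + y) = φ x + φ y)
    (hcomm : ∀ (s : SL(2, K)) x, φ (s.1.mulVec x) = s.1.mulVec (φ x)) : ∃ c : K, ∀ x, φ x = c • x := by
  have hU : ∀ (a : K) (x : Fin 2 → K), (upperUni a).1.mulVec x = ![x 0 + a * x 1, x 1] := fun a x => by
    ext i; fin_cases i <;> simp [upperUni_coe, Matrix.mulVec, dotProduct, Fin.sum_univ_two]
  have hL : ∀ (a : K) (x : Fin 2 → K), (lowerUni a).1.mulVec x = ![x 0, a * x 0 + x 1] := fun a x => by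
    ext i; fin_cases i <;> simp [lowerUni_coe, Matrix.mulVec, dotProduct, Fin.sum_univ_two]
  have h1 : ∀ X : K, φ ![X, 0] 1 = 0 := fun X => by
    have h := congrFun (hcomm (upperUni 1) ![X, 0]) 0
    rw [hU, hU] at h
    simpa using h
  have h2 : ∀ Y : K, φ ![0, Y] 0 = 0 := fun Y => by
    have h := congrFun (hcomm (lowerUni 1) ![0, Y]) 1
    rw [hL, hL] at h
    simpa using h
  have h3 : ∀ a Y : K, φ ![a * Y, 0] 0 = a * φ ![0, Y] 1 := fun a Y => by
    have h := congrFun (hcomm (upperUni a) ![0, Y]) 0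
    rw [hU, hU] at h
    simp only [Matrix.cons_val_zero, Matrix.cons_val_one, zero_add, h2] at h
    rw [show ![a * Y, Y] = ![a * Y, 0] + ![0, Y] by simp, hadd, Pi.add_apply, h2, add_zero] at h
    exact h
  refine ⟨φ ![0, 1] 1, fun x => ?_⟩
  have hX : φ ![x 0, 0] 0 = x 0 * φ ![0, 1] 1 := by simpa using h3 (x 0) 1
  have hY : φ ![0, x 1] 1 = x 1 * φ ![0, 1] 1 := by
    have h := h3 1 (x 1)
    rw [one_mul, one_mul] at h
    rw [← h]; simpa using h3 (x 1) 1
  have hx : x = ![x 0, 0] + ![0, x 1] := funext (Fin.forall_fin_two.2 ⟨by simp, by simp⟩)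
  rw [hx, hadd, ← hx]
  exact funext (Fin.forall_fin_two.2 ⟨by simp [hX, h2, mul_comm], by simp [h1, hY, mul_comm]⟩)

/-- The normalizer of a block with full image acts semilinearly. -/
theorem LinCoords.semilinear [Finite K] (D : LinCoords p E K) (hb : IsBlock p E)
    (hfull : Function.Surjective D.ρ) (g : Subgroup.normalizer (E : Set G)) :
    ∃ σ : K ≃+* K, ∀ c x, D.tau hb g (c • x) = σ c • D.tau hb g x := by
  have hex : ∀ c : K, ∃ d : K, ∀ x, D.tau hb g (c • D.tau hb g⁻¹ x) = d • x := by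
    intro c
    refine scalar_of_commute _ (fun x y => by rw [D.tau_add, smul_add, D.tau_add]) fun s x => ?_
    obtain ⟨e, rfl⟩ := hfull s
    have hf : (g : G)⁻¹ * e * g ∈ E := by simpa using (Subgroup.mem_normalizer_iff.1 (inv_mem g.2) _).1 e.2
    set f : E := ⟨_, hf⟩
    have e1 : ∀ y, D.tau hb g⁻¹ ((D.ρ e).1.mulVec y) = (D.ρ f).1.mulVec (D.tau hb g⁻¹ y) := fun y => by
      rw [← D.tau_E hb e.2, ← D.tau_E hb hf, ← D.tau_mul, ← D.tau_mul]
      congr 1
      exact Subtype.ext (by simp [mul_assoc])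
    have e2 : ∀ y, D.tau hb g ((D.ρ f).1.mulVec y) = (D.ρ e).1.mulVec (D.tau hb g y) := fun y => by
      rw [← D.tau_E hb e.2, ← D.tau_E hb hf, ← D.tau_mul, ← D.tau_mul]
      congr 1
      exact Subtype.ext (by simp [mul_assoc])
    rw [e1, ← Matrix.mulVec_smul, e2]
  choose σ hσ using hex
  have key : ∀ c x, D.tau hb g (c • x) = σ c • D.tau hb g x := fun c x => by
    have := hσ c (D.tau hb g x)
    rwa [← D.tau_mul, inv_mul_cancel, D.tau_one] at this
  obtain ⟨x, hx⟩ : ∃ x : Fin 2 → K, D.tau hb g x ≠ 0 :=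
    ⟨1, fun h => one_ne_zero (D.tau_inj hb g (h.trans (D.tau_zero hb g).symm))⟩
  have huniq : ∀ a b : K, a • D.tau hb g x = b • D.tau hb g x → a = b := fun a b h =>
    smul_left_injective K hx h
  let φ : K →+* K :=
    { toFun := σ
      map_one' := huniq _ _ (by rw [← key, one_smul, one_smul])
      map_zero' := huniq _ _ (by rw [← key, zero_smul, zero_smul, D.tau_zero])
      map_add' := fun a b => huniq _ _ (by rw [← key, add_smul, add_smul, D.tau_add, key, key])
      map_mul' := fun a b => huniq _ _ (by rw [← key, mul_smul, mul_smul, key, key]) }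
  exact ⟨RingEquiv.ofBijective φ (Finite.injective_iff_bijective.1 φ.injective), key⟩

end CfsgLib.BaumannBlock.Subnormal
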