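import Mathlib
import Cfsg.Agent.BaumannBlock.Subnormal.Sec
import Cfsg.Agent.BaumannBlock.Subnormal.Kinds

/-!
A fixed class of the module modulo its fixed part has a fixed lift.
-/

set_option autoImplicit false

open scoped MatrixGroups commutatorElement

namespace CfsgLib.BaumannBlock.Subnormal

open Cfsg CentModule

variable {G : Type*} [Group G] [Finite G] {p : ℕ} [Fact p.Prime] {E : Subgroup G}

theorem sq_eq_one (hb : IsBlock p E) (hp : p = 2) (u : blockMod p E) : u * u = 1 :=
  Subtype.ext (by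
    have h := omegaOneCenter_pow _ (hb.facts.le_W u.2)
    subst hp
    rwa [pow_two] at h)

/-- Over the field with two elements a linear block is small. -/
theorem small_of_card_two {K : Type} [Field K] [Finite K] (D : LinCoords p E K) (hb : IsBlock p E) (hp : p = 2)
    (hcard : Nat.card K = 2) : Small p E := by
  refine (kind_cases hb).1.resolve_left fun hP => ?_
  subst hp
  haveI := Fintype.ofFinite K
  rw [Nat.card_eq_fintype_card] at hcard
  let D' := D.transfer (ZMod.ringEquivOfPrime K Nat.prime_two hcard).symm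
  obtain ⟨hc, hm, hgen, -⟩ := sl22_facts
  have hR : ∀ e : E, D'.ρ e ^ 3 = 1 := fun e =>
    commutator_le_pow (by norm_num) hc hm _ (D'.range_eq ▸ ⟨e, rfl⟩)
  refine not_le_pgroup hb (isPGroup_pCoreOf E) (hP.perfect.symm.le.trans (Subgroup.commutator_le.2 fun a ha b hb' => ?_))
  refine (D'.ρ_ker ⁅(⟨a, ha⟩ : E), ⟨b, hb'⟩⁆).1 ?_
  rw [map_commutatorElement, commutatorElement_eq_one_iff_mul_comm]
  by_cases h : D'.ρ ⟨a, ha⟩ = 1
  · rw [h, one_mul, mul_one]
  obtain ⟨k, hk⟩ := hgen _ _ (hR ⟨a, ha⟩) h (hR ⟨b, hb'⟩)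
  rw [← hk]
  exact (Commute.self_pow _ _).eq

/-- The fixed lift in the linear case. -/
theorem exists_fixed_lift_linear {K : Type} [Field K] [Finite K] (D : LinCoords p E K) (hb : IsBlock p E)
    (hp : p = 2) (hfull : Function.Surjective D.ρ) (h4 : 4 ≤ Nat.card K)
    {P : Subgroup G} (hPE : P ≤ Subgroup.normalizer (E : Set G)) (w : blockMod p E)
    (hw : (D.ψ w).toAdd = ![1, 0])
    (hfix : ∀ g, ∀ hg : g ∈ P, act hb ⟨g, hPE hg⟩ (cls w) = cls w) :
    ∃ u' : blockMod p E, cls u' = cls w ∧ ∀ g ∈ P, g * (u' : G) * g⁻¹ = u' := by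
  classical
  haveI := Fintype.ofFinite K
  haveI hchar : CharP K p := (field_cases D).1
  haveI : CharP K 2 := hp ▸ hchar
  letI : CommGroup (blockMod p E) :=
    { (inferInstance : Group (blockMod p E)) with
      mul_comm := fun a b => Subtype.ext (blockMod_comm E hb _ a.2 _ b.2) }
  have hsq := sq_eq_one hb hp
  let nE : E → Subgroup.normalizer (E : Set G) := fun e => ⟨e, Subgroup.le_normalizer e.2⟩
  -- the stabilizer of the class fixes the elements of the line
  have hup : ∀ s : SL(2, K), s.1.mulVec ![1, 0] = ![1, 0] → s = upperUni (s.1 0 1) := by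
    intro s hs
    have a0 := congrFun hs 0
    have a1 := congrFun hs 1
    simp [Matrix.mulVec, dotProduct, Fin.sum_univ_two] at a0 a1
    have hd := s.2
    rw [Matrix.det_fin_two, a0, a1, one_mul, mul_zero, sub_zero] at hd
    apply Subtype.ext
    ext i j
    fin_cases i <;> fin_cases j <;> simp [upperUni_coe, a0, a1, hd]
  have hline : ∀ (e : E), (D.ρ e).1.mulVec ![1, 0] = ![1, 0] →
      ∀ x : blockMod p E, (D.ψ x).toAdd 1 = 0 → cj (nE e) x = x := by
    intro e he x hx
    by_cases ha : (D.ρ e).1 0 1 = 0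
    · have h1 : D.ρ e = 1 := by
        rw [hup _ he, ha]
        refine Subtype.ext ?_
        rw [upperUni_coe, Matrix.SpecialLinearGroup.coe_one, Matrix.one_fin_two]
      exact Subtype.ext (mem_Q_conj_eq hb ((D.ρ_ker e).1 h1) x.2)
    obtain ⟨y, hy⟩ := D.psi_surj ![0, (D.ψ x).toAdd 0 / (D.ρ e).1 0 1]
    set y' := cj (nE e) y with hy'
    have hz : D.ψ (y' * y) = D.ψ x := Multiplicative.toAdd.injective (by
      rw [map_mul, toAdd_mul, D.compat e y y' rfl, hy, hup _ he]
      ext i
      fin_cases i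
      · simp [upperUni_coe, Matrix.mulVec, dotProduct, Fin.sum_univ_two, div_mul_cancel₀ _ ha, mul_div_cancel₀ _ ha]
      · simp [upperUni_coe, Matrix.mulVec, dotProduct, Fin.sum_univ_two, hx, CharTwo.add_self_eq_zero])
    have hzc : cj (nE e) ((y' * y)⁻¹ * x) = (y' * y)⁻¹ * x := by
      have hm : (((y' * y)⁻¹ * x : blockMod p E) : G) ∈ Subgroup.centralizer (E : Set G) :=
        (D.ker _).1 (by rw [map_mul, map_inv, hz, inv_mul_cancel])
      exact Subtype.ext (by
        rw [cj_coe, Subgroup.mem_centralizer_iff.1 hm _ e.2, mul_inv_cancel_right])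
    have he2 : D.ρ (e * e) = 1 := by
      rw [map_mul, hup _ he]
      refine Subtype.ext ?_
      ext i j
      fin_cases i <;> fin_cases j <;>
        simp [upperUni_coe, Matrix.mul_apply, Fin.sum_univ_two, CharTwo.add_self_eq_zero]
    have hyy : cj (nE e) y' = y := Subtype.ext (by
      have := mem_Q_conj_eq hb ((D.ρ_ker _).1 he2) y.2
      rw [hy', cj_coe, cj_coe]
      rw [Subgroup.coe_mul] at this
      simpa [nE, mul_assoc] using this)
    have h2 : cj (nE e) (y' * y) = y' * y := by rw [map_mul, hyy, ← hy', mul_comm]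
    calc cj (nE e) x = cj (nE e) (y' * y * ((y' * y)⁻¹ * x)) := by rw [mul_inv_cancel_left]
      _ = x := by rw [map_mul, h2, hzc, mul_inv_cancel_left]
  -- the translates of `w`
  have ht : ∀ c : Kˣ, ∃ e : E, D.ρ e = diagSL (c : K) c.ne_zero := fun c => hfull _
  choose t ht using ht
  let C : Kˣ → blockMod p E → blockMod p E := fun c x => cj (nE (t c)) x
  have hCψ : ∀ c, (D.ψ (C c w)).toAdd = ![(c : K), 0] := fun c => by
    rw [D.compat (t c) w _ rfl, hw, ht]
    ext i; fin_cases i <;> simp [diagSL_coe, Matrix.mulVec, dotProduct, Fin.sum_univ_two]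
  let σ : blockMod p E := ∏ c : Kˣ, C c w
  have hσ : (D.ψ σ).toAdd = 0 := by
    have hone : ¬ (Fintype.card K - 1) ∣ 1 := by
      rw [← Nat.card_eq_fintype_card, Nat.dvd_one]; omega
    rw [map_prod, toAdd_prod, Finset.sum_congr rfl fun c _ => hCψ c]
    ext i
    fin_cases i
    · simp only [Finset.sum_apply]
      have := FiniteField.sum_pow_units K 1
      simp only [pow_one, if_neg hone] at this
      simpa using this
    · simp [Finset.sum_apply]
  refine ⟨w * σ, ?_, fun g hg => ?_⟩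
  · refine (cls_eq hb).2 ?_
    have : (((w * σ)⁻¹ * w : blockMod p E) : G) ∈ Subgroup.centralizer (E : Set G) := (D.ker _).1
      (Multiplicative.toAdd.injective (by simp only [map_mul, map_inv, toAdd_mul, toAdd_inv, hσ, toAdd_one]; simp))
    simpa using this
  set g' : Subgroup.normalizer (E : Set G) := ⟨g, hPE hg⟩ with hg'
  have hz0 : D.ψ (cj g' w) = D.ψ w := by
    have h1 := hfix g hg
    rw [act_cls] at h1
    rw [← D.bar_cls hb, h1, D.bar_cls hb]
  have hz : ((w⁻¹ * cj g' w : blockMod p E) : G) ∈ Subgroup.centralizer (E : Set G) :=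
    (D.ker _).1 (by rw [map_mul, map_inv, hz0, inv_mul_cancel])
  set z := w⁻¹ * cj g' w with hzdef
  have hgw : cj g' w = w * z := by rw [hzdef, mul_inv_cancel_left]
  -- conjugation permutes the translates
  have hperm : ∀ c : Kˣ, ∃ d : Kˣ, cj g' (C c w) = C d w * z ∧ (D.ψ (cj g' (C c w))).toAdd = ![(d : K), 0] := by
    intro c
    set x := cj g' (C c w) with hx
    have hx1 : (D.ψ x).toAdd 1 = 0 := by
      obtain ⟨e₁, he₁⟩ := hfull (upperUni 1)
      have hm : g⁻¹ * e₁ * g ∈ E := by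
        simpa using (Subgroup.mem_normalizer_iff.1 (inv_mem (hPE hg)) _).1 e₁.2
      have hf : (D.ρ ⟨_, hm⟩).1.mulVec ![1, 0] = ![1, 0] := by
        rw [← hw, ← D.tau_E hb hm, D.tau_psi, ← D.fixed_of_tau hb _ w |>.1]
        · rw [D.tau_psi]
        · have hh : (⟨g⁻¹ * e₁ * g, Subgroup.le_normalizer hm⟩ : Subgroup.normalizer (E : Set G)) =
              g'⁻¹ * nE e₁ * g' := Subtype.ext rfl
          rw [hh, map_mul, map_mul, map_inv, MulAut.mul_apply, MulAut.mul_apply, hfix g hg]
          have he : act hb (nE e₁) (cls w) = cls w := (D.fixed_of_tau hb _ w).2 (by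
            rw [D.tau_E hb e₁.2, hw, he₁]
            ext i; fin_cases i <;> simp [upperUni_coe, Matrix.mulVec, dotProduct, Fin.sum_univ_two])
          rw [he, ← hfix g hg, ← MulAut.mul_apply, inv_mul_cancel, MulAut.one_apply, hfix g hg]
      have hcw : cj (nE ⟨_, hm⟩) (C c w) = C c w := hline _ hf _ (by rw [hCψ]; simp)
      have hxe : cj (nE e₁) x = x := by
        have h2 : g⁻¹ * e₁ * g * (C c w : G) * (g⁻¹ * e₁ * g)⁻¹ = (C c w : G) := congrArg Subtype.val hcw
        apply Subtype.ext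
        show (e₁ : G) * (g * (C c w : G) * g⁻¹) * (e₁ : G)⁻¹ = g * (C c w : G) * g⁻¹
        calc _ = g * (g⁻¹ * e₁ * g * (C c w : G) * (g⁻¹ * e₁ * g)⁻¹) * g⁻¹ := by group
          _ = _ := by rw [h2]
      have h3 : (D.ψ (cj (nE e₁) x)).toAdd 0 = (D.ψ x).toAdd 0 := by rw [hxe]
      rw [D.compat e₁ x _ rfl, he₁] at h3
      simpa [upperUni_coe, Matrix.mulVec, dotProduct, Fin.sum_univ_two] using h3
    have hx0 : (D.ψ x).toAdd 0 ≠ 0 := fun h0 => by
      have h1 : (D.ψ x).toAdd = 0 := funext (Fin.forall_fin_two.2 ⟨h0, hx1⟩)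
      rw [hx, ← D.tau_psi hb, ← D.tau_zero hb g'] at h1
      have := congrFun (D.tau_inj hb g' h1) 0
      rw [hCψ] at this
      exact c.ne_zero (by simpa using this)
    refine ⟨Units.mk0 _ hx0, ?_, funext (Fin.forall_fin_two.2 ⟨by simp, by simp [hx1]⟩)⟩
    -- the conjugate of `t c` moves `w` as `t d`
    have hm : g * t c * g⁻¹ ∈ E := (Subgroup.mem_normalizer_iff.1 (hPE hg) _).1 (t c).2
    set d := Units.mk0 _ hx0 with hd
    have hx' : x = cj (nE ⟨_, hm⟩) w * z := by
      have h1 : x = cj (nE ⟨_, hm⟩) (cj g' w) := Subtype.ext (by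
        simp [x, C, cj_coe, nE, g', mul_assoc])
      rw [h1, hgw, map_mul]
      congr 1
      exact Subtype.ext (by rw [cj_coe, Subgroup.mem_centralizer_iff.1 hz _ hm, mul_inv_cancel_right])
    rw [hx']
    congr 1
    have hzψ : D.ψ z = 1 := (D.ker z).2 hz
    have hρ : (D.ρ ((t d)⁻¹ * ⟨_, hm⟩)).1.mulVec ![1, 0] = ![1, 0] := by
      have e1 : (D.ψ (cj (nE ⟨_, hm⟩) w)).toAdd = ![(d : K), 0] := by
        have : (D.ψ x).toAdd = ![(d : K), 0] := funext (Fin.forall_fin_two.2 ⟨by simp [d], by simp [hx1]⟩)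
        rwa [hx', map_mul, hzψ, mul_one] at this
      rw [D.compat ⟨_, hm⟩ w _ rfl, hw] at e1
      rw [map_mul, map_inv, Matrix.SpecialLinearGroup.coe_mul, ← Matrix.mulVec_mulVec, e1, ht]
      ext i
      fin_cases i <;>
        simp [diagSL_coe, Matrix.mulVec, dotProduct, Fin.sum_univ_two, Matrix.SpecialLinearGroup.coe_inv,
          Matrix.adjugate_fin_two]
    have h5 := congrArg (fun y => cj (nE (t d)) y) (hline _ hρ w (by rw [hw]; simp))
    simp only [← MulAut.mul_apply] at h5
    refine Eq.trans (Subtype.ext ?_) h5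
    simp [cj_coe, nE, mul_assoc]
  choose d hd hdψ using hperm
  have hinj : Function.Injective d := fun a b h => by
    have e : D.tau hb g' ![(a : K), 0] = D.tau hb g' ![(b : K), 0] := by
      rw [← hCψ a, ← hCψ b, D.tau_psi, D.tau_psi, hdψ, hdψ, h]
    exact Units.ext (by simpa using congrFun (D.tau_inj hb g' e) 0)
  have hσg : cj g' σ = σ * z := by
    have hcard : z ^ Fintype.card Kˣ = z := by
      rw [Fintype.card_units]
      obtain ⟨n, hn⟩ := D.card_eq
      rw [hp, Nat.card_eq_fintype_card] at hn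
      have h4' : 4 ≤ Fintype.card K := by rwa [Nat.card_eq_fintype_card] at h4
      obtain ⟨r, hr⟩ : ∃ r, n = r + 1 := ⟨n - 1, by
        rcases Nat.eq_zero_or_pos n with h | h
        · rw [h] at hn; omega
        · omega⟩
      rw [show Fintype.card K - 1 = 2 * (2 ^ r - 1) + 1 by
        have := Nat.one_le_two_pow (n := r)
        rw [hn, hr, pow_succ]; omega]
      rw [pow_succ, pow_mul, pow_two, hsq, one_pow, one_mul]
    show cj g' (∏ c : Kˣ, C c w) = _
    rw [map_prod, Finset.prod_congr rfl fun c _ => hd c, Finset.prod_mul_distrib, Finset.prod_const,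
      Finset.card_univ, hcard]
    congr 1
    exact Fintype.prod_bijective d (Finite.injective_iff_bijective.1 hinj) _ _ fun c => rfl
  have : cj g' (w * σ) = w * σ := by
    rw [map_mul, hgw, hσg, mul_mul_mul_comm, hsq z, mul_one]
  exact congrArg Subtype.val this

/-- A fixed class has a fixed lift. -/
theorem exists_fixed_lift (hb : IsBlock p E) {P : Subgroup G} (hPE : P ≤ Subgroup.normalizer (E : Set G))
    (w : blockMod p E) (hfix : ∀ g, ∀ hg : g ∈ P, act hb ⟨g, hPE hg⟩ (cls w) = cls w) :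
    ∃ u' : blockMod p E, cls u' = cls w ∧ ∀ g ∈ P, g * (u' : G) * g⁻¹ = u' := by
  by_cases hw1 : cls w = 1
  · exact ⟨1, by rw [hw1]; rfl, fun g _ => by simp⟩
  have htriv : (∀ u ∈ blockMod p E, u ∈ Subgroup.centralizer (E : Set G) → u = 1) →
      ∃ u' : blockMod p E, cls u' = cls w ∧ ∀ g ∈ P, g * (u' : G) * g⁻¹ = u' := fun h => by
    refine ⟨w, rfl, fun g hg => ?_⟩
    have h1 := hfix g hg
    rw [act_cls, cls_eq hb] at h1
    exact inv_mul_eq_one.1 (h _ (mul_mem (inv_mem (conj_mem_blockMod (hPE hg) w.2)) w.2) h1)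
  by_cases hp : p = 2
  swap
  · exact htriv (exists_inverting hb hp).2
  rcases exists_coords hb with ⟨F, _, _, ⟨D⟩⟩ | ⟨m, ⟨D⟩⟩
  swap
  · exact htriv (D.inf_bot hb)
  obtain ⟨-, ⟨hbig, h4⟩ | ⟨-, hcard⟩⟩ := field_cases D
  swap
  · exact htriv (small_of_card_two D hb hp (hcard.trans hp)).inf_bot
  haveI := Fintype.ofFinite F
  have hperf : commutator SL(2, F) = ⊤ :=
    CfsgLib.Classical.Linear.commutator_sl_fin_eq_top 2 fun _ => by
      obtain ⟨t, h0, h1⟩ := hbig; exact ⟨t, h0, by rwa [pow_two]⟩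
  have hv : (D.ψ w).toAdd ≠ 0 := fun h => hw1 ((cls_eq_one hb).2 ((D.ker w).1 (Multiplicative.toAdd.injective h)))
  obtain ⟨A, hA⟩ := exists_twist D hv
  refine exists_fixed_lift_linear (D.twist A) hb hp (fun s => ?_) h4 hPE w hA hfix
  have : s ∈ (D.twist A).ρ.range := by rw [(D.twist A).range_eq, hperf]; exact Subgroup.mem_top s
  exact this

end CfsgLib.BaumannBlock.Subnormal
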