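import Mathlib
import Cfsg.Agent.BaumannBlock.Subnormal.Dichotomy
import Cfsg.Agent.BaumannBlock.Subnormal.Lift

/-!
The Baumann subgroups normalize a subnormal block.
-/

set_option autoImplicit false

open scoped MatrixGroups commutatorElement

namespace CfsgLib.BaumannBlock.Subnormal

open Cfsg CentModule

variable {G : Type*} [Group G] [Finite G] {p : ℕ} [Fact p.Prime] {E : Subgroup G}

theorem O_le_sylow (T : Sylow p G) : pCore p G ≤ (T : Subgroup G) := by
  haveI : (pCore p G).Normal := normal_O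
  have h := T.3 (IsPGroup.to_sup_of_normal_left (pgroup_O (G := G) (p := p)) T.2) le_sup_right
  exact h ▸ le_sup_left

theorem V_comm {a b : G} (ha : a ∈ omegaOneCenter p (pCore p G)) (hb : b ∈ omegaOneCenter p (pCore p G)) :
    a * b = b * a := omegaOneCenter_comm _ ha hb

/-- A maximal elementary abelian subgroup moves a subgroup of `V` little. -/
theorem maxElem_count (T : Sylow p G) {A W : Subgroup G} (hA : A ∈ LocalP.maxElemIn p (T : Subgroup G))
    (hW : W ≤ omegaOneCenter p (pCore p G)) :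
    Nat.card W * Nat.card ↥(A ⊓ Subgroup.centralizer (W : Set G)) ≤
      Nat.card A * Nat.card ↥(W ⊓ Subgroup.centralizer (A : Set G)) := by
  set B := A ⊓ Subgroup.centralizer (W : Set G)
  have hWel : IsElementaryAbelian p W := LocalP.isElementaryAbelian_iff.2
    ⟨fun a ha b hb => V_comm (hW ha) (hW hb), fun a ha => omegaOneCenter_pow _ (hW ha)⟩
  have hBel : IsElementaryAbelian p (B ⊔ W) := LocalP.isElementaryAbelian_sup
    (LocalP.isElementaryAbelian_mono hA.2.1 inf_le_left) hWel
    fun a ha v hv => (Subgroup.mem_centralizer_iff.1 (Subgroup.mem_inf.1 ha).2 v hv).symm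
  have hle : B ⊔ W ≤ (T : Subgroup G) :=
    sup_le (inf_le_left.trans hA.1) ((hW.trans (omegaOneCenter_le _)).trans (O_le_sylow T))
  calc Nat.card W * Nat.card ↥B = Nat.card ↥B * Nat.card W := mul_comm _ _
    _ ≤ Nat.card ↥(B ⊔ W) * Nat.card ↥(B ⊓ W) := LocalP.card_mul_le_card_sup_mul_card_inf B W
    _ ≤ Nat.card A * Nat.card ↥(W ⊓ Subgroup.centralizer (A : Set G)) := by
      refine Nat.mul_le_mul (hA.2.2 _ hle hBel) (Subgroup.card_le_of_le fun x hx => ?_)
      obtain ⟨hxB, hxW⟩ := Subgroup.mem_inf.1 hx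
      exact Subgroup.mem_inf.2 ⟨hxW, Subgroup.mem_centralizer_iff.2 fun a ha =>
        (LocalP.isElementaryAbelian_iff.1 hA.2.1).1 a ha x (Subgroup.mem_inf.1 hxB).1⟩

/-- An element moving the block maps its module into the centralizer of the block. -/
theorem conj_central (hb : IsBlock p E) (hs : E.IsSubnormal) {g : G}
    (hg : g ∉ Subgroup.normalizer (E : Set G)) {u : G} (hu : u ∈ blockMod p E) :
    g * u * g⁻¹ ∈ Subgroup.centralizer (E : Set G) := by
  have hne : E ≠ E.map (MulAut.conj g).toMonoidHom := fun h =>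
    hg (Subgroup.mem_normalizer_iff_map_conj_eq.2 h.symm)
  have h := (eq_or_sep _ E _ le_rfl hb (hb.conj g) hs
    (hs.map (f := (MulAut.conj g).toMonoidHom) (MulAut.conj g).surjective) hne).2.2
  refine Subgroup.mem_centralizer_iff.2 fun e he => (Subgroup.mem_centralizer_iff.1 (h he) _ ?_).symm
  rw [← map_blockMod]
  exact ⟨u, hu, rfl⟩

/-- The classes fixed by a set of elements. -/
def fixedSec (hb : IsBlock p E) (P : Subgroup G) : Subgroup (Sec p E) where
  carrier := {x | ∀ g : Subgroup.normalizer (E : Set G), (g : G) ∈ P → act hb g x = x}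
  one_mem' g _ := map_one (act hb g)
  mul_mem' {x y} hx hy g hg := by rw [map_mul, hx g hg, hy g hg]
  inv_mem' {x} hx g hg := by rw [map_inv, hx g hg]

/-- The counting over the orbit of a block under a maximal elementary abelian subgroup. -/
theorem orbit_count (hb : IsBlock p E) (hs : E.IsSubnormal) (T : Sylow p G) {A : Subgroup G}
    (hA : A ∈ LocalP.maxElemIn p (T : Subgroup G)) (C : Subgroup (blockMod p E)) :
    Nat.card ↥(C.map (QuotientGroup.mk' (zSub p E))) ^
        (((A ⊓ Subgroup.normalizer (E : Set G)).subgroupOf A).index) *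
      Nat.card ↥(A ⊓ Subgroup.normalizer (E : Set G) ⊓
        Subgroup.centralizer ((C.map (blockMod p E).subtype : Subgroup G) : Set G)) ≤
      Nat.card ↥(C.map (QuotientGroup.mk' (zSub p E)) ⊓ fixedSec hb (A ⊓ Subgroup.normalizer (E : Set G))) *
        Nat.card A := by
  classical
  set N := Subgroup.normalizer (E : Set G) with hN
  set A₀ := A ⊓ N with hA₀
  set H := A₀.subgroupOf A with hH
  set R := C.map (QuotientGroup.mk' (zSub p E)) with hR
  set V := omegaOneCenter p (pCore p G) with hV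
  have hAc : ∀ a ∈ A, ∀ b ∈ A, a * b = b * a := (LocalP.isElementaryAbelian_iff.1 hA.2.1).1
  let Q := A ⧸ H
  letI : Fintype Q := Fintype.ofFinite _
  let r : Q → G := fun x => ((x.out : A) : G)
  have hr : ∀ x, r x ∈ A := fun x => x.out.2
  have hsep : ∀ x y, x ≠ y → (r y)⁻¹ * r x ∉ N := fun x y hxy h => hxy (by
    rw [← QuotientGroup.out_eq' x, ← QuotientGroup.out_eq' y]
    exact (QuotientGroup.eq.2 (Subgroup.mem_subgroupOf.2 (Subgroup.mem_inf.2
      ⟨mul_mem (inv_mem (hr y)) (hr x), h⟩))).symm)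
  letI : CommGroup V :=
    { (inferInstance : Group V) with mul_comm := fun a b => Subtype.ext (V_comm a.2 b.2) }
  let term : (Q → C) → Q → V := fun f x =>
    ⟨r x * (f x : blockMod p E) * (r x)⁻¹, normal_V_conj _ _ (hb.facts.le_V (f x : blockMod p E).2)⟩
  let Φ : (Q → C) →* G := V.subtype.comp (MonoidHom.mk' (fun f => ∏ x, term f x) fun f g => by
    rw [← Finset.prod_mul_distrib]
    exact Finset.prod_congr rfl fun x _ => Subtype.ext (by simp [term, mul_assoc]))
  have hΦ : ∀ f, Φ f = ((∏ x, term f x : V) : G) := fun f => rfl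
  -- the components
  have hcomp : ∀ f y, ((f y : blockMod p E) : G)⁻¹ * ((r y)⁻¹ * Φ f * r y) ∈
      Subgroup.centralizer (E : Set G) := by
    intro f y
    rw [hΦ, ← Finset.mul_prod_erase Finset.univ (term f) (Finset.mem_univ y), Subgroup.coe_mul]
    have : ∀ s : Finset Q, y ∉ s → (r y)⁻¹ * ((∏ x ∈ s, term f x : V) : G) * r y ∈
        Subgroup.centralizer (E : Set G) := by
      intro s
      induction s using Finset.induction_on with
      | empty => intro _; simp
      | insert x s hx ih =>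
        intro hy
        rw [Finset.mem_insert, not_or] at hy
        rw [Finset.prod_insert hx, Subgroup.coe_mul,
          show (r y)⁻¹ * ((term f x : G) * ((∏ x ∈ s, term f x : V) : G)) * r y =
            ((r y)⁻¹ * r x) * (f x : blockMod p E) * ((r y)⁻¹ * r x)⁻¹ *
              ((r y)⁻¹ * ((∏ x ∈ s, term f x : V) : G) * r y) by simp [term, mul_assoc]]
        exact mul_mem (conj_central hb hs (hsep x y (Ne.symm hy.1)) (f x : blockMod p E).2) (ih hy.2)
    convert this (Finset.univ.erase y) (Finset.notMem_erase y _) using 1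
    simp [term, mul_assoc]
  -- the fixed tuples
  let P0 : Subgroup (Q → C) := (Subgroup.centralizer (A : Set G)).comap Φ
  have hfix : ∀ f ∈ P0, ∀ y, ∀ a ∈ A, ((f y : blockMod p E) : G)⁻¹ * (a * Φ f * a⁻¹) ∈
      Subgroup.centralizer (E : Set G) := by
    intro f hf y a ha
    have h1 : (r y)⁻¹ * Φ f * r y = Φ f := by
      rw [mul_assoc, ← Subgroup.mem_centralizer_iff.1 hf _ (hr y), inv_mul_cancel_left]
    have h2 : a * Φ f * a⁻¹ = Φ f := by
      rw [Subgroup.mem_centralizer_iff.1 hf a ha, mul_inv_cancel_right]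
    have := hcomp f y
    rw [h1] at this
    rwa [h2]
  let Ξ : (Q → C) →* (Q → Sec p E) := MonoidHom.mk' (fun f x => cls (f x : blockMod p E)) fun f g => rfl
  have hΞrange : Nat.card Ξ.range = Nat.card R ^ H.index := by
    rw [← show Nat.card (Q → R) = Nat.card R ^ H.index by rw [Nat.card_fun]; rfl]
    refine Nat.card_congr
      { toFun := fun φ x => ⟨φ.1 x, by obtain ⟨f, hf⟩ := φ.2; rw [← hf]; exact ⟨_, (f x).2, rfl⟩⟩
        invFun := fun φ => ⟨fun x => φ x, by
          choose u hu hu' using fun x => (φ x).2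
          exact ⟨fun x => ⟨u x, hu x⟩, funext hu'⟩⟩
        left_inv := fun φ => rfl
        right_inv := fun φ => rfl }
  have hconst : ∀ f ∈ P0, ∀ x y, cls (f x : blockMod p E) = cls (f y : blockMod p E) := by
    intro f hf x y
    have hx := hfix f hf x 1 (one_mem _)
    have hy := hfix f hf y 1 (one_mem _)
    refine (cls_eq hb).2 ?_
    have := mul_mem hx (inv_mem hy)
    simpa [mul_assoc] using this
  have hP0 : Nat.card P0 ≤ Nat.card Ξ.ker * Nat.card ↥(R ⊓ fixedSec hb A₀) := by
    have h1 := Subgroup.card_mul_index (Ξ.comp P0.subtype).ker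
    rw [Subgroup.index_ker] at h1
    rw [← h1]
    refine Nat.mul_le_mul ?_ ?_
    · exact Nat.card_le_card_of_injective (fun f => (⟨f.1.1, f.2⟩ : Ξ.ker))
        fun a b h => Subtype.ext (Subtype.ext (congrArg (fun z : Ξ.ker => (z : Q → C)) h))
    · let x₀ : Q := QuotientGroup.mk 1
      refine Nat.card_le_card_of_injective (fun φ => (⟨φ.1 x₀, ?_⟩ : ↥(R ⊓ fixedSec hb A₀))) ?_
      · obtain ⟨⟨f, hf⟩, hφ⟩ := φ.2
        rw [← hφ]
        refine Subgroup.mem_inf.2 ⟨⟨_, (f x₀).2, rfl⟩, fun g hg => ?_⟩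
        show act hb g (cls (f x₀ : blockMod p E)) = cls (f x₀ : blockMod p E)
        rw [act_cls, cls_eq hb, cj_coe]
        have h2 := hfix f hf x₀ 1 (one_mem _)
        have h3 := hfix f hf x₀ g (Subgroup.mem_inf.1 hg).1
        have h4 := inv_mem (conj_mem_centralizer g.2 h2)
        have h5 := mul_mem h3 h4
        have h6 := inv_mem h5
        simpa [mul_assoc] using h6
      · rintro ⟨_, ⟨f, hf⟩, rfl⟩ ⟨_, ⟨f', hf'⟩, rfl⟩ h
        refine Subtype.ext (funext fun x => ?_)
        have h' : cls (f x₀ : blockMod p E) = cls (f' x₀ : blockMod p E) := congrArg Subtype.val h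
        show cls (f x : blockMod p E) = cls (f' x : blockMod p E)
        rw [hconst f hf x x₀, h', hconst f' hf' x x₀]
  -- assembling
  set Y := Φ.range with hY
  have hYV : Y ≤ V := by rintro _ ⟨f, rfl⟩; exact (∏ x, term f x).2
  have hP0Y : Nat.card P0 * Nat.card Y = Nat.card (Q → C) * Nat.card ↥(Y ⊓ Subgroup.centralizer (A : Set G)) := by
    have h1 := Subgroup.card_mul_index P0
    rw [Subgroup.index_comap] at h1
    have h2 := Subgroup.relIndex_mul_relIndex ⊥ (Y ⊓ Subgroup.centralizer (A : Set G)) Y bot_le inf_le_left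
    simp only [Subgroup.relIndex_bot_left, Subgroup.inf_relIndex_left] at h2
    rw [← h1, ← h2]; ring
  have hΞ : Nat.card (Q → C) = Nat.card Ξ.ker * Nat.card R ^ H.index := by
    rw [← hΞrange, ← Subgroup.index_ker, Subgroup.card_mul_index]
  have hcount := maxElem_count T hA hYV
  have hcent : A₀ ⊓ Subgroup.centralizer ((C.map (blockMod p E).subtype : Subgroup G) : Set G) ≤
      A ⊓ Subgroup.centralizer (Y : Set G) := by
    intro a ha
    obtain ⟨⟨haA, -⟩, haC⟩ := ha
    refine Subgroup.mem_inf.2 ⟨haA, Subgroup.mem_centralizer_iff.2 ?_⟩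
    rintro _ ⟨f, rfl⟩
    rw [hΦ]
    refine Finset.prod_induction (term f) (fun v : V => (v : G) * a = a * v) (fun u v hu hv => ?_) (by simp)
      fun x _ => ?_
    · rw [Subgroup.coe_mul, mul_assoc, hv, ← mul_assoc, hu, mul_assoc]
    · have hfa := Subgroup.mem_centralizer_iff.1 haC _ ⟨_, (f x).2, rfl⟩
      have hra := hAc _ (hr x) a haA
      show Commute (r x * ((f x : blockMod p E) : G) * (r x)⁻¹) a
      exact (Commute.mul_left hra hfa).mul_left (Commute.inv_left hra)
  have e1 : Nat.card R ^ H.index * Nat.card ↥(Y ⊓ Subgroup.centralizer (A : Set G)) ≤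
      Nat.card ↥(R ⊓ fixedSec hb A₀) * Nat.card Y := by
    refine Nat.le_of_mul_le_mul_left ?_ (Nat.card_pos (α := Ξ.ker))
    rw [← mul_assoc, ← hΞ, ← hP0Y, ← mul_assoc]
    exact Nat.mul_le_mul_right _ hP0
  refine Nat.le_of_mul_le_mul_right ?_ (Nat.card_pos (α := ↥(Y ⊓ Subgroup.centralizer (A : Set G))))
  calc Nat.card R ^ H.index * Nat.card ↥(A₀ ⊓ Subgroup.centralizer ((C.map (blockMod p E).subtype : Subgroup G) : Set G)) *
        Nat.card ↥(Y ⊓ Subgroup.centralizer (A : Set G))
      ≤ Nat.card R ^ H.index * Nat.card ↥(A ⊓ Subgroup.centralizer (Y : Set G)) *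
        Nat.card ↥(Y ⊓ Subgroup.centralizer (A : Set G)) := by
        gcongr; exact Subgroup.card_le_of_le hcent
    _ = (Nat.card R ^ H.index * Nat.card ↥(Y ⊓ Subgroup.centralizer (A : Set G))) *
        Nat.card ↥(A ⊓ Subgroup.centralizer (Y : Set G)) := by ring
    _ ≤ (Nat.card ↥(R ⊓ fixedSec hb A₀) * Nat.card Y) * Nat.card ↥(A ⊓ Subgroup.centralizer (Y : Set G)) :=
        Nat.mul_le_mul_right _ e1
    _ ≤ Nat.card ↥(R ⊓ fixedSec hb A₀) * (Nat.card A * Nat.card ↥(Y ⊓ Subgroup.centralizer (A : Set G))) := by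
        rw [mul_assoc]; exact Nat.mul_le_mul_left _ hcount
    _ = _ := by ring

theorem sec_card_ge (hb : IsBlock p E) : 3 ≤ Nat.card (Sec p E) := by
  by_contra hlt
  refine not_le_pgroup hb (isPGroup_pCoreOf E) fun e he => mem_Q_of_act_eq_one hb he ?_
  refine MulEquiv.ext fun x => ?_
  rw [MulAut.one_apply]
  by_contra hne
  have hx : x ≠ 1 := fun h => hne (by rw [h, map_one])
  have hax : act hb ⟨e, Subgroup.le_normalizer he⟩ x ≠ 1 := fun h => hx (by simpa using h)
  haveI := Fintype.ofFinite (Sec p E)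
  classical
  have h3 : ({1, x, act hb ⟨e, Subgroup.le_normalizer he⟩ x} : Finset (Sec p E)).card = 3 :=
    Finset.card_eq_three.2 ⟨1, x, _, Ne.symm hx, Ne.symm hax, Ne.symm hne, rfl⟩
  have := Finset.card_le_univ ({1, x, act hb ⟨e, Subgroup.le_normalizer he⟩ x} : Finset (Sec p E))
  rw [h3, ← Nat.card_eq_fintype_card] at this
  exact hlt this

/-- Thompson subgroups normalize the block. -/
theorem maxElem_le_normalizer (hb : IsBlock p E) (hs : E.IsSubnormal) (T : Sylow p G) {A : Subgroup G}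
    (hA : A ∈ LocalP.maxElemIn p (T : Subgroup G)) : A ≤ Subgroup.normalizer (E : Set G) := by
  classical
  by_contra hmove
  set N := Subgroup.normalizer (E : Set G) with hN
  set A₀ := A ⊓ N with hA₀
  set k := (A₀.subgroupOf A).index with hk
  have hApg : IsPGroup p A := LocalP.isPGroup_of_isElementaryAbelian hA.2.1
  have hAc := (LocalP.isElementaryAbelian_iff.1 hA.2.1).1
  obtain ⟨j, hj⟩ : ∃ j, k = p ^ j := hApg.index _
  have hk1 : k ≠ 1 := fun h => hmove fun a ha => by
    have : (⟨a, ha⟩ : A) ∈ A₀.subgroupOf A := (Subgroup.index_eq_one.1 h) ▸ Subgroup.mem_top _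
    exact (Subgroup.mem_inf.1 (Subgroup.mem_subgroupOf.1 this)).2
  have hj1 : 1 ≤ j := Nat.one_le_iff_ne_zero.2 fun h => hk1 (by rw [hj, h, pow_zero])
  have hcardA : Nat.card A = Nat.card ↥A₀ * k := by
    rw [hk, ← Nat.card_congr (Subgroup.subgroupOfEquivOfLe (inf_le_left : A₀ ≤ A)).toEquiv, Subgroup.card_mul_index]
  -- the fixed classes
  set F := fixedSec hb A₀ with hF
  let C₀ : Subgroup (blockMod p E) := (Subgroup.centralizer (A₀ : Set G)).subgroupOf (blockMod p E)
  have hC₀ : C₀.map (QuotientGroup.mk' (zSub p E)) = F := by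
    refine le_antisymm ?_ fun x hx => ?_
    · rintro _ ⟨u, hu, rfl⟩ g hg
      show act hb g (cls u) = cls u
      have hgu : (g : G) * u = u * g := Subgroup.mem_centralizer_iff.1 hu g hg
      rw [act_cls, show cj g u = u from Subtype.ext (by
        rw [cj_coe, hgu, mul_inv_cancel_right])]
    · obtain ⟨w, rfl⟩ := cls_surj x
      obtain ⟨u', hu', hfix⟩ := exists_fixed_lift hb (inf_le_right : A₀ ≤ N) w fun g hg => hx ⟨g, _⟩ hg
      exact ⟨u', Subgroup.mem_centralizer_iff.2 fun g hg => mul_inv_eq_iff_eq_mul.1 (hfix g hg), hu'⟩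
  have hSnt : (⊤ : Subgroup (Sec p E)) ≠ ⊥ := fun h => by
    have := sec_card_ge hb
    rw [← Subgroup.card_top, h, Subgroup.card_bot] at this
    omega
  have hFne : F ≠ ⊥ := by
    obtain ⟨x, -, hx1, hx⟩ := exists_fixed hb (P := A₀.subgroupOf N)
      ((hApg.to_le inf_le_left).of_equiv (Subgroup.subgroupOfEquivOfLe inf_le_right).symm) ⊤
      (fun _ _ _ _ => Subgroup.mem_top _) hSnt
    intro h
    have hxF : x ∈ F := fun g hg => hx g hg
    rw [h] at hxF
    exact hx1 (Subgroup.mem_bot.1 hxF)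
  have hp2 := (Fact.out : p.Prime).two_le
  have hFp : p ≤ Nat.card F := by
    obtain ⟨n, hn⟩ := IsPGroup.iff_card.1 ((Sec.isPGroup hb).to_subgroup F)
    rcases Nat.eq_zero_or_pos n with rfl | h
    · exact absurd (Subgroup.card_eq_one.1 (by simpa using hn)) hFne
    · exact hn ▸ Nat.le_self_pow h.ne' p
  have h1 := orbit_count hb hs T hA C₀
  rw [hC₀, ← hF, inf_idem, hcardA] at h1
  have hcent : A₀ ⊓ Subgroup.centralizer ((C₀.map (blockMod p E).subtype : Subgroup G) : Set G) = A₀ :=
    inf_eq_left.2 fun a ha => Subgroup.mem_centralizer_iff.2 (by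
      rintro _ ⟨u, hu, rfl⟩
      exact (Subgroup.mem_centralizer_iff.1 hu a ha).symm)
  rw [hcent] at h1
  have h2 : Nat.card F ^ k ≤ Nat.card F * k := by
    refine Nat.le_of_mul_le_mul_right ?_ (Nat.card_pos (α := ↥A₀))
    calc _ ≤ _ := h1
      _ = _ := by ring
  have hk2 : k = 2 ∧ p = 2 ∧ Nat.card F = 2 := by
    have h3 : Nat.card F ^ (k - 1) ≤ k := by
      refine Nat.le_of_mul_le_mul_left ?_ (lt_of_lt_of_le (by omega : 0 < p) hFp)
      rwa [← pow_succ', Nat.sub_add_cancel (by rw [hj]; exact Nat.one_le_pow _ _ (by omega))]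
    have h4 : p ^ (k - 1) ≤ p ^ j := (Nat.pow_le_pow_left hFp _).trans (h3.trans hj.le)
    have h5 := (Nat.pow_le_pow_iff_right hp2).1 h4
    have h6 : 2 ^ j ≤ k := hj ▸ Nat.pow_le_pow_left hp2 j
    have h7 : j < 2 ^ j := Nat.lt_two_pow_self
    obtain rfl : j = 1 := by
      by_contra hne
      obtain ⟨i, rfl⟩ : ∃ i, j = i + 2 := ⟨j - 2, by omega⟩
      have : i < 2 ^ i := Nat.lt_two_pow_self
      have : 2 ^ (i + 2) = 4 * 2 ^ i := by ring
      omega
    rw [pow_one] at hj
    refine ⟨by omega, by omega, ?_⟩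
    have : k = 2 := by omega
    rw [this, pow_one] at h3
    omega
  obtain ⟨hk2, rfl, hF2⟩ := hk2
  -- the second count
  have h8 := orbit_count hb hs T hA ⊤
  have hU : (⊤ : Subgroup (blockMod 2 E)).map (blockMod 2 E).subtype = blockMod 2 E := by
    rw [← MonoidHom.range_eq_map, Subgroup.range_subtype]
  rw [Subgroup.map_top_of_surjective _ (QuotientGroup.mk'_surjective _), top_inf_eq, Subgroup.card_top, hU,
    ← hF, hF2, hcardA, ← hk, hk2] at h8
  set M := Nat.card (Sec 2 E) with hM
  set K := A₀ ⊓ Subgroup.centralizer (blockMod 2 E : Set G) with hK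
  letI : CommGroup (Sec 2 E) := { (inferInstance : Group (Sec 2 E)) with mul_comm := Sec.comm hb }
  obtain ⟨c₀, hc₀F, hc₀⟩ : ∃ c ∈ F, c ≠ 1 := by
    by_contra! h
    exact hFne ((Subgroup.eq_bot_iff_forall _).2 h)
  obtain ⟨φ, hφ⟩ := CommGroup.exists_apply_ne_one_of_hasEnoughRootsOfUnity (Sec 2 E) ℂ hc₀
  have hbound : Nat.card ↥A₀ ≤ Nat.card ↥K * (M - 1) := by
    let toN : A₀ → N := fun a => ⟨a, (Subgroup.mem_inf.1 a.2).2⟩
    have hne : ∀ a : A₀, φ.comp (act hb (toN a)).toMonoidHom ≠ 1 := fun a h => hφ (by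
      have := DFunLike.congr_fun h c₀
      rwa [MonoidHom.comp_apply, MonoidHom.one_apply, MulEquiv.coe_toMonoidHom, hc₀F (toN a) a.2] at this)
    let Hm := {χ : Sec 2 E →* ℂˣ // χ ≠ 1}
    have hHm : Nat.card Hm = M - 1 := by
      haveI : Finite (Sec 2 E →* ℂˣ) := Nat.finite_of_card_ne_zero (by
        rw [CommGroup.card_monoidHom_of_hasEnoughRootsOfUnity (Sec 2 E) ℂ]; exact Nat.card_pos.ne')
      letI := Fintype.ofFinite (Sec 2 E →* ℂˣ)
      rw [hM, ← CommGroup.card_monoidHom_of_hasEnoughRootsOfUnity (Sec 2 E) ℂ, Nat.card_eq_fintype_card,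
        Nat.card_eq_fintype_card, Fintype.card_subtype_compl, Fintype.card_subtype_eq]
    haveI : Finite Hm := Nat.finite_of_card_ne_zero (by rw [hHm]; have := sec_card_ge hb; omega)
    let g : A₀ ⧸ K.subgroupOf A₀ → Hm := fun x => ⟨_, hne x.out⟩
    have hg : Function.Injective g := by
      intro x y hxy
      rw [← QuotientGroup.out_eq' x, ← QuotientGroup.out_eq' y, QuotientGroup.eq, Subgroup.mem_subgroupOf]
      refine Subgroup.mem_inf.2 ⟨(x.out⁻¹ * y.out : A₀).2, ?_⟩
      have h9 : φ.comp (act hb (toN x.out)).toMonoidHom = φ.comp (act hb (toN y.out)).toMonoidHom :=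
        congrArg Subtype.val hxy
      set d := toN y.out * (toN x.out)⁻¹ with hd
      have hdA : (d : G) ∈ A₀ := mul_mem y.out.2 (inv_mem x.out.2)
      have hφd : ∀ z, φ (act hb d z) = φ z := fun z => by
        have := DFunLike.congr_fun h9 (act hb (toN x.out)⁻¹ z)
        simp only [MonoidHom.comp_apply, MulEquiv.coe_toMonoidHom, ← MulAut.mul_apply, ← map_mul,
          mul_inv_cancel, map_one, MulAut.one_apply] at this
        exact this.symm
      let I : Subgroup (Sec 2 E) :=
        (MonoidHom.mk' (fun z => act hb d z * z⁻¹) fun a b => by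
          rw [map_mul, mul_inv, mul_mul_mul_comm]).range
      have hI : I ≤ φ.ker := by
        rintro _ ⟨z, rfl⟩
        show φ (act hb d z * z⁻¹) = 1
        rw [map_mul, map_inv, hφd, mul_inv_cancel]
      have hIbot : I = ⊥ := by
        by_contra hne'
        obtain ⟨z, hzI, hz1, hz⟩ := exists_fixed hb (P := A₀.subgroupOf N)
          ((hApg.to_le inf_le_left).of_equiv (Subgroup.subgroupOfEquivOfLe inf_le_right).symm) I
          (fun b hb' x hx => by
            obtain ⟨z, rfl⟩ := hx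
            refine ⟨act hb b z, ?_⟩
            show act hb d (act hb b z) * (act hb b z)⁻¹ = act hb b (act hb d z * z⁻¹)
            have hbd : b * d = d * b :=
              Subtype.ext (hAc _ (Subgroup.mem_inf.1 (Subgroup.mem_subgroupOf.1 hb')).1 _ (Subgroup.mem_inf.1 hdA).1)
            rw [map_mul (act hb b), map_inv (act hb b), ← MulAut.mul_apply, ← MulAut.mul_apply,
              ← map_mul (act hb), ← map_mul (act hb), hbd]) hne'
        have hzF : z ∈ F := fun b hb' => hz b hb'
        obtain ⟨o, -, huniq⟩ := (Nat.card_eq_two_iff' (1 : F)).1 hF2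
        have e : z = c₀ := congrArg Subtype.val ((huniq ⟨z, hzF⟩ fun h => hz1 (congrArg Subtype.val h)).trans
          (huniq ⟨c₀, hc₀F⟩ fun h => hc₀ (congrArg Subtype.val h)).symm)
        exact hφ (e ▸ hI hzI)
      have hd1 : act hb d = 1 := MulEquiv.ext fun z => by
        have : act hb d z * z⁻¹ ∈ I := ⟨z, rfl⟩
        rw [hIbot, Subgroup.mem_bot, mul_inv_eq_one] at this
        exact this
      have h10 : ((x.out⁻¹ * y.out : A₀) : G) = d := hAc _ (inv_mem (Subgroup.mem_inf.1 x.out.2).1) _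
        (Subgroup.mem_inf.1 y.out.2).1
      rw [h10]
      exact centralizes_of_act_eq_one hb d hd1
    have := Nat.card_le_card_of_injective g hg
    rw [hHm] at this
    calc Nat.card ↥A₀ = Nat.card ↥K * Nat.card (A₀ ⧸ K.subgroupOf A₀) := by
          rw [← Nat.card_congr (Subgroup.subgroupOfEquivOfLe (inf_le_left : K ≤ A₀)).toEquiv, mul_comm,
            ← Subgroup.card_eq_card_quotient_mul_card_subgroup]
      _ ≤ _ := Nat.mul_le_mul_left _ this
  have h11 : M * M ≤ 4 * (M - 1) := by
    refine Nat.le_of_mul_le_mul_right ?_ (Nat.card_pos (α := ↥K))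
    calc M * M * Nat.card ↥K = M ^ 2 * Nat.card ↥K := by ring
      _ ≤ 2 * (Nat.card ↥A₀ * 2) := h8
      _ ≤ 2 * (Nat.card ↥K * (M - 1) * 2) := by gcongr
      _ = _ := by ring
  have := sec_card_ge hb
  obtain ⟨M', hM'⟩ : ∃ M', M = M' + 3 := ⟨M - 3, by omega⟩
  rw [hM', show M' + 3 - 1 = M' + 2 by omega] at h11
  nlinarith

theorem thompson_le_normalizer (hb : IsBlock p E) (hs : E.IsSubnormal) (T : Sylow p G) :
    thompsonSubgroupOf p (T : Subgroup G) ≤ Subgroup.normalizer (E : Set G) := by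
  rw [LocalP.thompsonSubgroupOf_eq_sSup]
  exact sSup_le fun A hA => maxElem_le_normalizer hb hs T hA

/-- A class fixed by the Thompson subgroup has a lift centralized by the Baumann subgroup. -/
theorem exists_lift_centralized (hb : IsBlock p E) (hs : E.IsSubnormal) (T : Sylow p G) (w : blockMod p E)
    (hw : cls w ∈ fixedSec hb (thompsonSubgroupOf p (T : Subgroup G))) :
    ∃ u : blockMod p E, cls u = cls w ∧
      ∀ b ∈ baumannSubgroupOf p (T : Subgroup G), b * (u : G) * b⁻¹ = u := by
  obtain ⟨u, hu, hfix⟩ := exists_fixed_lift hb (thompson_le_normalizer hb hs T) w fun g hg => hw ⟨g, _⟩ hg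
  refine ⟨u, hu, fun b hb' => ?_⟩
  have huV := hb.facts.le_V u.2
  have hup : (u : G) ^ p = 1 := omegaOneCenter_pow _ huV
  have hJ : ∀ g ∈ thompsonSubgroupOf p (T : Subgroup G), g * (u : G) = u * g := fun g hg =>
    mul_inv_eq_iff_eq_mul.1 (hfix g hg)
  have huJ : (u : G) ∈ thompsonSubgroupOf p (T : Subgroup G) := by
    obtain ⟨A, hA⟩ := LocalP.exists_maxElemIn (p := p) (T : Subgroup G)
    have hAJ : A ≤ thompsonSubgroupOf p (T : Subgroup G) := by
      rw [LocalP.thompsonSubgroupOf_eq_sSup]; exact le_sSup hA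
    exact hAJ (LocalP.mem_of_centralizes hA (O_le_sylow T (omegaOneCenter_le _ huV)) hup
      fun a ha => hJ a (hAJ ha))
  have humem : (u : G) ∈ omegaOne p (centerThompsonOf p (T : Subgroup G)) :=
    Subgroup.subset_closure ⟨Subgroup.mem_inf.2 ⟨huJ, Subgroup.mem_centralizer_iff.2 hJ⟩, hup⟩
  rw [← Subgroup.mem_centralizer_iff.1 (Subgroup.mem_inf.1 hb').2 _ humem, mul_inv_cancel_right]

/-- Baumann subgroups normalize the block. -/
theorem baumann_le_normalizer (hb : IsBlock p E) (hs : E.IsSubnormal) (T : Sylow p G) :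
    baumannSubgroupOf p (T : Subgroup G) ≤ Subgroup.normalizer (E : Set G) := by
  intro b hb'
  by_contra hbE
  have hJ := thompson_le_normalizer hb hs T
  obtain ⟨x, -, hx1, hx⟩ := exists_fixed hb
    (P := (thompsonSubgroupOf p (T : Subgroup G)).subgroupOf (Subgroup.normalizer (E : Set G)))
    ((T.2.to_le (LocalP.thompsonSubgroupOf_le _)).of_equiv (Subgroup.subgroupOfEquivOfLe hJ).symm) ⊤
    (fun _ _ _ _ => Subgroup.mem_top _) (fun h => by
      have := sec_card_ge hb
      rw [← Subgroup.card_top, h, Subgroup.card_bot] at this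
      omega)
  obtain ⟨w, rfl⟩ := cls_surj x
  obtain ⟨u, hu, hfix⟩ := exists_lift_centralized hb hs T w fun g hg => hx g hg
  have h := conj_central hb hs hbE u.2
  rw [hfix b hb'] at h
  exact hx1 (hu ▸ (cls_eq_one hb).2 h)

end CfsgLib.BaumannBlock.Subnormal
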