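import Mathlib
import Cfsg.Agent.BaumannBlock.Subnormal.Normal

/-!
The Baumann subgroups act linearly on the module of a linear block.
-/

set_option autoImplicit false

open scoped MatrixGroups commutatorElement

namespace CfsgLib.BaumannBlock.Subnormal

open Cfsg CentModule

variable {G : Type*} [Group G] [Finite G] {p : ℕ} [Fact p.Prime] {E : Subgroup G}
variable {K : Type} [Field K] [Finite K]

/-- The normalizer elements acting linearly in the given coordinates. -/
def linSub (D : LinCoords p E K) (hb : IsBlock p E) : Subgroup G where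
  carrier := {g | ∃ hg : g ∈ Subgroup.normalizer (E : Set G), ∀ (c : K) x,
    D.tau hb ⟨g, hg⟩ (c • x) = c • D.tau hb ⟨g, hg⟩ x}
  one_mem' := ⟨one_mem _, fun c x => by
    rw [show (⟨(1 : G), one_mem _⟩ : Subgroup.normalizer (E : Set G)) = 1 from rfl, D.tau_one, D.tau_one]⟩
  mul_mem' := by
    rintro g h ⟨hg, hg'⟩ ⟨hh, hh'⟩
    refine ⟨mul_mem hg hh, fun c x => ?_⟩
    rw [show (⟨g * h, mul_mem hg hh⟩ : Subgroup.normalizer (E : Set G)) = ⟨g, hg⟩ * ⟨h, hh⟩ from rfl,
      D.tau_mul, D.tau_mul, hh', hg']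
  inv_mem' := by
    rintro g ⟨hg, hg'⟩
    refine ⟨inv_mem hg, fun c x => D.tau_inj hb ⟨g, hg⟩ ?_⟩
    rw [hg', ← D.tau_mul, ← D.tau_mul, show (⟨g, hg⟩ : Subgroup.normalizer (E : Set G)) * ⟨g⁻¹, inv_mem hg⟩ = 1
      from Subtype.ext (mul_inv_cancel g), D.tau_one, D.tau_one]

theorem LinCoords.tau_twist (D : LinCoords p E K) (A : SL(2, K)) (hb : IsBlock p E)
    (g : Subgroup.normalizer (E : Set G)) (x : Fin 2 → K) :
    (D.twist A).tau hb g (A.1.mulVec x) = A.1.mulVec (D.tau hb g x) := by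
  obtain ⟨u, rfl⟩ := D.psi_surj x
  rw [D.tau_psi]
  exact (D.twist A).tau_psi hb g u

theorem mem_linSub_of_twist (D : LinCoords p E K) (A : SL(2, K)) (hb : IsBlock p E) {g : G}
    (h : g ∈ linSub (D.twist A) hb) : g ∈ linSub D hb := by
  obtain ⟨hg, hg'⟩ := h
  refine ⟨hg, fun c x => ?_⟩
  have hinj : Function.Injective A.1.mulVec := fun a b e => by
    have := congrArg ((A⁻¹).1.mulVec) e
    rwa [Matrix.mulVec_mulVec, Matrix.mulVec_mulVec, ← Matrix.SpecialLinearGroup.coe_mul, inv_mul_cancel,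
      Matrix.SpecialLinearGroup.coe_one, Matrix.one_mulVec, Matrix.one_mulVec] at this
  apply hinj
  rw [← D.tau_twist A hb, Matrix.mulVec_smul, hg', D.tau_twist A hb, Matrix.mulVec_smul]

theorem frob_eq_one [CharP K p] {x : K} {n : ℕ} (h : x ^ p ^ n = 1) : x = 1 :=
  iterateFrobenius_inj K p n (by rw [iterateFrobenius_def, iterateFrobenius_def, h, one_pow])

theorem zSub_card_mul : Nat.card (Sec p E) * Nat.card (zSub p E) = Nat.card (blockMod p E) :=
  (Subgroup.card_eq_card_quotient_mul_card_subgroup _).symm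

/-- A maximal elementary abelian subgroup with a fixed first basis vector acts linearly. -/
theorem maxElem_linear_aux (D : LinCoords p E K) (hb : IsBlock p E) (hs : E.IsSubnormal)
    (hfull : Function.Surjective D.ρ) (T : Sylow p G) {A : Subgroup G}
    (hA : A ∈ LocalP.maxElemIn p (T : Subgroup G))
    (he1 : ∀ g : Subgroup.normalizer (E : Set G), (g : G) ∈ A → D.tau hb g ![1, 0] = ![1, 0]) :
    A ≤ linSub D hb := by
  classical
  haveI := Fintype.ofFinite K
  haveI : CharP K p := (field_cases D).1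
  by_contra hnl
  obtain ⟨a, ha, hal⟩ := Set.not_subset.1 hnl
  have hAN := maxElem_le_normalizer hb hs T hA
  obtain ⟨hAc, hAp⟩ := LocalP.isElementaryAbelian_iff.1 hA.2.1
  let t : A → Subgroup.normalizer (E : Set G) := fun g => ⟨g, hAN g.2⟩
  have ht : ∀ g h, t (g * h) = t g * t h := fun g h => rfl
  have htcomm : ∀ g h, t g * t h = t h * t g := fun g h => Subtype.ext (hAc _ g.2 _ h.2)
  choose σ hσ using fun g => D.semilinear hb hfull (t g)
  have hne : (![1, 0] : Fin 2 → K) ≠ 0 := fun h => one_ne_zero (α := K) (congrFun h 0)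
  have huniq : ∀ g (s : K), D.tau hb (t g) (s • ![1, 0]) = σ g s • ![1, 0] := fun g s => by
    rw [hσ, he1 _ g.2]
  have hσmul : ∀ g h, σ (g * h) = (σ h).trans (σ g) := fun g h => RingEquiv.ext fun s => by
    refine smul_left_injective K hne ?_
    show σ (g * h) s • (![1, 0] : Fin 2 → K) = σ g (σ h s) • ![1, 0]
    rw [← huniq, ← huniq, ← huniq, ht, D.tau_mul]
  have hσ1 : σ 1 = RingEquiv.refl K := RingEquiv.ext fun s => by
    refine smul_left_injective K hne ?_
    show σ 1 s • (![1, 0] : Fin 2 → K) = s • ![1, 0]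
    rw [← huniq, show t 1 = 1 from rfl, D.tau_one]
  set s := σ ⟨a, ha⟩ with hs_def
  have hsne : ∃ c, s c ≠ c := by
    by_contra! h
    refine hal ⟨hAN ha, fun c x => ?_⟩
    rw [show (⟨a, hAN ha⟩ : Subgroup.normalizer (E : Set G)) = t ⟨a, ha⟩ from rfl, hσ, ← hs_def, h]
  -- the fixed field
  let L : Subfield K := s.toRingHom.eqLocusField (RingHom.id K)
  have hLmem : ∀ c, c ∈ L ↔ s c = c := fun c => Iff.rfl
  set q0 := Nat.card L with hq0
  have hq0p : p ≤ q0 := by
    haveI : CharP L p := (L.subtype.charP_iff L.subtype.injective p).2 inferInstance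
    rw [← Nat.card_zmod p]
    exact Nat.card_le_card_of_injective _ (ZMod.castHom (dvd_refl p) L).injective
  have hqq : q0 * q0 ≤ Nat.card K := by
    obtain ⟨c, hc⟩ := hsne
    rw [hq0, ← Nat.card_prod]
    refine Nat.card_le_card_of_injective (fun x : L × L => (x.1 : K) + x.2 * c) fun x y h => ?_
    have h' : ((x.1 : K) - y.1) = ((y.2 : K) - x.2) * c := by linear_combination h
    have h2 : (y.2 : K) = x.2 := by
      by_contra hne'
      refine hc ((hLmem c).1 ?_)
      rw [show c = ((x.1 : K) - y.1) / ((y.2 : K) - x.2) by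
        rw [h', mul_div_assoc, mul_comm, div_mul_cancel₀]; exact sub_ne_zero.2 hne']
      exact div_mem (sub_mem x.1.2 y.1.2) (sub_mem y.2.2 x.2.2)
    rw [h2, sub_self, zero_mul, sub_eq_zero] at h'
    exact Prod.ext (Subtype.ext h') (Subtype.ext h2.symm)
  -- the linear part
  let AL : Subgroup A :=
    { carrier := {g | σ g = RingEquiv.refl K}
      one_mem' := hσ1
      mul_mem' := fun {g h} hg hh => by
        show σ (g * h) = _
        rw [hσmul, show σ g = RingEquiv.refl K from hg, show σ h = RingEquiv.refl K from hh]; rfl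
      inv_mem' := fun {g} hg => by
        show σ g⁻¹ = _
        have h := hσmul g⁻¹ g
        rw [inv_mul_cancel, hσ1, show σ g = RingEquiv.refl K from hg] at h
        exact RingEquiv.ext fun c => (DFunLike.congr_fun h c).symm }
  have hidx : AL.index ≤ p := by
    letI : Algebra (ZMod p) K := ZMod.algebra K p
    have halg : ∀ (f : K ≃+* K) x, f (algebraMap (ZMod p) K x) = algebraMap (ZMod p) K x := fun f x =>
      RingHom.congr_fun (Subsingleton.elim (f.toRingHom.comp (algebraMap (ZMod p) K)) (algebraMap (ZMod p) K)) x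
    let toGal : A → Gal(K/ZMod p) := fun g => AlgEquiv.ofRingEquiv (f := σ g) (halg _)
    have hmul : ∀ g h, toGal (g * h) = toGal g * toGal h := fun g h => AlgEquiv.ext fun c => by
      show σ (g * h) c = σ g (σ h c)
      rw [hσmul]; rfl
    let φ : A →* Gal(K/ZMod p) := MonoidHom.mk' toGal hmul
    haveI : Fintype Gal(K/ZMod p) := Fintype.ofFinite _
    have hker : φ.ker = AL := Subgroup.ext fun g => by
      constructor
      · intro h
        exact RingEquiv.ext fun c => DFunLike.congr_fun (show toGal g = 1 from h) c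
      · intro h
        exact AlgEquiv.ext fun c => DFunLike.congr_fun (show σ g = RingEquiv.refl K from h) c
    rw [← hker, Subgroup.index_ker]
    refine le_trans ?_ (IsCyclic.card_pow_eq_one_le (α := Gal(K/ZMod p)) (Fact.out : p.Prime).pos)
    rw [← Nat.card_eq_finsetCard]
    refine Nat.card_le_card_of_injective (fun x => ⟨x.1, ?_⟩) fun x y h => Subtype.ext (by simpa using h)
    obtain ⟨g, hg⟩ := x.2
    simp only [Finset.mem_filter, Finset.mem_univ, true_and]
    rw [← hg, ← map_pow, show g ^ p = 1 from Subtype.ext (by simpa using hAp g g.2), map_one]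
  -- the data of the semilinear element
  set a₁ := D.tau hb (t ⟨a, ha⟩) ![0, 1] with ha₁
  have hsplit : ∀ x : Fin 2 → K, x = x 0 • ![1, 0] + x 1 • ![0, 1] := fun x =>
    funext (Fin.forall_fin_two.2 ⟨by simp, by simp⟩)
  have hta : ∀ x, D.tau hb (t ⟨a, ha⟩) x = ![s (x 0) + s (x 1) * a₁ 0, s (x 1) * a₁ 1] := fun x => by
    conv_lhs => rw [hsplit x, D.tau_add, huniq, hσ]
    rw [← ha₁, ← hs_def]
    exact funext (Fin.forall_fin_two.2 ⟨by simp, by simp⟩)
  let m : A → K := fun g => D.tau hb (t g) ![0, 1] 0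
  have hty : ∀ g ∈ AL, ∀ x, D.tau hb (t g) x = ![x 0 + x 1 * m g, x 1] := by
    intro g hg
    have hlin : ∀ x, D.tau hb (t g) x = ![x 0 + x 1 * m g, x 1 * D.tau hb (t g) ![0, 1] 1] := fun x => by
      conv_lhs => rw [hsplit x, D.tau_add, huniq, hσ]
      rw [show σ g = RingEquiv.refl K from hg]
      exact funext (Fin.forall_fin_two.2 ⟨by simp [m], by simp⟩)
    have hd : D.tau hb (t g) ![0, 1] 1 = 1 := by
      refine frob_eq_one (p := p) (n := 1) ?_
      have hpow : ∀ j : ℕ, D.tau hb (t (g ^ j)) ![0, 1] 1 = D.tau hb (t g) ![0, 1] 1 ^ j := by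
        intro j
        induction j with
        | zero => rw [pow_zero, pow_zero, show t 1 = 1 from rfl, D.tau_one]; simp
        | succ j ih => rw [pow_succ', ht, D.tau_mul, hlin, pow_succ, ← ih]; simp
      have h := hpow p
      rw [show g ^ p = 1 from Subtype.ext (by simpa using hAp g g.2), show t 1 = 1 from rfl, D.tau_one] at h
      rw [pow_one, ← h]; simp
    intro x
    rw [hlin, hd, mul_one]
  have hm : ∀ g ∈ AL, s (m g) = m g * a₁ 1 := fun g hg => by
    have h := congrArg (fun f => D.tau hb f ![0, 1] 0) (htcomm ⟨a, ha⟩ g)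
    simp only [D.tau_mul, hty g hg, hta, Matrix.cons_val_zero, Matrix.cons_val_one, map_zero, map_one,
      zero_add, one_mul] at h
    linear_combination h
  -- sizes
  let SM : Set K := {c | s c = c * a₁ 1}
  have hSM : Nat.card SM ≤ q0 := by
    by_cases h0 : ∀ c ∈ SM, c = 0
    · have : Subsingleton SM := ⟨fun x y => Subtype.ext ((h0 _ x.2).trans (h0 _ y.2).symm)⟩
      exact le_trans (Finite.card_le_one_iff_subsingleton.2 this) Nat.card_pos
    push Not at h0
    obtain ⟨m0, hm0, hm0'⟩ := h0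
    refine Nat.card_le_card_of_injective (fun c : SM => (⟨(c : K) / m0, ?_⟩ : L)) fun x y h =>
      Subtype.ext ((div_left_inj' hm0').1 (congrArg Subtype.val h))
    have ha1 : a₁ 1 ≠ 0 := fun h => by
      have h' : s m0 = m0 * a₁ 1 := hm0
      rw [h, mul_zero] at h'
      exact hm0' (by simpa using h')
    rw [hLmem, map_div₀, show s c = _ from c.2, show s m0 = _ from hm0, mul_div_mul_right _ _ ha1]
  let SY : Set K := {c | s c * a₁ 1 = c}
  have hSY : Nat.card SY ≤ q0 := by
    by_cases h0 : ∀ c ∈ SY, c = 0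
    · have : Subsingleton SY := ⟨fun x y => Subtype.ext ((h0 _ x.2).trans (h0 _ y.2).symm)⟩
      exact le_trans (Finite.card_le_one_iff_subsingleton.2 this) Nat.card_pos
    push Not at h0
    obtain ⟨m0, hm0, hm0'⟩ := h0
    refine Nat.card_le_card_of_injective (fun c : SY => (⟨(c : K) / m0, ?_⟩ : L)) fun x y h =>
      Subtype.ext ((div_left_inj' hm0').1 (congrArg Subtype.val h))
    have h' : s m0 * a₁ 1 = m0 := hm0
    have ha1 : a₁ 1 ≠ 0 := fun h => hm0' (by rw [← h', h, mul_zero])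
    have hc' : s c * a₁ 1 = (c : K) := c.2
    rw [hLmem, map_div₀]
    conv_rhs => rw [← hc', ← h', mul_div_mul_right _ _ ha1]
  let Fx := {x : Fin 2 → K // ∀ g : A, D.tau hb (t g) x = x}
  let M := {c : K // ∃ g ∈ AL, m g = c}
  have hFxa : ∀ x : Fx, s (x.1 0) + s (x.1 1) * a₁ 0 = x.1 0 ∧ x.1 1 ∈ SY := fun x => by
    have h := (hta x.1).symm.trans (x.2 ⟨a, ha⟩)
    exact ⟨by simpa using congrFun h 0, show s _ * a₁ 1 = _ by simpa using congrFun h 1⟩
  have hMF : Nat.card M * Nat.card Fx ≤ q0 * q0 := by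
    by_cases h0 : ∀ c : M, c.1 = 0
    · have : Subsingleton M := ⟨fun x y => Subtype.ext ((h0 x).trans (h0 y).symm)⟩
      calc _ ≤ 1 * (q0 * Nat.card SY) := Nat.mul_le_mul (Finite.card_le_one_iff_subsingleton.2 this) ?_
        _ ≤ _ := by rw [one_mul]; exact Nat.mul_le_mul_left _ hSY
      rw [hq0, ← Nat.card_prod]
      let base : SY → K := fun Y => if h : ∃ x : Fx, x.1 1 = Y then h.choose.1 0 else 0
      have hd : ∀ x : Fx, x.1 0 - base ⟨x.1 1, (hFxa x).2⟩ ∈ L := fun x => by
        have hex : ∃ y : Fx, y.1 1 = ((⟨x.1 1, (hFxa x).2⟩ : SY) : K) := ⟨x, rfl⟩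
        simp only [base, dif_pos hex]
        have h1 := (hFxa x).1
        have h2 := (hFxa hex.choose).1
        rw [hex.choose_spec] at h2
        rw [hLmem, map_sub]
        linear_combination h1 - h2
      refine Nat.card_le_card_of_injective (fun x : Fx => ((⟨_, hd x⟩ : L), (⟨x.1 1, (hFxa x).2⟩ : SY)))
        fun x y h => ?_
      have hY : (⟨x.1 1, (hFxa x).2⟩ : SY) = ⟨y.1 1, (hFxa y).2⟩ := congrArg Prod.snd h
      have h1 : x.1 0 - base ⟨x.1 1, (hFxa x).2⟩ = y.1 0 - base ⟨y.1 1, (hFxa y).2⟩ :=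
        congrArg Subtype.val (congrArg Prod.fst h)
      rw [hY, sub_left_inj] at h1
      exact Subtype.ext (funext (Fin.forall_fin_two.2 ⟨h1, congrArg Subtype.val hY⟩))
    · push Not at h0
      obtain ⟨⟨_, g, hg, rfl⟩, hne0⟩ := h0
      refine Nat.mul_le_mul (le_trans ?_ hSM) ?_
      · exact Nat.card_le_card_of_injective (fun c : M => (⟨c.1, by
          obtain ⟨g, hg, hc⟩ := c.2; rw [← hc]; exact hm g hg⟩ : SM)) fun x y h =>
            Subtype.ext (congrArg Subtype.val h :)
      have hY0 : ∀ x : Fx, x.1 1 = 0 := fun x => by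
        have h := congrFun ((hty g hg x.1).symm.trans (x.2 g)) 0
        simp only [Matrix.cons_val_zero, add_eq_left, mul_eq_zero] at h
        exact h.resolve_right hne0
      refine Nat.card_le_card_of_injective (fun x : Fx => (⟨x.1 0, (hLmem _).2 (by
        simpa [hY0 x] using (hFxa x).1)⟩ : L)) fun x y h => ?_
      exact Subtype.ext (funext (Fin.forall_fin_two.2 ⟨congrArg Subtype.val h, (hY0 x).trans (hY0 y).symm⟩))
  -- the counting
  have hcount := maxElem_count T hA hb.facts.le_V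
  have hAK : Nat.card A ≤ p * (Nat.card ↥(A ⊓ Subgroup.centralizer (blockMod p E : Set G)) * Nat.card M) := by
    rw [← Subgroup.card_mul_index AL, mul_comm]
    refine Nat.mul_le_mul hidx ?_
    choose g0 hg0 hg0' using fun c : M => c.2
    rw [← Nat.card_prod]
    refine Nat.card_le_card_of_injective (fun g : AL => ((⟨(((g0 ⟨m g, g, g.2, rfl⟩)⁻¹ * g.1 : A) : G), ?_⟩ : ↥(A ⊓ Subgroup.centralizer (blockMod p E : Set G))),
      (⟨m g, g, g.2, rfl⟩ : M))) fun x y h => ?_
    · refine Subgroup.mem_inf.2 ⟨((g0 ⟨m g, g, g.2, rfl⟩)⁻¹ * g.1 : A).2, ?_⟩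
      refine centralizes_of_act_eq_one hb (t ((g0 ⟨m g, g, g.2, rfl⟩)⁻¹ * g.1)) ?_
      rw [ht, map_mul, show t (g0 ⟨m g, g, g.2, rfl⟩)⁻¹ = (t (g0 ⟨m g, g, g.2, rfl⟩))⁻¹ from rfl, map_inv,
        inv_mul_eq_one]
      exact D.act_eq hb fun x => by rw [hty _ (hg0 _), hty _ g.2, hg0']
    · have h2 : (⟨m x, x, x.2, rfl⟩ : M) = ⟨m y, y, y.2, rfl⟩ := congrArg Prod.snd h
      have h1 : (((g0 ⟨m x, x, x.2, rfl⟩)⁻¹ * x.1 : A) : G) = ((g0 ⟨m y, y, y.2, rfl⟩)⁻¹ * y.1 : A) :=
        congrArg (fun z : ↥(A ⊓ Subgroup.centralizer (blockMod p E : Set G)) => (z : G)) (congrArg Prod.fst h)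
      rw [h2] at h1
      exact Subtype.ext (mul_left_cancel (Subtype.ext h1))
  have hUA : Nat.card ↥(blockMod p E ⊓ Subgroup.centralizer (A : Set G)) ≤ Nat.card Fx * Nat.card (zSub p E) := by
    rw [← Nat.card_prod]
    let w : Sec p E → blockMod p E := fun x => (cls_surj x).choose
    have hw : ∀ x, cls (w x) = x := fun x => (cls_surj x).choose_spec
    refine Nat.card_le_card_of_injective (fun u => ((⟨(D.ψ ⟨u.1, u.2.1⟩).toAdd, fun g => ?_⟩ : Fx),
      (⟨(w (cls ⟨u.1, u.2.1⟩))⁻¹ * ⟨u.1, u.2.1⟩, QuotientGroup.eq.1 (hw _)⟩ : zSub p E))) fun u v h => ?_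
    · rw [D.tau_psi, show cj (t g) ⟨u.1, u.2.1⟩ = ⟨u.1, u.2.1⟩ from Subtype.ext (by
        show (g : G) * u.1 * (g : G)⁻¹ = u.1
        rw [Subgroup.mem_centralizer_iff.1 u.2.2 g g.2, mul_inv_cancel_right])]
    · have h1 : cls (⟨u.1, u.2.1⟩ : blockMod p E) = cls ⟨v.1, v.2.1⟩ :=
        (D.bar hb).injective (Multiplicative.toAdd.injective (congrArg Subtype.val (congrArg Prod.fst h)))
      have h2 := congrArg (fun z : zSub p E => (z : blockMod p E)) (congrArg Prod.snd h)
      simp only [h1, mul_right_inj, Subtype.mk.injEq] at h2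
      exact Subtype.ext h2
  have hSec : Nat.card (Sec p E) = Nat.card K * Nat.card K := by
    rw [Nat.card_congr (D.bar hb).toEquiv,
      Nat.card_congr (Multiplicative.toAdd : Multiplicative (Fin 2 → K) ≃ _), Nat.card_fun, Nat.card_fin, pow_two]
  rw [← zSub_card_mul, hSec] at hcount
  have hfin : Nat.card K * Nat.card K ≤ p * (q0 * q0) := by
    refine le_trans ?_ (Nat.mul_le_mul_left p hMF)
    refine Nat.le_of_mul_le_mul_right ?_
      (Nat.mul_pos (Nat.card_pos (α := zSub p E))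
        (Nat.card_pos (α := ↥(A ⊓ Subgroup.centralizer (blockMod p E : Set G)))))
    calc _ = Nat.card K * Nat.card K * Nat.card (zSub p E) *
          Nat.card ↥(A ⊓ Subgroup.centralizer (blockMod p E : Set G)) := by ring
      _ ≤ _ := hcount
      _ ≤ p * (Nat.card ↥(A ⊓ Subgroup.centralizer (blockMod p E : Set G)) * Nat.card M) *
          (Nat.card Fx * Nat.card (zSub p E)) := Nat.mul_le_mul hAK hUA
      _ = _ := by ring
  have h2 := (Fact.out : p.Prime).two_le
  have h3 : 2 ≤ q0 := h2.trans hq0p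
  have h4 : q0 * q0 * (q0 * q0) ≤ q0 * (q0 * q0) :=
    (Nat.mul_le_mul hqq hqq).trans (hfin.trans (Nat.mul_le_mul_right _ hq0p))
  have h5 : q0 * q0 ≤ q0 := Nat.le_of_mul_le_mul_right h4 (by positivity)
  nlinarith

/-- Baumann subgroups act linearly. -/
theorem baumann_le_linSub (D : LinCoords p E K) (hb : IsBlock p E) (hs : E.IsSubnormal)
    (hfull : Function.Surjective D.ρ) (T : Sylow p G) :
    baumannSubgroupOf p (T : Subgroup G) ≤ linSub D hb := by
  classical
  have hJN := thompson_le_normalizer hb hs T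
  have hnt : (⊤ : Subgroup (Sec p E)) ≠ ⊥ := fun h => by
    have := sec_card_ge hb
    rw [← Subgroup.card_top, h, Subgroup.card_bot] at this
    omega
  have hfix : ∀ (P : Subgroup G) (hP : IsPGroup p P) (hPN : P ≤ Subgroup.normalizer (E : Set G)),
      ∃ v : Fin 2 → K, v ≠ 0 ∧ ∀ g : Subgroup.normalizer (E : Set G), (g : G) ∈ P → D.tau hb g v = v := by
    intro P hP hPN
    obtain ⟨x, -, hx1, hx⟩ := exists_fixed hb (P := P.subgroupOf (Subgroup.normalizer (E : Set G)))
      (hP.of_equiv (Subgroup.subgroupOfEquivOfLe hPN).symm) ⊤ (fun _ _ _ _ => Subgroup.mem_top _) hnt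
    obtain ⟨u, rfl⟩ := cls_surj x
    exact ⟨(D.ψ u).toAdd, fun h => hx1 ((cls_eq_one hb).2 ((D.ker u).1 (Multiplicative.toAdd.injective h))),
      fun g hg => (D.fixed_of_tau hb g u).1 (hx g hg)⟩
  have hJ : thompsonSubgroupOf p (T : Subgroup G) ≤ linSub D hb := by
    rw [LocalP.thompsonSubgroupOf_eq_sSup]
    refine sSup_le fun A hA => ?_
    obtain ⟨v, hv, hvfix⟩ := hfix A (LocalP.isPGroup_of_isElementaryAbelian hA.2.1)
      (maxElem_le_normalizer hb hs T hA)
    obtain ⟨B, hB⟩ := exists_twist D hv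
    intro a ha
    refine mem_linSub_of_twist D B hb (maxElem_linear_aux (D.twist B) hb hs (fun s => ?_) T hA
      (fun g hg => by rw [← hB, D.tau_twist B hb, hvfix g hg]) ha)
    obtain ⟨e, he⟩ := hfull (B⁻¹ * s * B)
    exact ⟨e, by show B * D.ρ e * B⁻¹ = s; rw [he]; group⟩
  obtain ⟨v, hv, hvfix⟩ := hfix _ (T.2.to_le (LocalP.thompsonSubgroupOf_le _)) hJN
  intro b hb'
  have hbN := baumann_le_normalizer hb hs T hb'
  refine ⟨hbN, fun c x => ?_⟩
  obtain ⟨σ, hσ⟩ := D.semilinear hb hfull ⟨b, hbN⟩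
  have hline : ∀ d : K, D.tau hb ⟨b, hbN⟩ (d • v) = d • v := fun d => by
    obtain ⟨u, hu⟩ := D.psi_surj (d • v)
    obtain ⟨u', hu', hcent⟩ := exists_lift_centralized hb hs T u fun g hg => by
      rw [D.fixed_of_tau hb, hu]
      obtain ⟨hg', hlin⟩ := hJ hg
      have : g = ⟨(g : G), hg'⟩ := Subtype.ext rfl
      rw [this, hlin, ← this, hvfix g hg]
    have hψ : D.ψ u' = D.ψ u := by rw [← D.bar_cls hb, hu', D.bar_cls hb]
    rw [← hu, ← hψ, D.tau_psi, show cj ⟨b, hbN⟩ u' = u' from Subtype.ext (hcent b hb')]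
  have h1 : D.tau hb ⟨b, hbN⟩ v = v := by simpa using hline 1
  rw [hσ]
  congr 1
  refine smul_left_injective K hv ?_
  show σ c • v = c • v
  conv_rhs => rw [← hline c, hσ, h1]

end CfsgLib.BaumannBlock.Subnormal
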