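import Mathlib
import Cfsg.Agent.BaumannBlock.Subnormal.Semilinear
import Cfsg.Agent.S2119

/-!
The elements of order prime to `p` in the Baumann subgroup act on the module of a subnormal block as elements of
the block.
-/

set_option autoImplicit false

open scoped MatrixGroups commutatorElement

namespace CfsgLib.BaumannBlock.Subnormal

open Cfsg CentModule

variable {G : Type*} [Group G] [Finite G] {p : ℕ} [Fact p.Prime] {E : Subgroup G}
variable {K : Type} [Field K] [Finite K]

theorem baumannSubgroup_le_normalizer (hb : IsBlock p E) (hs : E.IsSubnormal) :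
    baumannSubgroup p G ≤ Subgroup.normalizer (E : Set G) :=
  iSup_le fun T => baumann_le_normalizer hb hs T

/-- The normalizer elements acting as elements of `SL₂`. -/
def slAct (D : LinCoords p E K) (hb : IsBlock p E) : Subgroup G where
  carrier := {g | ∃ hg : g ∈ Subgroup.normalizer (E : Set G), ∃ s : SL(2, K),
    ∀ x, D.tau hb ⟨g, hg⟩ x = s.1.mulVec x}
  one_mem' := ⟨one_mem _, 1, fun x => by
    rw [show (⟨(1 : G), one_mem _⟩ : Subgroup.normalizer (E : Set G)) = 1 from rfl, D.tau_one,
      Matrix.SpecialLinearGroup.coe_one, Matrix.one_mulVec]⟩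
  mul_mem' := by
    rintro g h ⟨hg, s, hs⟩ ⟨hh, r, hr⟩
    refine ⟨mul_mem hg hh, s * r, fun x => ?_⟩
    rw [show (⟨g * h, mul_mem hg hh⟩ : Subgroup.normalizer (E : Set G)) = ⟨g, hg⟩ * ⟨h, hh⟩ from rfl,
      D.tau_mul, hr, hs, Matrix.SpecialLinearGroup.coe_mul, Matrix.mulVec_mulVec]
  inv_mem' := by
    rintro g ⟨hg, s, hs⟩
    refine ⟨inv_mem hg, s⁻¹, fun x => D.tau_inj hb ⟨g, hg⟩ ?_⟩
    rw [← D.tau_mul, hs, show (⟨g, hg⟩ : Subgroup.normalizer (E : Set G)) * ⟨g⁻¹, inv_mem hg⟩ = 1
      from Subtype.ext (mul_inv_cancel g), D.tau_one, Matrix.mulVec_mulVec, ← Matrix.SpecialLinearGroup.coe_mul,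
      mul_inv_cancel, Matrix.SpecialLinearGroup.coe_one, Matrix.one_mulVec]

theorem mem_slAct_of_linear (D : LinCoords p E K) (hb : IsBlock p E) {g : G} (hg : g ∈ linSub D hb) {n : ℕ}
    (hn : g ^ p ^ n = 1) : g ∈ slAct D hb := by
  haveI := Fintype.ofFinite K
  haveI : CharP K p := (field_cases D).1
  obtain ⟨hgN, hlin⟩ := hg
  set g' : Subgroup.normalizer (E : Set G) := ⟨g, hgN⟩
  set M : Matrix (Fin 2) (Fin 2) K := Matrix.of fun i j => D.tau hb g' (Pi.single j 1) i with hM
  have hMτ : ∀ x, D.tau hb g' x = M.mulVec x := fun x => by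
    conv_lhs => rw [show x = x 0 • Pi.single 0 1 + x 1 • Pi.single 1 1 from
      funext (Fin.forall_fin_two.2 ⟨by simp, by simp⟩), D.tau_add, hlin, hlin]
    ext i
    simp [hM, Matrix.mulVec, dotProduct, Fin.sum_univ_two, mul_comm]
  have hpow : ∀ (j : ℕ) (x : Fin 2 → K), D.tau hb (g' ^ j) x = (M ^ j).mulVec x := by
    intro j
    induction j with
    | zero => intro x; rw [pow_zero, pow_zero, D.tau_one, Matrix.one_mulVec]
    | succ j ih => intro x; rw [pow_succ, pow_succ, D.tau_mul, hMτ, ih, Matrix.mulVec_mulVec]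
  have hM1 : M ^ p ^ n = 1 := Matrix.mulVec_injective (funext fun x => by
    rw [← hpow, show g' ^ p ^ n = 1 from Subtype.ext (by simpa [g'] using hn), D.tau_one, Matrix.one_mulVec])
  have hdet : M.det = 1 := frob_eq_one (p := p) (n := n) (by rw [← Matrix.det_pow, hM1, Matrix.det_one])
  exact ⟨hgN, ⟨M, hdet⟩, hMτ⟩

theorem linear_of_prime (D : LinCoords p E K) (hb : IsBlock p E) (hcard : Nat.card K = p)
    (g : Subgroup.normalizer (E : Set G)) : (g : G) ∈ linSub D hb := by
  haveI : CharP K p := (field_cases D).1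
  refine ⟨g.2, fun c x => ?_⟩
  obtain ⟨z, hz⟩ := ((Nat.bijective_iff_injective_and_card _).2
    ⟨(ZMod.castHom (dvd_refl p) K).injective, by rw [Nat.card_zmod, hcard]⟩).2 c
  have hc : c = (z.val : K) := by rw [← hz, ZMod.castHom_apply, ZMod.cast_eq_val]
  rw [hc, Nat.cast_smul_eq_nsmul, Nat.cast_smul_eq_nsmul]
  exact map_nsmul (AddMonoidHom.mk' (D.tau hb ⟨g, g.2⟩) (D.tau_add hb _)) z.val x

theorem baumann_le_slAct (D : LinCoords p E K) (hb : IsBlock p E) (hs : E.IsSubnormal)
    (hD : Function.Surjective D.ρ ∨ Nat.card K = p) : baumannSubgroup p G ≤ slAct D hb := by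
  refine iSup_le fun T => fun b hb' => ?_
  obtain ⟨n, hn⟩ := T.2 ⟨b, baumannSubgroupOf_le _ hb'⟩
  refine mem_slAct_of_linear D hb ?_ (n := n) (congrArg Subtype.val hn)
  rcases hD with h | h
  · exact baumann_le_linSub D hb hs h T hb'
  · exact linear_of_prime D hb h ⟨b, baumann_le_normalizer hb hs T hb'⟩

theorem sl2_two_coprime : (∀ s : SL(2, ZMod 2), s ^ 6 = 1) ∧
    ∀ s : SL(2, ZMod 2), s ^ 3 = 1 → ∃ a b : SL(2, ZMod 2), ⁅a, b⁆ = s := by
  refine ⟨?_, ?_⟩ <;> decide +kernel

theorem sl2_three_coprime : (∀ s : SL(2, ZMod 3), s ^ 24 = 1) ∧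
    ∀ s : SL(2, ZMod 3), s ^ 8 = 1 → ∃ a b : SL(2, ZMod 3), ⁅a, b⁆ = s := by
  refine ⟨?_, ?_⟩ <;> decide +kernel

/-- An element of order prime to `p` lies in the derived group. -/
theorem mem_commutator_of_coprime {q : ℕ} [Fact q.Prime] (hq : q = 2 ∨ q = 3) (s : SL(2, ZMod q)) {n : ℕ}
    (hn : n.Coprime q) (h : s ^ n = 1) : s ∈ commutator SL(2, ZMod q) := by
  rcases hq with rfl | rfl
  · obtain ⟨a, b, rfl⟩ := sl2_two_coprime.2 s (orderOf_dvd_iff_pow_eq_one.1 ((Nat.Coprime.dvd_mul_right
      (Nat.Coprime.coprime_dvd_left (orderOf_dvd_of_pow_eq_one h) hn)).1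
      (show orderOf s ∣ 3 * 2 from orderOf_dvd_of_pow_eq_one (sl2_two_coprime.1 s))))
    exact Subgroup.commutator_mem_commutator (Subgroup.mem_top _) (Subgroup.mem_top _)
  · obtain ⟨a, b, rfl⟩ := sl2_three_coprime.2 s (orderOf_dvd_iff_pow_eq_one.1 ((Nat.Coprime.dvd_mul_right
      (Nat.Coprime.coprime_dvd_left (orderOf_dvd_of_pow_eq_one h) hn)).1
      (show orderOf s ∣ 8 * 3 from orderOf_dvd_of_pow_eq_one (sl2_three_coprime.1 s))))
    exact Subgroup.commutator_mem_commutator (Subgroup.mem_top _) (Subgroup.mem_top _)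

theorem coprime_mem_actsAsE_lin (D : LinCoords p E K) (hb : IsBlock p E) (hs : E.IsSubnormal)
    {g : G} (hg : g ∈ baumannSubgroup p G) (hcop : (orderOf g).Coprime p) : g ∈ actsAsE hb := by
  haveI := Fintype.ofFinite K
  haveI : CharP K p := (field_cases D).1
  have key : (Function.Surjective D.ρ ∨ Nat.card K = p) ∧
      ∀ s : SL(2, K), s ^ orderOf g = 1 → s ∈ commutator SL(2, K) := by
    obtain ⟨-, ⟨⟨t, ht0, ht⟩, -⟩ | ⟨hp, hcard⟩⟩ := field_cases D
    · have hperf : commutator SL(2, K) = ⊤ :=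
        CfsgLib.Classical.Linear.commutator_sl_fin_eq_top 2 fun _ => ⟨t, ht0, by rwa [pow_two]⟩
      refine ⟨Or.inl fun s => ?_, fun s _ => hperf ▸ Subgroup.mem_top s⟩
      have : s ∈ D.ρ.range := by rw [D.range_eq, hperf]; exact Subgroup.mem_top s
      exact this
    · refine ⟨Or.inr hcard, fun s hs' => ?_⟩
      let e : ZMod p ≃+* K := ZMod.ringEquivOfPrime K Fact.out (by rw [← hcard, Nat.card_eq_fintype_card])
      let f := Matrix.SpecialLinearGroup.map (n := Fin 2) e.toRingHom
      let f' := Matrix.SpecialLinearGroup.map (n := Fin 2) e.symm.toRingHom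
      have hff : ∀ x, f (f' x) = x := fun x => Subtype.ext (Matrix.ext fun i j => e.apply_symm_apply _)
      have h1 := mem_commutator_of_coprime hp (f' s) hcop (by rw [← map_pow, hs', map_one])
      have h2 := Subgroup.mem_map_of_mem f h1
      rw [hff, commutator_def, Subgroup.map_commutator] at h2
      exact (Subgroup.commutator_mono le_top le_top) h2
  obtain ⟨hgN, s, hs'⟩ := baumann_le_slAct D hb hs key.1 hg
  set g' : Subgroup.normalizer (E : Set G) := ⟨g, hgN⟩
  have hpow : ∀ (j : ℕ) (x : Fin 2 → K), D.tau hb (g' ^ j) x = (s ^ j).1.mulVec x := by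
    intro j
    induction j with
    | zero => intro x; rw [pow_zero, pow_zero, D.tau_one, Matrix.SpecialLinearGroup.coe_one, Matrix.one_mulVec]
    | succ j ih =>
      intro x
      rw [pow_succ, pow_succ, D.tau_mul, hs', ih, Matrix.SpecialLinearGroup.coe_mul, Matrix.mulVec_mulVec]
  have hs1 : s ^ orderOf g = 1 := mulVec_ext fun x => by
    rw [← hpow, show g' ^ orderOf g = 1 from Subtype.ext (by simp [g', pow_orderOf_eq_one]), D.tau_one,
      Matrix.SpecialLinearGroup.coe_one, Matrix.one_mulVec]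
  obtain ⟨e, he⟩ : s ∈ D.ρ.range := D.range_eq ▸ key.2 s hs1
  exact mem_actsAsE_of_act hb g' e.2 (D.act_eq hb fun x => by rw [hs', D.tau_E hb e.2, he])

theorem zmod_two_sum : ∀ a b c : ZMod 2, a + b + c = 0 → c = a + b := by decide

theorem coprime_mem_actsAsE_alt {m : ℕ} (D : AltCoords p E m) (hb : IsBlock p E)
    {g : G} (hg : g ∈ Subgroup.normalizer (E : Set G)) (hcop : (orderOf g).Coprime p) : g ∈ actsAsE hb := by
  classical
  obtain rfl := D.p_eq
  have hodd : Odd (orderOf g) := Nat.coprime_two_right.1 hcop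
  set N := Subgroup.normalizer (E : Set G) with hN
  by_cases hm : m < 2
  · -- three letters
    obtain rfl : m = 1 := by have := D.m_pos; omega
    have hS : Small 2 E := (kind_cases hb).1.resolve_left fun hP => by
      have hU : Nat.card (blockMod 2 E) ≤ 4 := by
        have hinj : Function.Injective D.ψ := (injective_iff_map_eq_one _).2 fun u hu =>
          Subtype.ext (D.inf_bot hb u u.2 ((D.ker u).1 hu))
        let f : blockMod 2 E → (Fin 2 → ZMod 2) := fun u => ![(D.ψ u).toAdd 0, (D.ψ u).toAdd 1]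
        refine (Nat.card_le_card_of_injective f fun u v h => hinj (Multiplicative.toAdd.injective ?_)).trans
          (by rw [Nat.card_fun, Nat.card_fin, Nat.card_zmod]; norm_num)
        have h0 := congrFun h 0
        have h1 := congrFun h 1
        have eu : (D.ψ u).toAdd 2 = (D.ψ u).toAdd 0 + (D.ψ u).toAdd 1 := by
          exact zmod_two_sum _ _ _ (by have := D.even u; rwa [Fin.sum_univ_three] at this)
        have ev : (D.ψ v).toAdd 2 = (D.ψ v).toAdd 0 + (D.ψ v).toAdd 1 := by
          exact zmod_two_sum _ _ _ (by have := D.even v; rwa [Fin.sum_univ_three] at this)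
        simp only [f, Matrix.cons_val_zero, Matrix.cons_val_one] at h0 h1
        funext i
        fin_cases i
        · exact h0
        · exact h1
        · exact eu.trans ((h0 ▸ h1 ▸ ev).symm)
      have := hP.card_gt
      omega
    set P := permHom (p := 2) E ⟨g, normalizer_le_normalizer_blockMod hg⟩ with hP
    haveI : Fintype {x : blockMod 2 E // x ≠ 1} := Fintype.ofFinite _
    have h6 : P ^ 6 = 1 := by
      have hc : Fintype.card {x : blockMod 2 E // x ≠ 1} = 3 := by
        letI := Fintype.ofFinite (blockMod 2 E)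
        rw [Fintype.card_subtype_compl, Fintype.card_subtype_eq, ← Nat.card_eq_fintype_card, hS.card_eq]
        norm_num
      have h : Fintype.card (Equiv.Perm {x : blockMod 2 E // x ≠ 1}) = 6 := by
        rw [Fintype.card_perm, hc]; rfl
      rw [← h]
      exact pow_card_eq_one
    have hn : P ^ orderOf g = 1 := by
      rw [hP, ← map_pow, ← map_one (permHom (p := 2) E)]
      congr 1
      exact Subtype.ext (by simp [pow_orderOf_eq_one])
    have h3 : P ^ 3 = 1 := orderOf_dvd_iff_pow_eq_one.1 ((Nat.Coprime.dvd_mul_right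
      (Nat.Coprime.coprime_dvd_left (orderOf_dvd_of_pow_eq_one hn) hcop)).1
      (show orderOf P ∣ 3 * 2 from orderOf_dvd_of_pow_eq_one h6))
    obtain ⟨e, he, hge⟩ := hS.same g (normalizer_le_normalizer_blockMod hg) (Or.inl ⟨rfl,
      Subgroup.mem_centralizer_iff.2 fun u hu => by
        rw [hP, ← map_pow, ← map_one (permHom (p := 2) E), permHom_eq_iff] at h3
        have := h3 u hu
        simp only [Subgroup.coe_pow, Subgroup.coe_one, one_mul, inv_one, mul_one] at this
        exact (mul_inv_eq_iff_eq_mul.1 this).symm⟩)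
    exact ⟨normalizer_le_normalizer_blockMod hg, e, he, hge⟩
  push Not at hm
  -- the automorphism of the quotient
  let ρ' : E →* alternatingGroup (Fin (2 * m + 1)) :=
    D.ρ.codRestrict _ fun e => by rw [← D.range_eq]; exact ⟨e, rfl⟩
  have hρs : Function.Surjective ρ' := fun s => by
    have : (s : Equiv.Perm (Fin (2 * m + 1))) ∈ D.ρ.range := by rw [D.range_eq]; exact s.2
    obtain ⟨e, he⟩ := this
    exact ⟨e, Subtype.ext he⟩
  let cE : E ≃* E :=
    { toFun := fun e => ⟨g * e * g⁻¹, (Subgroup.mem_normalizer_iff.1 hg _).1 e.2⟩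
      invFun := fun e => ⟨g⁻¹ * e * g, by simpa using (Subgroup.mem_normalizer_iff.1 (inv_mem hg) _).1 e.2⟩
      left_inv := fun e => Subtype.ext (by simp [mul_assoc])
      right_inv := fun e => Subtype.ext (by simp [mul_assoc])
      map_mul' := fun a b => Subtype.ext (by simp [mul_assoc]) }
  have hcE : ∀ e : E, ρ' e = 1 → ρ' (cE e) = 1 := fun e he => Subtype.ext ((D.ρ_ker _).2
    (mem_pCoreOf_of_centralizes hb (cE e).2 (Subgroup.mem_centralizer_iff.2 fun u hu => by
      have hQ := (D.ρ_ker e).1 (congrArg Subtype.val he)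
      have hu' : g⁻¹ * u * g ∈ blockMod 2 E := by simpa using conj_mem_blockMod (inv_mem hg) hu
      have h := mem_Q_conj_eq hb hQ hu'
      show u * (g * (e : G) * g⁻¹) = g * (e : G) * g⁻¹ * u
      calc u * (g * (e : G) * g⁻¹) = g * ((g⁻¹ * u * g) * (e : G)) * g⁻¹ := by group
        _ = g * (((e : G) * (g⁻¹ * u * g) * (e : G)⁻¹) * (e : G)) * g⁻¹ := by rw [h]
        _ = _ := by group)))
  choose sec hsec using hρs
  have hwd : ∀ e, ρ' (cE (sec (ρ' e))) = ρ' (cE e) := fun e => by
    have := hcE ((sec (ρ' e))⁻¹ * e) (by rw [map_mul, map_inv, hsec, inv_mul_cancel])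
    rwa [map_mul, map_inv, map_mul, map_inv, inv_mul_eq_one] at this
  let φ : alternatingGroup (Fin (2 * m + 1)) →* alternatingGroup (Fin (2 * m + 1)) :=
    MonoidHom.mk' (fun s => ρ' (cE (sec s))) fun a b => by
      rw [← map_mul ρ' (cE (sec a)), ← map_mul cE, ← hwd (sec a * sec b), map_mul ρ', hsec, hsec]
  have hφ : Function.Surjective φ := fun b => ⟨ρ' (cE.symm (sec b)), by
    show ρ' (cE (sec (ρ' _))) = b
    rw [hwd, MulEquiv.apply_symm_apply, hsec]⟩
  obtain ⟨π, hπ⟩ := Cfsg.Agent.S2119.surjective_conjNormal (α := Fin (2 * m + 1)) (by simp; omega) (by simp; omega)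
    (MulEquiv.ofBijective φ ⟨Finite.injective_iff_surjective.2 hφ, hφ⟩)
  have hconj : ∀ e : E, D.ρ (cE e) = π * D.ρ e * π⁻¹ := fun e => by
    have h := congrArg Subtype.val (DFunLike.congr_fun hπ (ρ' e))
    rw [MulAut.conjNormal_apply] at h
    exact ((congrArg Subtype.val (hwd e)).symm).trans h.symm
  -- the action on the module
  let T : blockMod 2 E → Fin (2 * m + 1) → ZMod 2 := fun u i => (D.ψ (cj ⟨g, hg⟩ u)).toAdd (π i)
  have hTeq : ∀ (e : E) u i, T (cj (⟨e, Subgroup.le_normalizer e.2⟩ : N) u) i = T u ((D.ρ e)⁻¹ i) := by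
    intro e u i
    have h1 : cj (⟨g, hg⟩ : N) (cj (⟨e, Subgroup.le_normalizer e.2⟩ : N) u) =
        cj (⟨cE e, Subgroup.le_normalizer (cE e).2⟩ : N) (cj ⟨g, hg⟩ u) := Subtype.ext (by
      simp [cj_coe, cE, mul_assoc])
    show (D.ψ (cj ⟨g, hg⟩ (cj (⟨e, Subgroup.le_normalizer e.2⟩ : N) u))).toAdd (π i) = _
    rw [h1, D.compat (cE e) (cj ⟨g, hg⟩ u) _ rfl, hconj]
    simp [T, mul_assoc]
  let δ : Fin (2 * m + 1) → Fin (2 * m + 1) → ZMod 2 := fun k i => 1 + (Pi.single k 1 : _ → ZMod 2) i
  have hsum : ∀ k, ∑ i, δ k i = 0 := fun k => by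
    simp only [δ, Finset.sum_add_distrib, Finset.sum_const, Finset.card_univ, Fintype.card_fin, nsmul_one,
      Finset.sum_pi_single', Finset.mem_univ, if_true]
    push_cast
    rw [show (2 : ZMod 2) = 0 from rfl, zero_mul, zero_add]
    first | rfl | decide
  have htwo : ∀ a : ZMod 2, a = 0 ∨ a = 1 := Fin.forall_fin_two.2 ⟨Or.inl rfl, Or.inr rfl⟩
  choose uk huk using fun k => D.surj (δ k) (hsum k)
  -- the generators
  have hgen : ∀ k, T (uk k) = δ k := by
    intro k
    haveI : Nontrivial (Fin (2 * m + 1)) := Fin.nontrivial_iff_two_le.2 (by omega)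
    obtain ⟨j0, hj0⟩ : ∃ j0, j0 ≠ k := exists_ne k
    have hfix : ∀ e : E, D.ρ e k = k → ∀ i, T (uk k) ((D.ρ e)⁻¹ i) = T (uk k) i := fun e he i => by
      rw [← hTeq]
      have hz : D.ψ (cj (⟨e, Subgroup.le_normalizer e.2⟩ : N) (uk k)) = D.ψ (uk k) := Multiplicative.toAdd.injective
        (funext fun i => by
          rw [D.compat e (uk k) _ rfl, huk]
          simp only [δ, Pi.single_apply]
          congr 1
          exact if_congr (by rw [Equiv.Perm.inv_eq_iff_eq, he]) rfl rfl)
      have hc : cls (cj (⟨e, Subgroup.le_normalizer e.2⟩ : N) (uk k)) = cls (uk k) := by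
        refine (cls_eq hb).2 ?_
        have := (D.ker ((cj (⟨e, Subgroup.le_normalizer e.2⟩ : N) (uk k))⁻¹ * uk k)).1 (by
          rw [map_mul, map_inv, hz, inv_mul_cancel])
        simpa using this
      have h2 : cls (cj (⟨g, hg⟩ : N) (cj (⟨e, Subgroup.le_normalizer e.2⟩ : N) (uk k))) = cls (cj ⟨g, hg⟩ (uk k)) := by
        rw [← act_cls hb, hc, act_cls]
      have h3 : D.ψ (cj (⟨g, hg⟩ : N) (cj (⟨e, Subgroup.le_normalizer e.2⟩ : N) (uk k))) = D.ψ (cj ⟨g, hg⟩ (uk k)) := by
        have h4 := (cls_eq hb).1 h2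
        have h5 := (D.ker (((cj (⟨g, hg⟩ : N) (cj (⟨e, Subgroup.le_normalizer e.2⟩ : N) (uk k))))⁻¹ *
          cj ⟨g, hg⟩ (uk k))).2 (by simpa using h4)
        rwa [map_mul, map_inv, inv_mul_eq_one] at h5
      show (D.ψ _).toAdd (π i) = (D.ψ _).toAdd (π i)
      rw [h3]
    have hconst : ∀ i, i ≠ k → T (uk k) i = T (uk k) j0 := by
      intro i hi
      by_cases hij : i = j0
      · rw [hij]
      obtain ⟨l, hl⟩ : ∃ l, l ∉ ({k, i, j0} : Finset (Fin (2 * m + 1))) := by
        by_contra hall
        push Not at hall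
        have h2 := Finset.card_le_card (s := Finset.univ) fun x _ => hall x
        rw [Finset.card_univ, Fintype.card_fin] at h2
        have h3 := Finset.card_le_three (a := k) (b := i) (c := j0)
        omega
      simp only [Finset.mem_insert, Finset.mem_singleton, not_or] at hl
      obtain ⟨e, he⟩ : Equiv.swap j0 i * Equiv.swap i l ∈ D.ρ.range := by
        rw [D.range_eq, Equiv.Perm.mem_alternatingGroup, map_mul, Equiv.Perm.sign_swap (Ne.symm hij),
          Equiv.Perm.sign_swap (Ne.symm hl.2.1)]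
        decide
      have h := hfix e (by rw [he, Equiv.Perm.mul_apply, Equiv.swap_apply_of_ne_of_ne (Ne.symm hi) (Ne.symm hl.1),
        Equiv.swap_apply_of_ne_of_ne (Ne.symm hj0) (Ne.symm hi)]) i
      rw [← h, he, mul_inv_rev, Equiv.swap_inv, Equiv.swap_inv, Equiv.Perm.mul_apply,
        Equiv.swap_apply_right, Equiv.swap_apply_of_ne_of_ne (Ne.symm hij) (Ne.symm hl.2.2)]
    have hk0 : T (uk k) k = 0 := by
      have h := D.even (cj (⟨g, hg⟩ : N) (uk k))
      rw [← Equiv.sum_comp π] at h
      change ∑ i, T (uk k) i = 0 at h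
      rw [← Finset.add_sum_erase _ _ (Finset.mem_univ k),
        Finset.sum_congr rfl fun i hi => hconst i (Finset.ne_of_mem_erase hi), Finset.sum_const,
        Finset.card_erase_of_mem (Finset.mem_univ k), Finset.card_univ, Fintype.card_fin, nsmul_eq_mul] at h
      rwa [show (((2 * m + 1 - 1 : ℕ) : ZMod 2)) = 0 by
        rw [show 2 * m + 1 - 1 = 2 * m by omega, Nat.cast_mul]
        rw [show ((2 : ℕ) : ZMod 2) = 0 from rfl, zero_mul], zero_mul, add_zero] at h
    have h1 : T (uk k) j0 = 1 := (htwo _).resolve_left fun h0 => by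
      have hall : ∀ i, T (uk k) i = 0 := fun i => by
        by_cases hi : i = k
        · rw [hi, hk0]
        · rw [hconst i hi, h0]
      have hz : D.ψ (cj (⟨g, hg⟩ : N) (uk k)) = 1 := Multiplicative.toAdd.injective (funext fun i => by
        simpa [T] using hall (π.symm i))
      have hc : cls (cj (⟨g, hg⟩ : N) (uk k)) = 1 := (cls_eq_one hb).2 ((D.ker _).1 hz)
      rw [← act_cls hb] at hc
      have hu : cls (uk k) = 1 := by simpa using hc
      have := congrArg Multiplicative.toAdd ((D.ker _).2 ((cls_eq_one hb).1 hu))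
      rw [huk] at this
      have := congrFun this j0
      simp [δ, hj0] at this
    funext i
    by_cases hi : i = k
    · rw [hi, hk0]; simp [δ, CharTwo.add_self_eq_zero]
    · rw [hconst i hi, h1]; simp [δ, hi]
  -- all elements
  letI : CommGroup (blockMod 2 E) :=
    { (inferInstance : Group (blockMod 2 E)) with
      mul_comm := fun a b => Subtype.ext (blockMod_comm E hb _ a.2 _ b.2) }
  let S : Subgroup (blockMod 2 E) :=
    { carrier := {u | T u = (D.ψ u).toAdd}
      one_mem' := by
        show T 1 = _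
        funext i; simp [T]
      mul_mem' := fun {a b} ha hb' => by
        show T (a * b) = _
        rw [map_mul, toAdd_mul, ← show T a = _ from ha, ← show T b = _ from hb']
        funext i; simp [T]
      inv_mem' := fun {a} ha => by
        show T a⁻¹ = _
        rw [map_inv, toAdd_inv, ← show T a = _ from ha]
        funext i; simp [T] }
  have hTall : ∀ u : blockMod 2 E, T u = (D.ψ u).toAdd := by
    intro u
    set v := (D.ψ u).toAdd with hv
    let w : blockMod 2 E := ∏ k, if v k = 1 then uk k else 1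
    have hwS : w ∈ S := prod_mem fun k _ => by
      by_cases h : v k = 1
      · simp only [if_pos h]; show T (uk k) = _; rw [hgen, huk]
      · simp only [if_neg h]; exact one_mem _
    have hwψ : (D.ψ w).toAdd = v := by
      show (D.ψ (∏ k, if v k = 1 then uk k else 1)).toAdd = v
      rw [map_prod, toAdd_prod]
      funext i
      rw [Finset.sum_apply, Finset.sum_congr rfl (g := fun k => v k + v k * (Pi.single k 1 : _ → ZMod 2) i)
        fun k _ => by rcases htwo (v k) with h | h <;> simp [h, huk, δ], Finset.sum_add_distrib, hv, D.even u,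
        zero_add]
      simp [Pi.single_apply]
    have hwz : u * w⁻¹ ∈ S := by
      show T _ = _
      have hz : D.ψ (u * w⁻¹) = 1 := by
        rw [map_mul, map_inv, mul_inv_eq_one]
        exact Multiplicative.toAdd.injective hwψ.symm
      rw [hz, toAdd_one]
      funext i
      have hm' := conj_mem_centralizer hg ((D.ker _).1 hz)
      show (D.ψ (cj ⟨g, hg⟩ (u * w⁻¹))).toAdd (π i) = 0
      rw [(D.ker _).2 hm']
      rfl
    have : u ∈ S := by simpa using mul_mem hwz hwS
    exact this
  -- the permutation is even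
  have hpow : ∀ j : ℕ, ∀ e : E, D.ρ ((cE : E → E)^[j] e) = π ^ j * D.ρ e * (π ^ j)⁻¹ := by
    intro j
    induction j with
    | zero => intro e; simp
    | succ j ih =>
      intro e
      rw [Function.iterate_succ_apply', hconj, ih, pow_succ']
      group
  have hiter : ∀ j : ℕ, ∀ e : E, (((cE : E → E)^[j] e : E) : G) = g ^ j * e * (g ^ j)⁻¹ := by
    intro j
    induction j with
    | zero => intro e; simp
    | succ j ih =>
      intro e
      rw [Function.iterate_succ_apply']
      show g * _ * g⁻¹ = _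
      rw [ih, pow_succ']
      group
  have hπn : π ^ orderOf g = 1 := Cfsg.Agent.S2119.injective_conjNormal (α := Fin (2 * m + 1)) (by simp; omega) (by
    rw [map_one]
    refine MulEquiv.ext fun s => Subtype.ext ?_
    obtain ⟨e, he⟩ : (s : Equiv.Perm (Fin (2 * m + 1))) ∈ D.ρ.range := by rw [D.range_eq]; exact s.2
    rw [MulAut.conjNormal_apply, MulAut.one_apply, ← he, ← hpow]
    congr 1
    exact Subtype.ext (by rw [hiter, pow_orderOf_eq_one, one_mul, inv_one, mul_one]))
  have hsign : π ∈ D.ρ.range := by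
    rw [D.range_eq, Equiv.Perm.mem_alternatingGroup]
    rcases Int.units_eq_one_or (Equiv.Perm.sign π) with h | h
    · exact h
    · have := congrArg Equiv.Perm.sign hπn
      rw [map_pow, h, hodd.neg_one_pow, map_one] at this
      exact absurd this (by decide)
  obtain ⟨e, he⟩ := hsign
  refine mem_actsAsE_of_act hb ⟨g, hg⟩ e.2 (MulEquiv.ext fun x => ?_)
  obtain ⟨u, rfl⟩ := cls_surj x
  rw [act_cls, act_cls, cls_eq hb]
  have hψ : D.ψ (cj ⟨g, hg⟩ u) = D.ψ (cj (⟨e, Subgroup.le_normalizer e.2⟩ : N) u) := Multiplicative.toAdd.injective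
    (funext fun i => by
      rw [D.compat e u (cj (⟨e, Subgroup.le_normalizer e.2⟩ : N) u) rfl, he, ← congrFun (hTall u) (π⁻¹ i)]
      simp [T])
  have := (D.ker ((cj (⟨g, hg⟩ : N) u)⁻¹ * cj (⟨e, Subgroup.le_normalizer e.2⟩ : N) u)).1 (by
    rw [map_mul, map_inv, hψ, inv_mul_cancel])
  simpa using this

/-- Elements of order prime to `p` in the Baumann subgroup act as elements of the block. -/
theorem coprime_mem_actsAsE (hb : IsBlock p E) (hs : E.IsSubnormal) {g : G} (hg : g ∈ baumannSubgroup p G)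
    (hcop : (orderOf g).Coprime p) : g ∈ actsAsE hb := by
  rcases exists_coords hb with ⟨F, _, _, ⟨D⟩⟩ | ⟨m, ⟨D⟩⟩
  · exact coprime_mem_actsAsE_lin D hb hs hg hcop
  · exact coprime_mem_actsAsE_alt D hb (baumannSubgroup_le_normalizer hb hs hg) hcop

end CfsgLib.BaumannBlock.Subnormal
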