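import Mathlib
import Cfsg.Agent.BaumannBlock.Subnormal.Inner

/-!
A subnormal block is a block for every Sylow subgroup; other blocks are contained in it or centralize it.
-/

set_option autoImplicit false

open scoped MatrixGroups commutatorElement

namespace CfsgLib.BaumannBlock.Subnormal

open Cfsg CentModule

variable {G : Type*} [Group G] [Finite G] {p : ℕ} [Fact p.Prime] {E F : Subgroup G}

theorem sylow_smul_coe (g : G) (T : Sylow p G) :
    ((MulAut.conj g • T : Sylow p G) : Subgroup G) = (T : Subgroup G).map (MulAut.conj g).toMonoidHom := rfl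

/-- A block lies in the Baumann subgroup. -/
theorem block_le_baumann (hb : IsBlock p E) : E ≤ baumannSubgroup p G := by
  obtain ⟨-, T, hT⟩ := hb
  rw [← hT.2.1, Subgroup.commutator_le]
  intro e _ b hb'
  have hmem : ∀ S : Sylow p G, baumannSubgroupOf p (S : Subgroup G) ≤ baumannSubgroup p G := fun S =>
    le_iSup (fun S : Sylow p G => baumannSubgroupOf p (S : Subgroup G)) S
  have h1 : e * b * e⁻¹ ∈ baumannSubgroup p G := by
    refine hmem (MulAut.conj e • T) ?_
    rw [sylow_smul_coe, map_baumannSubgroupOf]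
    exact ⟨b, hb', rfl⟩
  rw [commutatorElement_def]
  exact mul_mem h1 (inv_mem (hmem T hb'))

/-- A subnormal block is a block for every Sylow subgroup. -/
theorem block_all (hb : IsBlock p E) (hs : E.IsSubnormal) (T : Sylow p G) :
    IsBaumannBlock p (T : Subgroup G) E := by
  classical
  obtain ⟨-, T0, hT0⟩ := id hb
  set N := Subgroup.normalizer (E : Set G) with hN
  have hBN := fun S : Sylow p G => baumann_le_normalizer hb hs S
  have hBp : ∀ S : Sylow p G, IsPGroup p ((baumannSubgroupOf p (S : Subgroup G)).subgroupOf N) := fun S =>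
    (S.2.to_le (baumannSubgroupOf_le _)).of_equiv (Subgroup.subgroupOfEquivOfLe (hBN S)).symm
  obtain ⟨R0, hR0⟩ := (hBp T0).exists_le_sylow
  obtain ⟨R, hR⟩ := (hBp T).exists_le_sylow
  obtain ⟨n, hn⟩ := MulAction.exists_smul_eq N R0 R
  obtain ⟨T1, hT1⟩ := (R.2.map N.subtype).exists_le_sylow
  have hB1 : baumannSubgroupOf p (T1 : Subgroup G) = baumannSubgroupOf p (T : Subgroup G) :=
    (eq_of_baumann_le T T1 fun b hb' => hT1 ⟨⟨b, hBN T hb'⟩, hR hb', rfl⟩).2
  have hB2 : baumannSubgroupOf p ((MulAut.conj (n : G) • T0 : Sylow p G) : Subgroup G) =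
      baumannSubgroupOf p (T1 : Subgroup G) := by
    refine ((eq_of_baumann_le (MulAut.conj (n : G) • T0) T1 ?_).2).symm
    rw [sylow_smul_coe, map_baumannSubgroupOf]
    rintro _ ⟨b, hb', rfl⟩
    refine hT1 ⟨n * ⟨b, hBN T0 hb'⟩ * n⁻¹, ?_, rfl⟩
    rw [← hn]
    exact ⟨⟨b, hBN T0 hb'⟩, hR0 hb', rfl⟩
  have hblock : IsBaumannBlock p ((MulAut.conj (n : G) • T0 : Sylow p G) : Subgroup G) E := by
    have h := map_block (n : G) hT0
    have hE : E.map (MulAut.conj (n : G)).toMonoidHom = E := Subgroup.mem_normalizer_iff_map_conj_eq.1 n.2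
    rw [hE] at h
    exact h
  obtain ⟨h1, h2, h3, -, h5⟩ := hblock
  rw [hB2, hB1] at h2 h5
  refine ⟨h1, h2, h3, ?_, h5⟩
  -- a `T`-invariant element moved by the block
  set P := (T : Subgroup G) ⊓ N with hP
  obtain ⟨x, -, hx1, hx⟩ := exists_fixed hb (P := P.subgroupOf N)
    ((T.2.to_le inf_le_left).of_equiv (Subgroup.subgroupOfEquivOfLe inf_le_right).symm) ⊤
    (fun _ _ _ _ => Subgroup.mem_top _) (fun h => by
      have := sec_card_ge hb
      rw [← Subgroup.card_top, h, Subgroup.card_bot] at this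
      omega)
  obtain ⟨w, rfl⟩ := cls_surj x
  obtain ⟨u, hu, hfix⟩ := exists_fixed_lift hb (inf_le_right : P ≤ N) w fun g hg => hx ⟨g, _⟩ hg
  have huE : (u : G) ∉ Subgroup.centralizer (E : Set G) := fun h => hx1 (hu ▸ (cls_eq_one hb).2 h)
  let V := omegaOneCenter p (pCore p G)
  let Q := (T : Subgroup G) ⧸ P.subgroupOf (T : Subgroup G)
  letI : Fintype Q := Fintype.ofFinite _
  let r : ↥(T : Subgroup G) → V := fun t => ⟨(t : G) * u * (t : G)⁻¹, normal_V_conj _ _ (hb.facts.le_V u.2)⟩
  have hr : ∀ t t' : ↥(T : Subgroup G), (QuotientGroup.mk t : Q) = QuotientGroup.mk t' → r t = r t' := by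
    intro t t' h
    rw [QuotientGroup.eq, Subgroup.mem_subgroupOf] at h
    have h' := hfix _ h
    refine Subtype.ext ?_
    show (t : G) * u * (t : G)⁻¹ = (t' : G) * u * (t' : G)⁻¹
    conv_lhs => rw [← h']
    simp only [Subgroup.coe_mul, Subgroup.coe_inv]
    group
  let term : Q → V := fun x => r x.out
  letI : CommGroup V :=
    { (inferInstance : Group V) with mul_comm := fun a b => Subtype.ext (V_comm a.2 b.2) }
  set W : V := ∏ x, term x with hW
  have hWfix : ∀ t ∈ (T : Subgroup G), t * (W : G) * t⁻¹ = W := by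
    intro t ht
    let c : V →* V := MonoidHom.mk' (fun v => ⟨t * v * t⁻¹, normal_V_conj _ _ v.2⟩)
      (fun a b => Subtype.ext (by simp [mul_assoc]))
    have hterm : ∀ x : Q, c (term x) = term ((⟨t, ht⟩ : (T : Subgroup G)) • x) := fun x => by
      have h := hr (⟨t, ht⟩ * x.out) ((⟨t, ht⟩ : (T : Subgroup G)) • x).out (by
        rw [QuotientGroup.out_eq', ← smul_eq_mul, ← MulAction.Quotient.smul_mk, QuotientGroup.out_eq'])
      refine Eq.trans (Subtype.ext ?_) h
      show t * ((x.out : G) * u * (x.out : G)⁻¹) * t⁻¹ = (t * (x.out : G)) * u * (t * (x.out : G))⁻¹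
      group
    have h2 : c W = W := by
      rw [hW, map_prod, Finset.prod_congr rfl fun x _ => hterm x]
      exact Equiv.prod_comp (MulAction.toPerm (⟨t, ht⟩ : (T : Subgroup G))) term
    exact congrArg Subtype.val h2
  have hWE : (W : G) ∉ Subgroup.centralizer (E : Set G) := by
    intro hWc
    let x0 : Q := QuotientGroup.mk 1
    have hx0 : (term x0 : G) = u := by
      have := hr x0.out 1 (by rw [QuotientGroup.out_eq'])
      show (r x0.out : G) = u
      rw [this]; simp [r]
    have hrest : ∀ s : Finset Q, x0 ∉ s → ((∏ x ∈ s, term x : V) : G) ∈ Subgroup.centralizer (E : Set G) := by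
      intro s
      induction s using Finset.induction_on with
      | empty => intro _; simp
      | insert x s hxs ih =>
        intro hx0
        rw [Finset.mem_insert, not_or] at hx0
        rw [Finset.prod_insert hxs, Subgroup.coe_mul]
        refine mul_mem (conj_central hb hs (fun h => hx0.1 ?_) u.2) (ih hx0.2)
        rw [← QuotientGroup.out_eq' x]
        exact QuotientGroup.eq.2 (by
          rw [Subgroup.mem_subgroupOf, inv_one, one_mul]
          exact Subgroup.mem_inf.2 ⟨x.out.2, h⟩)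
    rw [hW, ← Finset.mul_prod_erase Finset.univ term (Finset.mem_univ x0), Subgroup.coe_mul, hx0] at hWc
    have := mul_mem hWc (inv_mem (hrest (Finset.univ.erase x0) (Finset.notMem_erase x0 _)))
    rw [mul_inv_cancel_right] at this
    exact huE this
  intro hbot
  refine hWE (Subgroup.mem_centralizer_iff.2 fun e he => ?_)
  have hmem : (W : G) ∈ omegaOneCenter p (T : Subgroup G) :=
    mem_omegaOneCenter (O_le_sylow T (omegaOneCenter_le _ W.2))
      (fun t ht => (mul_inv_eq_iff_eq_mul.1 (hWfix t ht)).symm) (omegaOneCenter_pow _ W.2)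
  exact commutatorElement_eq_one_iff_mul_comm.1
    (Subgroup.mem_bot.1 (hbot ▸ Subgroup.commutator_mem_commutator he hmem))

/-- An element of order prime to `p` of a linear block moving the module moves all of it. -/
theorem LinCoords.moves_all {K : Type} [Field K] [Finite K] (D : LinCoords p E K) (hb : IsBlock p E) (hp : p ≠ 2)
    {f : G} (hf : f ∈ actsAsE hb) (hcop : (orderOf f).Coprime p)
    (hmove : f ∉ Subgroup.centralizer (blockMod p E : Set G)) {U' : Subgroup G}
    (hU' : ∀ u ∈ blockMod p E, ⁅u, f⁆ ∈ U') : blockMod p E ≤ U' := by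
  haveI := Fintype.ofFinite K
  haveI : CharP K p := (field_cases D).1
  obtain ⟨hfn, e, he, hfe⟩ := hf
  have hpow : ∀ j : ℕ, ∀ u ∈ blockMod p E, f ^ j * u * (f ^ j)⁻¹ = e ^ j * u * (e ^ j)⁻¹ := by
    intro j
    induction j with
    | zero => intro u _; simp
    | succ j ih =>
      intro u hu
      calc f ^ (j + 1) * u * (f ^ (j + 1))⁻¹ = f * (f ^ j * u * (f ^ j)⁻¹) * f⁻¹ := by rw [pow_succ']; group
        _ = e * (e ^ j * u * (e ^ j)⁻¹) * e⁻¹ := by
          rw [ih u hu]
          exact hfe _ ((Subgroup.mem_normalizer_iff.1 (hb.facts.normU (pow_mem he j)) u).1 hu)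
        _ = _ := by rw [pow_succ']; group
  set s := D.ρ ⟨e, he⟩ with hs
  have hsn : s ^ orderOf f = 1 := by
    rw [hs, ← map_pow]
    refine (D.ρ_ker _).2 (mem_pCoreOf_of_centralizes hb (pow_mem he _) (Subgroup.mem_centralizer_iff.2 fun u hu => ?_))
    have h := hpow (orderOf f) u hu
    rw [pow_orderOf_eq_one, one_mul, inv_one, mul_one, eq_comm, mul_inv_eq_iff_eq_mul] at h
    exact h.symm
  have hdet : (1 - s.1).det ≠ 0 := by
    intro hd
    have htr : s.1 0 0 + s.1 1 1 = 2 := by
      have h1 := s.2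
      rw [Matrix.det_fin_two] at h1
      rw [Matrix.det_fin_two] at hd
      simp only [Matrix.sub_apply, Matrix.one_apply_eq, Matrix.one_apply_ne (show (0 : Fin 2) ≠ 1 by decide),
        Matrix.one_apply_ne (show (1 : Fin 2) ≠ 0 by decide)] at hd
      linear_combination -hd + h1
    have hsq : (s.1 - 1) ^ 2 = 0 := by
      have h1 := s.2
      rw [Matrix.det_fin_two] at h1
      rw [pow_two]
      ext i j
      fin_cases i <;> fin_cases j <;> simp [Matrix.mul_apply, Fin.sum_univ_two]
      · linear_combination s.1 0 0 * htr - h1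
      · linear_combination s.1 0 1 * htr
      · linear_combination s.1 1 0 * htr
      · linear_combination s.1 1 1 * htr - h1
    have hp2 := (Fact.out : p.Prime).two_le
    have hsp : s ^ p = 1 := by
      refine Subtype.ext ?_
      rw [Matrix.SpecialLinearGroup.coe_pow, Matrix.SpecialLinearGroup.coe_one]
      have h := sub_pow_char_of_commute (p := p) (Commute.one_right s.1)
      rw [one_pow] at h
      have h0 : (s.1 - 1) ^ p = 0 := by
        rw [show p = 2 + (p - 2) by omega, pow_add, hsq, zero_mul]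
      rw [h0, eq_comm, sub_eq_zero] at h
      exact h
    have hs1 : s = 1 := orderOf_eq_one_iff.1 (Nat.eq_one_of_dvd_coprimes hcop (orderOf_dvd_of_pow_eq_one hsn)
      (orderOf_dvd_of_pow_eq_one hsp))
    refine hmove (Subgroup.mem_centralizer_iff.2 fun u hu => ?_)
    have h1 := hfe u hu
    rw [mem_Q_conj_eq hb ((D.ρ_ker _).1 hs1) hu, mul_inv_eq_iff_eq_mul] at h1
    exact h1.symm
  intro v hv
  haveI : Invertible (1 - s.1).det := invertibleOfNonzero hdet
  haveI := Matrix.invertibleOfDetInvertible (1 - s.1)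
  obtain ⟨u, hu⟩ := D.psi_surj ((⅟(1 - s.1)).mulVec (D.ψ ⟨v, hv⟩).toAdd)
  have hm : (u : G) * (e * (u : G)⁻¹ * e⁻¹) ∈ blockMod p E :=
    mul_mem u.2 ((Subgroup.mem_normalizer_iff.1 (hb.facts.normU he) _).1 (inv_mem u.2))
  have h : D.ψ ⟨_, hm⟩ = D.ψ ⟨v, hv⟩ := Multiplicative.toAdd.injective (by
    have hm2 := (Subgroup.mem_normalizer_iff.1 (hb.facts.normU he) _).1 (inv_mem u.2)
    rw [show (⟨_, hm⟩ : blockMod p E) = u * ⟨_, hm2⟩ from rfl, map_mul, toAdd_mul,
      D.compat ⟨e, he⟩ u⁻¹ ⟨_, hm2⟩ rfl, map_inv, toAdd_inv, ← hs, Matrix.mulVec_neg, ← sub_eq_add_neg,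
      show (D.ψ u).toAdd - s.1.mulVec (D.ψ u).toAdd = (1 - s.1).mulVec (D.ψ u).toAdd by
        rw [Matrix.sub_mulVec, Matrix.one_mulVec],
      hu, Matrix.mulVec_mulVec, mul_invOf_self, Matrix.one_mulVec])
  have hinj : Function.Injective D.ψ := (injective_iff_map_eq_one _).2 fun x hx =>
    Subtype.ext ((exists_inverting hb hp).2 x x.2 ((D.ker x).1 hx))
  have hveq : (u : G) * (e * (u : G)⁻¹ * e⁻¹) = v := congrArg Subtype.val (hinj h)
  have := hU' u u.2
  rw [commutatorElement_def, show (u : G) * f * (u : G)⁻¹ * f⁻¹ = u * (f * (u : G)⁻¹ * f⁻¹) by group,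
    hfe _ (inv_mem u.2), hveq] at this
  exact this

/-- A block is contained in a subnormal block or centralizes it. -/
theorem le_or_comm (hbE : IsBlock p E) (hs : E.IsSubnormal) (T : Sylow p G)
    (hTF : IsBaumannBlock p (T : Subgroup G) F) : F ≤ E ∨ ⁅F, E⁆ = ⊥ := by
  have hbF : IsBlock p F := ⟨hbE.1, T, hTF⟩
  have hTE := block_all hbE hs T
  have hFB := block_le_baumann hbF
  have hFE : F ≤ Subgroup.normalizer (E : Set G) := hFB.trans (baumannSubgroup_le_normalizer hbE hs)
  have hFact : F ≤ actsAsE hbE := le_of_coprime hbF fun x hx hc => coprime_mem_actsAsE hbE hs (hFB hx) hc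
  have hFU : F ≤ Subgroup.normalizer (blockMod p E : Set G) := hFE.trans normalizer_le_normalizer_blockMod
  set U := blockMod p E with hU
  by_cases hcent : F ≤ Subgroup.centralizer (U : Set G)
  · right
    have hQ : ∀ e ∈ E, ∀ f ∈ F, ⁅e, f⁆ ∈ pCoreOf p E := by
      intro e he f hf
      have hmem : ⁅e, f⁆ ∈ E := by
        rw [commutatorElement_def, show e * f * e⁻¹ * f⁻¹ = e * (f * e⁻¹ * f⁻¹) by group]
        exact mul_mem he ((Subgroup.mem_normalizer_iff.1 (hFE hf) _).1 (inv_mem he))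
      refine mem_pCoreOf_of_centralizes hbE hmem ?_
      rw [commutatorElement_def]
      exact mul_mem ((Subgroup.mem_normalizer_iff.1
        (normalizer_le_normalizer_centralizer _ (hbE.facts.normU he)) f).1 (hcent hf)) (inv_mem (hcent hf))
    have hQN : pCoreOf p E ≤ Subgroup.normalizer (F : Set G) := (pCoreOf_le_O hs).trans hbF.facts.O_le
    have hEF : E ≤ Subgroup.normalizer (F : Set G) := by
      have key : ∀ e ∈ E, ∀ f ∈ F, e * f * e⁻¹ ∈ F := by
        intro e he
        suffices h : F ≤ F.comap (MulAut.conj e).toMonoidHom from fun f hf => h hf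
        refine le_of_coprime hbF fun x hx hc => ?_
        show e * x * e⁻¹ ∈ F
        refine mem_of_coprime_of_mem_sup (isPGroup_pCoreOf E) hQN ?_ ?_
        · have := mul_mem (Subgroup.mem_sup_right (S := F) (hQ e he x hx)) (Subgroup.mem_sup_left (T := pCoreOf p E) hx)
          rwa [commutatorElement_def, inv_mul_cancel_right] at this
        · rwa [show orderOf (e * x * e⁻¹) = orderOf x by rw [← MulAut.conj_apply, MulEquiv.orderOf_eq]]
      intro e he
      rw [Subgroup.mem_normalizer_iff]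
      exact fun f => ⟨key e he f, fun h => by simpa [mul_assoc] using key e⁻¹ (inv_mem he) _ h⟩
    have hD : ∀ f ∈ F, ∀ e ∈ E, ⁅f, e⁆ ∈ Subgroup.centralizer (blockMod p F : Set G) := by
      intro f hf e he
      refine pCoreOf_le_centralizer hbF ?_
      have h1 : ⁅f, e⁆ ∈ F ⊓ pCoreOf p E := Subgroup.mem_inf.2 ⟨by
          rw [commutatorElement_def, show f * e * f⁻¹ * e⁻¹ = f * (e * f⁻¹ * e⁻¹) by group]
          exact mul_mem hf ((Subgroup.mem_normalizer_iff.1 (hEF he) _).1 (inv_mem hf)),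
        by rw [← commutatorElement_inv]; exact inv_mem (hQ e he f hf)⟩
      refine le_pCoreOf inf_le_left (fun g hg => ?_) ((isPGroup_pCoreOf E).to_le inf_le_right) h1
      rw [Subgroup.mem_normalizer_iff_map_conj_eq, Subgroup.map_inf _ _ _ (MulAut.conj g).injective,
        Subgroup.mem_normalizer_iff_map_conj_eq.1 (Subgroup.le_normalizer hg)]
      congr 1
      show (pCoreOf p E).map (MulAut.conj g).toMonoidHom = _
      rw [map_pCoreOf_conj]
      exact congrArg (pCoreOf p) (Subgroup.mem_normalizer_iff_map_conj_eq.1 (hFE hg))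
    rw [Subgroup.commutator_comm]
    exact comm_of_central hbE hbF hEF hFE hcent (centralizes_symm hbE hbF hEF hcent hD)
  left
  obtain ⟨f0, hf0, hf0c, hf0m⟩ : ∃ f ∈ F, (orderOf f).Coprime p ∧ f ∉ Subgroup.centralizer (U : Set G) := by
    by_contra! h
    exact hcent (le_of_coprime hbF h)
  -- the module of `F` lies in that of `E`
  set U' := ⁅U, F⁆ with hU'
  have hU'U : U' ≤ U := by
    rw [hU', Subgroup.commutator_le]
    intro u hu f hf
    rw [commutatorElement_def, show u * f * u⁻¹ * f⁻¹ = u * (f * u⁻¹ * f⁻¹) by group]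
    exact mul_mem hu ((Subgroup.mem_normalizer_iff.1 (hFU hf) _).1 (inv_mem hu))
  have hU'F : U' ≤ blockMod p F := Subgroup.commutator_mono hbE.facts.le_V le_rfl
  have hU'n : F ≤ Subgroup.normalizer (U' : Set G) := fun f hf => by
    rw [Subgroup.mem_normalizer_iff_map_conj_eq, hU', Subgroup.map_commutator,
      Subgroup.mem_normalizer_iff_map_conj_eq.1 (hFU hf),
      Subgroup.mem_normalizer_iff_map_conj_eq.1 (Subgroup.le_normalizer hf)]
  have hUF : blockMod p F ≤ U := by
    rcases hbF.facts.irr U' hU'n hU'F with h | h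
    swap
    · exact h.symm.le.trans hU'U
    exfalso
    refine hf0m (Subgroup.mem_centralizer_iff.2 fun u hu => ?_)
    have hz : ⁅u, f0⁆⁻¹ ∈ U' := inv_mem (Subgroup.commutator_mem_commutator hu hf0)
    refine (commute_of_stabilizes (z := ⁅u, f0⁆⁻¹) hf0c ?_ ?_
      ⟨1, by rw [pow_one]; exact omegaOneCenter_pow _ (hbF.facts.le_V (hU'F hz))⟩).symm
    · rw [commutatorElement_def]; group
    · exact Subgroup.mem_centralizer_iff.1 (h hz) f0 hf0
  by_cases hp : p = 2
  swap
  · have hUU : blockMod p E = blockMod p F := by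
      refine le_antisymm ?_ hUF
      rcases exists_coords hbE with ⟨K, _, _, ⟨D⟩⟩ | ⟨m, ⟨D⟩⟩
      · exact D.moves_all hbE hp (hFact hf0) hf0c hf0m fun u hu =>
          hU'F (Subgroup.commutator_mem_commutator hu hf0)
      · exact absurd D.p_eq hp
    exact le_of_same_action hbE hbF T T hTE hTF hFE hUU (fun f hf => (hFact hf).2) (Or.inl rfl)
  -- the even case
  have htE : ∀ o ∈ pCore p G, ∀ e ∈ E, ⁅o, e⁆ ∈ U := by
    rcases trivial_or_exc hbE T hTE with h | ⟨K, _, _, D, h3, -⟩
    · exact h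
    · omega
  have htF : ∀ o ∈ pCore p G, ∀ f ∈ F, ⁅o, f⁆ ∈ U := by
    rcases trivial_or_exc hbF T hTF with h | ⟨K, _, _, D, h3, -⟩
    · exact fun o ho f hf => hUF (h o ho f hf)
    · omega
  set X := E ⊔ F with hX
  set H := Subgroup.centralizer (U : Set G) ⊓ X with hH
  have hHE : H ≤ Subgroup.normalizer (E : Set G) := inf_le_right.trans (sup_le Subgroup.le_normalizer hFE)
  suffices hHp : IsPGroup p H by
    refine le_of_coprime hbF fun x hx hcop => ?_
    obtain ⟨-, e, he, heq⟩ := hFact hx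
    refine mem_of_coprime_of_mem_sup hHp hHE ?_ hcop
    have hm : x * e⁻¹ ∈ H := Subgroup.mem_inf.2 ⟨div_mem_centralizer (hbE.facts.normU he) heq,
      mul_mem (Subgroup.mem_sup_right hx) (inv_mem (Subgroup.mem_sup_left he))⟩
    simpa using mul_mem (Subgroup.mem_sup_right (S := E) hm) (Subgroup.mem_sup_left (T := H) he)
  let S : Subgroup G :=
    { carrier := {g | g ∈ Subgroup.normalizer (U : Set G) ∧ ∀ o ∈ pCore p G, g * o * g⁻¹ * o⁻¹ ∈ U}
      one_mem' := ⟨one_mem _, fun o _ => by simp⟩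
      mul_mem' := by
        rintro a b ⟨ha, ha'⟩ ⟨hb, hb'⟩
        refine ⟨mul_mem ha hb, fun o ho => ?_⟩
        rw [show a * b * o * (a * b)⁻¹ * o⁻¹ = a * (b * o * b⁻¹ * o⁻¹) * a⁻¹ * (a * o * a⁻¹ * o⁻¹) by group]
        exact mul_mem ((Subgroup.mem_normalizer_iff.1 ha _).1 (hb' o ho)) (ha' o ho)
      inv_mem' := by
        rintro a ⟨ha, ha'⟩
        refine ⟨inv_mem ha, fun o ho => ?_⟩
        rw [show a⁻¹ * o * a⁻¹⁻¹ * o⁻¹ = a⁻¹ * (a * o * a⁻¹ * o⁻¹)⁻¹ * a⁻¹⁻¹ by group]
        exact (Subgroup.mem_normalizer_iff.1 (inv_mem ha) _).1 (inv_mem (ha' o ho)) }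
  have hmk : ∀ (Y : Subgroup G), Y ≤ Subgroup.normalizer (U : Set G) →
      (∀ o ∈ pCore p G, ∀ y ∈ Y, ⁅o, y⁆ ∈ U) → Y ≤ S := fun Y hY h y hy => ⟨hY hy, fun o ho => by
    have := inv_mem (h o ho y hy)
    rwa [commutatorElement_inv, commutatorElement_def] at this⟩
  have hXS : X ≤ S := sup_le (hmk E hbE.facts.normU htE) (hmk F hFU htF)
  refine CfsgLib.LocalP.isPGroup_of_forall_coprime _ fun x hx hcop => ?_
  obtain ⟨h1, h2⟩ := Subgroup.mem_inf.1 hx
  obtain ⟨-, h3⟩ := hXS h2
  refine CfsgLib.LocalP.eq_one_of_mem_of_coprime pgroup_O (hbE.1 (Subgroup.mem_centralizer_iff.2 fun o ho => ?_)) hcop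
  refine (commute_of_stabilizes hcop (inv_mul_cancel_right _ _).symm
    (Subgroup.mem_centralizer_iff.1 h1 _ (h3 o ho)).symm ?_).symm
  exact ⟨1, by rw [pow_one]; exact omegaOneCenter_pow _ (hbE.facts.le_W (h3 o ho))⟩

end CfsgLib.BaumannBlock.Subnormal
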